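import Cfsg.Agent.Lib.LinTwo.Main

/-!
# A normal elementary abelian 2-subgroup containing all involutions
-/

namespace CfsgLib.Pyramidal

open CfsgLib.LinTwo

/-- Automorphisms of a commutative group, as linear maps over the field with two elements. -/
def linOf (A : Type*) [CommGroup A] [Module K2 (Additive A)] :
    MulAut A →* (Additive A ≃ₗ[K2] Additive A) where
  toFun f :=
    { (f.toMonoidHom.toAdditive.toZModLinearMap 2 : Additive A →ₗ[K2] Additive A) with
      invFun := fun v => Additive.ofMul (f.symm v.toMul)
      left_inv := fun v => by simp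
      right_inv := fun v => by simp }
  map_one' := LinearEquiv.ext fun _ => rfl
  map_mul' _ _ := LinearEquiv.ext fun _ => rfl

lemma linOf_apply {A : Type*} [CommGroup A] [Module K2 (Additive A)] (f : MulAut A) (v : Additive A) :
    linOf A f v = Additive.ofMul (f v.toMul) := rfl

lemma linOf_injective (A : Type*) [CommGroup A] [Module K2 (Additive A)] :
    Function.Injective (linOf A) := fun f f' h => MulEquiv.ext fun a =>
  congrArg Additive.toMul (LinearEquiv.congr_fun h (Additive.ofMul a))

/-- `E` is a normal elementary abelian 2-subgroup containing every involution. -/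
structure Inv {X : Type*} [Group X] (E : Subgroup X) : Prop where
  normal : E.Normal
  exp : ∀ e ∈ E, e * e = 1
  invol : ∀ x : X, x * x = 1 → x ∈ E

namespace Inv

variable {X : Type*} [Group X] {E : Subgroup X} (hI : Inv E)
include hI

lemma comm {a b : X} (ha : a ∈ E) (hb : b ∈ E) : a * b = b * a := by
  have h := hI.exp _ (mul_mem ha hb)
  have h1 : a⁻¹ = a := inv_eq_of_mul_eq_one_right (hI.exp a ha)
  have h2 : b⁻¹ = b := inv_eq_of_mul_eq_one_right (hI.exp b hb)
  calc a * b = (a * b)⁻¹ := (inv_eq_of_mul_eq_one_right h).symm
    _ = b * a := by rw [mul_inv_rev, h1, h2]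

lemma inv_eq {a : X} (ha : a ∈ E) : a⁻¹ = a := inv_eq_of_mul_eq_one_right (hI.exp a ha)

/-- The commutative group structure on `E`. -/
@[reducible] def commGroup : CommGroup E :=
  { (inferInstance : Group E) with mul_comm := fun a b => Subtype.ext (hI.comm a.2 b.2) }

/-- `E` as a space over the field with two elements. -/
@[reducible] def module :
    letI := hI.commGroup
    Module K2 (Additive E) :=
  letI := hI.commGroup
  AddCommGroup.zmodModule fun v => by
    rw [two_nsmul]
    exact Subtype.ext (hI.exp v.toMul.1 v.toMul.2)

/-- Conjugation on `E`. -/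
def conj : X →* MulAut E :=
  haveI := hI.normal
  MulAut.conjNormal

lemma conj_apply (x : X) (e : E) : ((hI.conj x e : E) : X) = x * e * x⁻¹ := rfl

/-- Conjugation on `E` as linear maps. -/
def lin :
    letI := hI.commGroup
    letI := hI.module
    X →* (Additive E ≃ₗ[K2] Additive E) :=
  letI := hI.commGroup
  letI := hI.module
  (linOf E).comp hI.conj

lemma conj_eq_one_iff (x : X) : hI.conj x = 1 ↔ x ∈ Subgroup.centralizer (E : Set X) := by
  constructor
  · intro h e he
    have h1 : x * e * x⁻¹ = e := congrArg Subtype.val (MulEquiv.ext_iff.1 h ⟨e, he⟩)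
    rw [mul_inv_eq_iff_eq_mul] at h1
    exact h1.symm
  · intro h
    refine MulEquiv.ext fun e => Subtype.ext ?_
    rw [hI.conj_apply, ← h e.1 e.2, mul_inv_cancel_right]
    rfl

lemma restrict (Y : Subgroup X) : Inv (E.subgroupOf Y) where
  normal := by haveI := hI.normal; infer_instance
  exp e he := Subtype.ext (hI.exp e.1 he)
  invol x hx := hI.invol x.1 (congrArg Subtype.val hx)

end Inv

end CfsgLib.Pyramidal
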