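import Cfsg.Agent.Lib.Pyramidal.Three

/-!
# No equivariant anisotropic quadratic map from a six-dimensional space onto `V3`
-/

namespace CfsgLib.Pyramidal

open CfsgLib.LinTwo

/-- The automorphisms of `V3` that are used. -/
abbrev t12 (v : V3) : V3 := ![v 0 + v 1, v 1, v 2]
@[inherit_doc t12] abbrev t13 (v : V3) : V3 := ![v 0 + v 2, v 1, v 2]
@[inherit_doc t12] abbrev t23 (v : V3) : V3 := ![v 0, v 1 + v 2, v 2]
@[inherit_doc t12] abbrev t32 (v : V3) : V3 := ![v 0, v 1, v 2 + v 1]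
@[inherit_doc t12] abbrev t21 (v : V3) : V3 := ![v 0, v 1 + v 0, v 2]
@[inherit_doc t12] abbrev t31 (v : V3) : V3 := ![v 0, v 1, v 2 + v 0]
@[inherit_doc t12] abbrev p12 (v : V3) : V3 := ![v 1, v 0, v 2]
@[inherit_doc t12] abbrev p13 (v : V3) : V3 := ![v 2, v 1, v 0]
@[inherit_doc t12] abbrev p23 (v : V3) : V3 := ![v 0, v 2, v 1]

/-- Elements of order seven. -/
abbrev sev (i : Fin 6) (v : V3) : V3 :=
  ![![v 0 + v 1 + v 2, v 0 + v 2, v 1 + v 2], ![v 0 + v 1 + v 2, v 0, v 0 + v 2],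
    ![v 0 + v 1 + v 2, v 1 + v 2, v 0 + v 1], ![v 0 + v 1 + v 2, v 0 + v 1, v 0],
    ![v 0 + v 2, v 0 + v 1 + v 2, v 0 + v 1], ![v 0 + v 1, v 0 + v 2, v 0 + v 1 + v 2]] i

lemma sev_add : ∀ i u v, sev i (u + v) = sev i u + sev i v := by decide +kernel
lemma sev_inj : ∀ i u v, sev i u = sev i v → u = v := by decide +kernel
lemma sev_order : ∀ i v, (sev i)^[7 ^ 1] v = v := by decide +kernel

/-- An equivariant anisotropic quadratic map with free kernel action. -/
structure Quad {X : Type*} [Group X] {E : Subgroup X} (T : Three E) (W : Type*) [AddCommGroup W]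
    [Module K2 W] where
  A : X →* (W ≃ₗ[K2] W)
  q : W → V3
  B : W →+ W →+ V3
  q_add : ∀ u v, q (u + v) = q u + q v + B u v
  ani : ∀ v, q v = 0 → v = 0
  equiv : ∀ x v, q (A x v) = T.ρ x (q v)
  free : ∀ x w, T.ρ x = 1 → A x w = w → w ≠ 0 → A x = 1

namespace Quad

variable {X : Type*} [Group X] {E : Subgroup X} {T : Three E} {W : Type*} [AddCommGroup W]
    [Module K2 W] (D : Quad T W)

lemma q_zero : D.q 0 = 0 := by
  have h := D.q_add 0 0
  simp only [add_zero, map_zero, AddMonoidHom.zero_apply] at h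
  exact left_eq_add.1 h

lemma B_self (v : W) : D.B v v = 0 := by
  have h := D.q_add v v
  rwa [ZModModule.add_self, D.q_zero, ZModModule.add_self, zero_add, eq_comm] at h

lemma B_eq (u v : W) : D.B u v = D.q (u + v) + D.q u + D.q v := by
  rw [D.q_add]
  calc D.B u v = (D.q u + D.q u) + (D.q v + D.q v) + D.B u v := by
        rw [ZModModule.add_self, ZModModule.add_self, zero_add, zero_add]
    _ = _ := by abel

lemma B_comm (u v : W) : D.B u v = D.B v u := by rw [D.B_eq, D.B_eq, add_comm u v]; abel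

lemma B_equiv (x : X) (u v : W) : D.B (D.A x u) (D.A x v) = T.ρ x (D.B u v) := by
  rw [D.B_eq, D.B_eq, ← map_add, D.equiv, D.equiv, D.equiv, T.ρ_add, T.ρ_add]

lemma ker_invol {x : X} (hx : T.ρ x = 1) (h : D.A x * D.A x = 1) : D.A x = 1 := by
  by_cases hall : ∀ w, D.A x w = w
  · exact LinearEquiv.ext hall
  push Not at hall
  obtain ⟨w, hw⟩ := hall
  refine D.free x (w + D.A x w) hx ?_ fun h0 => hw ?_
  · rw [map_add, show D.A x (D.A x w) = w from LinearEquiv.congr_fun h w, add_comm]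
  · calc D.A x w = w + (w + D.A x w) := by rw [← add_assoc, ZModModule.add_self, zero_add]
      _ = w := by rw [h0, add_zero]

lemma ker_two {x : X} (hx : T.ρ x = 1) : ∀ {i : ℕ}, D.A x ^ 2 ^ i = 1 → D.A x = 1
  | 0, h => by simpa using h
  | i + 1, h => by
    have h1 : D.A (x ^ 2 ^ i) = 1 := D.ker_invol (by rw [map_pow, hx, one_pow]) (by
      rw [map_pow, ← pow_add, ← two_mul, ← pow_succ']
      exact h)
    exact ker_two hx (by rw [← map_pow]; exact h1)

/-- The image of the kernel. -/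
def Y : Subgroup (W ≃ₗ[K2] W) := T.ρ.ker.map D.A

lemma fibre_invariant {y : W ≃ₗ[K2] W} (hy : y ∈ D.Y) (w : W) : D.q (y w) = D.q w := by
  obtain ⟨c, hc, rfl⟩ := hy
  rw [D.equiv, show T.ρ c = 1 from hc]
  rfl

include D in
lemma finite (hW : Nat.card W = 64) : Finite W := Nat.finite_of_card_ne_zero (by omega)

lemma card_fibre [Finite X] (hW : Nat.card W = 64) (e : V3) (he : e ≠ 0) :
    Nat.card {w : W // D.q w = e} = 9 := by
  classical
  haveI := D.finite hW
  haveI := Fintype.ofFinite W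
  let F : V3 → ℕ := fun e => (Finset.univ.filter fun w : W => D.q w = e).card
  have hF0 : F 0 = 1 := Finset.card_eq_one.2 ⟨0, by
    ext w
    simp only [Finset.mem_filter, Finset.mem_univ, true_and, Finset.mem_singleton]
    exact ⟨D.ani w, fun h => h ▸ D.q_zero⟩⟩
  have htr : ∀ a b : V3, a ≠ 0 → b ≠ 0 → ∃ x : X, T.ρ x a = b := by
    intro a b ha hb
    obtain ⟨⟨a, haE⟩, rfl⟩ := T.ι.surjective a
    obtain ⟨⟨b, hbE⟩, rfl⟩ := T.ι.surjective b
    obtain ⟨x, hx⟩ := T.trans haE hbE (fun h => ha ((congrArg T.ι (Subtype.ext h)).trans T.ι_one))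
      (fun h => hb ((congrArg T.ι (Subtype.ext h)).trans T.ι_one))
    exact ⟨x, (T.ρ_apply x _).trans (congrArg T.ι (Subtype.ext hx))⟩
  have hF : ∀ a b : V3, a ≠ 0 → b ≠ 0 → F a = F b := by
    intro a b ha hb
    obtain ⟨x, hx⟩ := htr a b ha hb
    refine Finset.card_equiv (D.A x).toEquiv fun w => ?_
    simp only [Finset.mem_filter, Finset.mem_univ, true_and, LinearEquiv.coe_toEquiv, D.equiv,
      ← hx, EmbeddingLike.apply_eq_iff_eq]
  have hsum : ∑ b : V3, F b = 64 := by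
    rw [← hW, Nat.card_eq_fintype_card, ← Finset.card_univ]
    exact (Finset.card_eq_sum_card_fiberwise fun w _ => Finset.mem_univ (D.q w)).symm
  rw [← Finset.add_sum_erase _ _ (Finset.mem_univ (0 : V3)), hF0,
    Finset.sum_congr rfl fun b hb => hF b e (Finset.ne_of_mem_erase hb) he, Finset.sum_const,
    Finset.card_erase_of_mem (Finset.mem_univ _), Finset.card_univ,
    show Fintype.card V3 = 8 by rfl, smul_eq_mul] at hsum
  rw [Nat.card_eq_fintype_card, Fintype.card_subtype]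
  show F e = 9
  omega

lemma card_Y_dvd [Finite X] (hW : Nat.card W = 64) : Nat.card D.Y ∣ 9 := by
  let e : V3 := ![1, 0, 0]
  have he : e ≠ 0 := by decide
  letI : MulAction D.Y {w : W // D.q w = e} :=
    { smul := fun y w => ⟨y.1 w.1, (D.fibre_invariant y.2 w.1).trans w.2⟩
      one_smul := fun w => rfl
      mul_smul := fun y z w => rfl }
  have hst : ∀ w : {w : W // D.q w = e}, MulAction.stabilizer D.Y w = ⊥ := by
    intro w
    refine (Subgroup.eq_bot_iff_forall _).2 fun y hy => ?_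
    obtain ⟨c, hc, hcy⟩ := y.2
    have h1 : y.1 w.1 = w.1 := congrArg Subtype.val hy
    rw [← hcy] at h1
    refine Subtype.ext (hcy.symm.trans (D.free c w.1 hc h1 fun h => he ?_))
    rw [← w.2, h, D.q_zero]
  rw [← D.card_fibre hW e he, Nat.card_congr (MulAction.selfEquivOrbitsQuotientProd hst),
    Nat.card_prod]
  exact dvd_mul_left _ _

/-- Commuting with the image of the kernel. -/
def Cen : Subgroup (W ≃ₗ[K2] W) := Subgroup.centralizer (D.Y : Set (W ≃ₗ[K2] W))

lemma conj_mem_Y (x : X) {y : W ≃ₗ[K2] W} (hy : y ∈ D.Y) : D.A x * y * (D.A x)⁻¹ ∈ D.Y := by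
  obtain ⟨c, hc, rfl⟩ := hy
  exact ⟨x * c * x⁻¹, T.ρ.normal_ker.conj_mem c hc x, by rw [map_mul, map_mul, map_inv]⟩

lemma seven [Finite X] (hW : Nat.card W = 64) (f : V3 → V3)
    (hadd : ∀ u v, f (u + v) = f u + f v) (hinj : ∀ u v, f u = f v → u = v)
    (h7 : ∀ v, f^[7 ^ 1] v = v) : ∃ x : X, (∀ v, T.ρ x v = f v) ∧ D.A x ∈ D.Cen := by
  haveI : Fact (Nat.Prime 7) := ⟨by norm_num⟩
  obtain ⟨x, hx, i, hi⟩ := T.exists_prime_lift (p := 7) (by norm_num) f hadd hinj h7
  have hY := D.card_Y_dvd hW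
  haveI : Finite D.Y := Nat.finite_of_card_ne_zero (by rintro h; rw [h] at hY; simp at hY)
  have hx7 : D.A x ^ 7 = 1 := by
    have hmem : D.A x ^ 7 ∈ D.Y := ⟨x ^ 7, MonoidHom.mem_ker.2 (Equiv.ext fun v => by
      rw [map_pow, Equiv.Perm.coe_pow, funext hx]
      exact h7 v), map_pow _ _ _⟩
    have h1 : orderOf (⟨_, hmem⟩ : D.Y) ∣ 9 := (orderOf_dvd_natCard _).trans hY
    have h2 : orderOf (⟨_, hmem⟩ : D.Y) ∣ 7 ^ i := orderOf_dvd_of_pow_eq_one (Subtype.ext (by
      rw [SubmonoidClass.coe_pow, ← pow_mul, mul_comm, pow_mul, ← map_pow, hi, map_one, one_pow]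
      rfl))
    have h3 := Nat.dvd_gcd h1 h2
    rw [Nat.Coprime.gcd_eq_one (Nat.Coprime.pow_right i (by norm_num)), Nat.dvd_one,
      orderOf_eq_one_iff] at h3
    exact congrArg Subtype.val h3
  refine ⟨x, hx, ?_⟩
  set a := D.A x
  letI : MulAction (Subgroup.zpowers a) D.Y :=
    { smul := fun k y => ⟨k.1 * y.1 * k.1⁻¹, by
        obtain ⟨j, hj⟩ := Subgroup.mem_zpowers_iff.1 k.2
        rw [← hj, ← map_zpow]
        exact D.conj_mem_Y _ y.2⟩
      one_smul := fun y => Subtype.ext (show 1 * y.1 * (1 : W ≃ₗ[K2] W)⁻¹ = y.1 by group)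
      mul_smul := fun k l y => Subtype.ext
        (show k.1 * l.1 * y.1 * (k.1 * l.1)⁻¹ = k.1 * (l.1 * y.1 * l.1⁻¹) * k.1⁻¹ by group) }
  have hp : IsPGroup 7 (Subgroup.zpowers a) := fun k => ⟨1, Subtype.ext (by
    obtain ⟨j, hj⟩ := Subgroup.mem_zpowers_iff.1 k.2
    rw [SubmonoidClass.coe_pow, ← hj, pow_one, ← zpow_natCast, ← zpow_mul, mul_comm, zpow_mul,
      zpow_natCast, hx7, one_zpow]
    rfl)⟩
  let S : Subgroup D.Y := (Subgroup.centralizer {a}).subgroupOf D.Y
  have hfix : Nat.card (MulAction.fixedPoints (Subgroup.zpowers a) D.Y) = Nat.card S := by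
    refine Nat.card_congr (Equiv.subtypeEquivRight fun y => ⟨fun h => ?_, fun h k => ?_⟩)
    · refine Subgroup.mem_centralizer_singleton_iff.2 ?_
      have h1 : a * y.1 * a⁻¹ = y.1 := congrArg Subtype.val (h ⟨a, Subgroup.mem_zpowers a⟩)
      exact (mul_inv_eq_iff_eq_mul.1 h1).symm
    · refine Subtype.ext ?_
      show k.1 * y.1 * k.1⁻¹ = y.1
      obtain ⟨j, hj⟩ := Subgroup.mem_zpowers_iff.1 k.2
      have hc : Commute y.1 a := Subgroup.mem_centralizer_singleton_iff.1 h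
      rw [← hj, ← (hc.zpow_right j).eq, mul_inv_cancel_right]
  have h1 := hp.card_modEq_card_fixedPoints (α := D.Y)
  rw [hfix] at h1
  have h2 : Nat.card S ∣ Nat.card D.Y := S.card_subgroup_dvd_card
  have htop : Nat.card D.Y ≤ Nat.card S := by
    have key : ∀ n ≤ 9, ∀ s ≤ 9, n ∣ 9 → s ∣ n → n % 7 = s % 7 → n ≤ s := by decide
    have hn := Nat.le_of_dvd (by norm_num) hY
    exact key _ hn _ ((Nat.le_of_dvd Nat.card_pos h2).trans hn) hY h2 h1
  refine Subgroup.mem_centralizer_iff.2 fun y hy => ?_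
  have : (⟨y, hy⟩ : D.Y) ∈ S := by
    rw [Subgroup.eq_top_of_le_card S htop]
    exact Subgroup.mem_top _
  exact Subgroup.mem_centralizer_singleton_iff.1 this

/-- The distinguished lift of an involution. -/
def Good (f : V3 → V3) (u : W ≃ₗ[K2] W) : Prop :=
  ∃ x : X, (∀ v, T.ρ x v = f v) ∧ D.A x = u ∧ u * u = 1 ∧ u ∈ D.Cen

variable {D}

lemma Good.q {f : V3 → V3} {u : W ≃ₗ[K2] W} (hu : D.Good f u) (v : W) :
    D.q (u v) = f (D.q v) := by
  obtain ⟨x, hx, rfl, -⟩ := hu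
  rw [D.equiv, hx]

lemma Good.B {f : V3 → V3} {u : W ≃ₗ[K2] W} (hu : D.Good f u) (v w : W) :
    D.B (u v) (u w) = f (D.B v w) := by
  obtain ⟨x, hx, rfl, -⟩ := hu
  rw [D.B_equiv, hx]

lemma Good.invol {f : V3 → V3} {u : W ≃ₗ[K2] W} (hu : D.Good f u) (v : W) : u (u v) = v := by
  obtain ⟨x, -, -, h, -⟩ := hu
  exact LinearEquiv.congr_fun h v

lemma Good.unique {f : V3 → V3} {u u' : W ≃ₗ[K2] W} (hu : D.Good f u) (hu' : D.Good f u') :
    u = u' := by
  obtain ⟨x, hx, rfl, h2, hc⟩ := hu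
  obtain ⟨x', hx', rfl, h2', -⟩ := hu'
  have hker : T.ρ (x⁻¹ * x') = 1 := by
    have : T.ρ x = T.ρ x' := Equiv.ext fun v => by rw [hx, hx']
    rw [map_mul, map_inv, this, inv_mul_cancel]
  have hy : D.A (x⁻¹ * x') ∈ D.Y := ⟨_, hker, rfl⟩
  have hcomm : D.A (x⁻¹ * x') * D.A x = D.A x * D.A (x⁻¹ * x') := hc _ hy
  have hx'e : D.A x * D.A (x⁻¹ * x') = D.A x' := by rw [← map_mul, mul_inv_cancel_left]
  have h1 : D.A (x⁻¹ * x') * D.A (x⁻¹ * x') = 1 := by
    set a := D.A x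
    set y := D.A (x⁻¹ * x')
    rw [← hx'e] at h2'
    calc y * y = a * a * (y * y) := by rw [h2, one_mul]
      _ = a * (a * y) * y := by group
      _ = a * (y * a) * y := by rw [hcomm]
      _ = a * y * (a * y) := by group
      _ = 1 := h2'
  rw [← hx'e, D.ker_invol hker h1, mul_one]

lemma Good.conj {f g h : V3 → V3} {u v w : W ≃ₗ[K2] W} (hu : D.Good f u) (hv : D.Good g v)
    (hw : D.Good h w) (he : ∀ z, f (g (f z)) = h z) : u * v * u = w := by
  obtain ⟨x, hx, rfl, h2, hc⟩ := hu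
  obtain ⟨y, hy, rfl, h2', hc'⟩ := hv
  refine Good.unique ⟨x * y * x, fun z => ?_, by rw [map_mul, map_mul], ?_,
    mul_mem (mul_mem hc hc') hc⟩ hw
  · rw [map_mul, map_mul, Equiv.Perm.mul_apply, Equiv.Perm.mul_apply, hx, hy, hx, he]
  · calc D.A x * D.A y * D.A x * (D.A x * D.A y * D.A x)
        = D.A x * D.A y * (D.A x * D.A x) * D.A y * D.A x := by group
      _ = D.A x * (D.A y * D.A y) * D.A x := by rw [h2, mul_one]; group
      _ = 1 := by rw [h2', mul_one, h2]

lemma Good.mul {f g : V3 → V3} {u v : W ≃ₗ[K2] W} (hu : D.Good f u) (hv : D.Good g v)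
    (he : ∀ z, f (g (f z)) = g z) : D.Good (fun z => f (g z)) (u * v) := by
  have hcomm := hu.conj hv hv he
  obtain ⟨x, hx, rfl, h2, hc⟩ := hu
  obtain ⟨y, hy, rfl, h2', hc'⟩ := hv
  refine ⟨x * y, fun z => by rw [map_mul, Equiv.Perm.mul_apply, hx, hy], map_mul _ _ _, ?_,
    mul_mem hc hc'⟩
  calc D.A x * D.A y * (D.A x * D.A y) = D.A x * D.A y * D.A x * D.A y := by group
    _ = 1 := by rw [hcomm, h2']

variable (D)

lemma exists_good [Finite X] (hW : Nat.card W = 64) (f : V3 → V3) (i j : Fin 6)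
    (hf : ∀ v, sev i (sev j v) = f v) (hff : ∀ v, f (f v) = v) : ∃ u, D.Good f u := by
  obtain ⟨a, ha, hca⟩ := D.seven hW (sev i) (sev_add i) (sev_inj i) (sev_order i)
  obtain ⟨b, hb, hcb⟩ := D.seven hW (sev j) (sev_add j) (sev_inj j) (sev_order j)
  have hz : ∀ v, T.ρ (a * b) v = f v := fun v => by
    rw [map_mul, Equiv.Perm.mul_apply, hb, ha, hf]
  have h2 : T.ρ (a * b) ^ 2 ^ 1 = 1 := Equiv.ext fun v => by
    rw [pow_one, pow_two, Equiv.Perm.mul_apply, hz, hz, hff]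
    rfl
  obtain ⟨n, ⟨k, hk⟩, hn⟩ := exists_pow_lift T.ρ Nat.prime_two (a * b) h2
  refine ⟨D.A ((a * b) ^ n), _, fun v => by rw [hn, hz], rfl, ?_, by
    rw [map_pow, map_mul]; exact pow_mem (mul_mem hca hcb) n⟩
  rw [← map_mul, ← pow_two]
  refine D.ker_two ?_ (i := k) ?_
  · rw [map_pow, hn, ← h2, pow_one]
  · rw [← map_pow, ← pow_mul, mul_comm, pow_mul, hk, one_pow, map_one]

include D in
/-- The situation is impossible. -/
theorem false_of_card [Finite X] (hW : Nat.card W = 64) : False := by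
  classical
  haveI := D.finite hW
  obtain ⟨a12, A12⟩ := D.exists_good hW t12 0 1 (by decide) (by decide)
  obtain ⟨a13, A13⟩ := D.exists_good hW t13 2 3 (by decide) (by decide)
  obtain ⟨a23, A23⟩ := D.exists_good hW t23 0 4 (by decide) (by decide)
  obtain ⟨a32, A32⟩ := D.exists_good hW t32 2 5 (by decide) (by decide)
  obtain ⟨a21, A21⟩ := D.exists_good hW t21 1 5 (by decide) (by decide)
  obtain ⟨a31, A31⟩ := D.exists_good hW t31 3 4 (by decide) (by decide)
  obtain ⟨P12, Q12⟩ := D.exists_good hW p12 5 0 (by decide) (by decide)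
  obtain ⟨P13, Q13⟩ := D.exists_good hW p13 4 2 (by decide) (by decide)
  obtain ⟨P23, Q23⟩ := D.exists_good hW p23 0 5 (by decide) (by decide)
  -- moving one involution past another
  have push : ∀ {f g h : V3 → V3} {u v x : W ≃ₗ[K2] W}, D.Good f u → D.Good g v → D.Good h x →
      (∀ z, f (g (f z)) = h z) → ∀ w, v (u w) = u (x w) := by
    intro f g h u v x hu hv hx he w
    rw [← hu.conj hv hx he, LinearEquiv.mul_apply, LinearEquiv.mul_apply, hu.invol]
  have A1213 := A12.mul A13 (by decide)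
  have A1323 := A13.mul A23 (by decide)
  have fix_of : ∀ {f : V3 → V3} {u : W ≃ₗ[K2] W}, D.Good f u → ∀ (S : AddSubgroup W),
      (∀ w ∈ S, u w ∈ S) → ∀ (M : AddSubgroup W), (∀ w ∈ M, u w ∈ M) →
      ∀ w ∈ S, w ∉ M → ∃ w' ∈ S, w' ∉ M ∧ u w' + w' ∈ M := by
    intro f u hu S hS M hM w hw hwM
    by_cases h : u w + w ∈ M
    · exact ⟨w, hw, hwM, h⟩
    · refine ⟨u w + w, add_mem (hS w hw) hw, h, ?_⟩
      rw [map_add, hu.invol, show w + u w + (u w + w) = (w + w) + (u w + u w) by abel,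
        ZModModule.add_self, ZModModule.add_self, add_zero]
      exact M.zero_mem
  have fix_iff : ∀ (u : W ≃ₗ[K2] W) (w : W), u w + w ∈ (⊥ : AddSubgroup W) ↔ u w = w := by
    intro u w
    rw [AddSubgroup.mem_bot, ← ZModModule.sub_eq_add, sub_eq_zero]
  -- fixed vectors of the elations with centre `e1`
  let F : AddSubgroup W :=
    { carrier := {w | a12 w = w ∧ a13 w = w}
      add_mem' := fun h h' => ⟨by rw [map_add, h.1, h'.1], by rw [map_add, h.2, h'.2]⟩
      zero_mem' := ⟨map_zero _, map_zero _⟩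
      neg_mem' := fun h => ⟨by rw [map_neg, h.1], by rw [map_neg, h.2]⟩ }
  have hqF : ∀ w ∈ F, w ≠ 0 → D.q w = ![1, 0, 0] := by
    intro w hw hw0
    have key : ∀ x : V3, x ≠ 0 → t12 x = x → t13 x = x → x = ![1, 0, 0] := by decide
    exact key _ (fun h => hw0 (D.ani w h)) (by rw [← A12.q, hw.1]) (by rw [← A13.q, hw.2])
  have hBF : ∀ u ∈ F, ∀ v ∈ F, u ≠ 0 → v ≠ 0 → u ≠ v → D.B u v = ![1, 0, 0] := by
    intro u hu v hv hu0 hv0 huv
    rw [D.B_eq, hqF _ hu hu0, hqF _ hv hv0, hqF _ (add_mem hu hv) fun h => huv (by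
      rwa [← ZModModule.sub_eq_add, sub_eq_zero] at h)]
    decide
  have hthree : ∀ u ∈ F, ∀ v ∈ F, ∀ w ∈ F, u ≠ 0 → v ≠ 0 → w ≠ 0 → u ≠ v → w ≠ u → w ≠ v →
      w = u + v := by
    intro u hu v hv w hw hu0 hv0 hw0 huv hwu hwv
    have huv0 : u + v ≠ 0 := fun h => huv (by
      rwa [← ZModModule.sub_eq_add, sub_eq_zero] at h)
    have h : D.q (u + v + w) = 0 := by
      rw [D.q_add, hqF _ (add_mem hu hv) huv0, hqF _ hw hw0, map_add, AddMonoidHom.add_apply,
        hBF u hu w hw hu0 hw0 hwu.symm, hBF v hv w hw hv0 hw0 hwv.symm]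
      decide
    have := D.ani _ h
    rw [← ZModModule.sub_eq_add (u + v) w, sub_eq_zero] at this
    exact this.symm
  have h23F : ∀ w ∈ F, a23 w ∈ F := fun w hw =>
    ⟨by rw [push A23 A12 A1213 (by decide), LinearEquiv.mul_apply, hw.2, hw.1],
      by rw [push A23 A13 A13 (by decide), hw.2]⟩
  have h32F : ∀ w ∈ F, a32 w ∈ F := fun w hw =>
    ⟨by rw [push A32 A12 A12 (by decide), hw.1],
      by rw [push A32 A13 A1213 (by decide), LinearEquiv.mul_apply, hw.2, hw.1]⟩
  obtain ⟨v₀, hv₀F, hv₀⟩ : ∃ v ∈ F, v ≠ 0 := by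
    haveI : Nontrivial W := Finite.one_lt_card_iff_nontrivial.1 (by omega)
    obtain ⟨w, hw⟩ := exists_ne (0 : W)
    obtain ⟨w1, -, hw1, hw1'⟩ := fix_of A12 ⊤ (fun _ _ => trivial) ⊥ (fun w hw => by
      rw [AddSubgroup.mem_bot] at hw ⊢; rw [hw, map_zero]) w trivial (by simpa using hw)
    let S : AddSubgroup W := LinearMap.eqLocus (a12 : W →ₗ[K2] W) LinearMap.id |>.toAddSubgroup
    obtain ⟨w2, hw2S, hw2, hw2'⟩ := fix_of A13 S (fun w (hw : a12 w = w) => show a12 (a13 w) = a13 w by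
      rw [push A13 A12 A12 (by decide), hw]) ⊥ (fun w hw => by
      rw [AddSubgroup.mem_bot] at hw ⊢; rw [hw, map_zero]) w1 ((fix_iff _ _).1 hw1') hw1
    exact ⟨w2, ⟨hw2S, (fix_iff _ _).1 hw2'⟩, fun h => hw2 (by simp [h])⟩
  have hbot : ∀ u : W ≃ₗ[K2] W, ∀ w ∈ (⊥ : AddSubgroup W), u w ∈ (⊥ : AddSubgroup W) :=
    fun u w hw => by rw [AddSubgroup.mem_bot] at hw ⊢; rw [hw, map_zero]
  obtain ⟨w2, hw2F, hw2, hw2'⟩ := fix_of A23 F h23F ⊥ (hbot _) v₀ hv₀F (by simpa using hv₀)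
  obtain ⟨w3, hw3F, hw3, hw3'⟩ := fix_of A32 F h32F ⊥ (hbot _) v₀ hv₀F (by simpa using hv₀)
  rw [fix_iff] at hw2' hw3'
  rw [AddSubgroup.mem_bot] at hw2 hw3
  -- the three vectors on a line
  have line : ∀ w ∈ F, w ≠ 0 → a23 w = w →
      a21 w = w + P12 w ∧ a12 (P12 w) = w + P12 w ∧ a13 (P12 w) = P12 w ∧ a23 (P12 w) = P12 w ∧
        D.B w (P12 w) = 0 ∧ D.q (P12 w) = ![0, 1, 0] := by
    intro w hw hw0 h23
    set v := P12 w
    have hq1 := hqF w hw hw0
    have hqv : D.q v = ![0, 1, 0] := by rw [Q12.q, hq1]; decide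
    have hv13 : a13 v = v := by rw [push Q12 A13 A23 (by decide), h23]
    have hv23 : a23 v = v := by rw [push Q12 A23 A13 (by decide), hw.2]
    have hv21 : a21 v = v := by rw [push Q12 A21 A12 (by decide), hw.1]
    set c := a21 w
    have hc13 : a13 c = c := by
      rw [push A21 A13 A1323 (by decide), LinearEquiv.mul_apply, h23, hw.2]
    have hc23 : a23 c = c := by rw [push A21 A23 A23 (by decide), h23]
    have hqc : D.q c = ![1, 1, 0] := by rw [A21.q, hq1]; decide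
    have key1 : ∀ β : V3, t13 β = β → t23 β = β → p12 β = β →
        ![1, 0, 0] + ![0, 1, 0] + β ≠ 0 → β = 0 := by decide
    have hne : ∀ {a b : W} {α β : V3}, D.q a = α → D.q b = β → α ≠ β →
        α + β + D.B a b ≠ 0 := by
      intro a b α β ha hb hab h
      rw [← ha, ← hb, ← D.q_add] at h
      have := D.ani _ h
      rw [← ZModModule.sub_eq_add, sub_eq_zero] at this
      exact hab (by rw [← ha, ← hb, this])
    have hβ : D.B w v = 0 := key1 _
      (by rw [← A13.B, hw.2, hv13]) (by rw [← A23.B, h23, hv23])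
      (by rw [← Q12.B, Q12.invol, D.B_comm])
      (hne hq1 hqv (by decide))
    have key2 : ∀ β : V3, t13 β = β → t23 β = β → t21 β = β →
        ![1, 0, 0] + ![1, 1, 0] + β ≠ 0 → β = 0 := by decide
    have hγ : D.B w c = 0 := key2 _
      (by rw [← A13.B, hw.2, hc13]) (by rw [← A23.B, h23, hc23])
      (by rw [← A21.B, A21.invol, D.B_comm])
      (hne hq1 hqc (by decide))
    have hδ : D.B v c = 0 := by
      rw [← hv21, A21.B, D.B_comm, hβ]; decide
    have hsum : w + v + c = 0 := D.ani _ (by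
      rw [D.q_add, D.q_add, hq1, hqv, hqc, hβ, map_add, AddMonoidHom.add_apply, hγ, hδ]
      decide)
    rw [← ZModModule.sub_eq_add (w + v) c, sub_eq_zero] at hsum
    refine ⟨hsum.symm, ?_, hv13, hv23, hβ, hqv⟩
    rw [push Q12 A12 A21 (by decide)]
    show P12 c = w + v
    rw [← hsum, map_add, Q12.invol, add_comm]
  obtain ⟨-, hl12, hl13, -, -, hlq⟩ := line w2 hw2F hw2 hw2'
  by_cases hM : ∃ w ∈ F, w ≠ 0 ∧ a23 w = w ∧ a32 w = w
  swap
  · -- a flag map: impossible
    push Not at hM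
    have hne23 : w2 ≠ w3 := fun h => hM w2 hw2F hw2 hw2' (h ▸ hw3')
    have h23w3 : a23 w3 = w2 + w3 := by
      refine hthree w2 hw2F w3 hw3F _ (h23F _ hw3F) hw2 hw3 (fun h => hw3 ?_) hne23
        (fun h => hne23 ?_) (fun h => hM w3 hw3F hw3 h hw3')
      · rw [← A23.invol w3, h, map_zero]
      · rw [← A23.invol w3, h, hw2']
    set v := P12 w2
    have hβ13 : t13 (D.B w3 v) = D.B w3 v := by rw [← A13.B, hw3F.2, hl13]
    have hβ12 : t12 (D.B w3 v) = D.B w3 v + ![1, 0, 0] := by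
      rw [← A12.B, hw3F.1, hl12, map_add, hBF w3 hw3F w2 hw2F hw3 hw2 hne23.symm, add_comm]
    have hq : D.q (w3 + v) ≠ 0 := fun h => by
      have h1 := D.ani _ h
      rw [← ZModModule.sub_eq_add, sub_eq_zero] at h1
      have h2 := congrArg D.q h1
      rw [hqF w3 hw3F hw3, hlq] at h2
      exact absurd h2 (by decide)
    rw [D.q_add, hqF w3 hw3F hw3, hlq] at hq
    have key : ∀ β : V3, t13 β = β → t12 β = β + ![1, 0, 0] →
        ![1, 0, 0] + ![0, 1, 0] + β ≠ 0 → ∀ γ : V3, γ + t13 γ ≠ β := by decide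
    set n := P12 w3
    have hn : a13 n = v + n := by rw [push Q12 A13 A23 (by decide), h23w3, map_add]
    have hv : v = n + a13 n := by
      rw [hn, ← add_assoc, add_comm n v, add_assoc, ZModModule.add_self, add_zero]
    refine key _ hβ13 hβ12 hq (D.B w3 n) ?_
    conv_rhs => rw [hv, map_add]
    rw [← A13.B, hw3F.2]
  -- a totally isotropic invariant section
  obtain ⟨v, hvF, hv, hv23, hv32⟩ := hM
  obtain ⟨hl21, hl12', hl13', hl23, hlB, hlq'⟩ := line v hvF hv hv23
  have hP23v : P23 v = v := by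
    rw [← A23.conj A32 Q23 (by decide), LinearEquiv.mul_apply, LinearEquiv.mul_apply, hv23, hv32,
      hv23]
  set v2 := P12 v
  set v3 := P13 v
  have h232 : P23 v2 = v3 := by
    show P23 (P12 v) = P13 v
    rw [← Q23.conj Q12 Q13 (by decide), LinearEquiv.mul_apply, LinearEquiv.mul_apply, hP23v]
  have h233 : P23 v3 = v2 := by rw [← h232, Q23.invol]
  have h123 : P12 v3 = v3 := by
    show P12 (P13 v) = v3
    rw [push Q13 Q12 Q23 (by decide), hP23v]
  have h132 : P13 v2 = v2 := by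
    show P13 (P12 v) = v2
    rw [push Q12 Q13 Q23 (by decide), hP23v]
  have h12_3 : a12 v3 = v3 := by rw [push Q13 A12 A32 (by decide), hv32]
  have h31 : a31 v = v + v3 := by
    rw [← Q23.conj A21 A31 (by decide), LinearEquiv.mul_apply, LinearEquiv.mul_apply, hP23v, hl21,
      map_add, hP23v, h232]
  have h13_3 : a13 v3 = v + v3 := by
    rw [push Q13 A13 A31 (by decide), h31, map_add, Q13.invol, add_comm]
  have h23_3 : a23 v3 = v2 + v3 := by
    rw [push Q13 A23 A21 (by decide), hl21, map_add, h132, add_comm]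
  let φ : V3 →+ W := AddMonoidHom.mk' (fun x => x 0 • v + x 1 • v2 + x 2 • v3) fun x y => by
    simp only [Pi.add_apply, add_smul]; abel
  have hφ : ∀ x, φ x = x 0 • v + x 1 • v2 + x 2 • v3 := fun x => rfl
  have e12 : ∀ x, a12 (φ x) = φ (t12 x) := fun x => by
    simp [hφ, hvF.1, hl12', h12_3, add_smul, smul_add]; abel
  have e13 : ∀ x, a13 (φ x) = φ (t13 x) := fun x => by
    simp [hφ, hvF.2, hl13', h13_3, add_smul, smul_add]; abel
  have e23 : ∀ x, a23 (φ x) = φ (t23 x) := fun x => by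
    simp [hφ, hv23, hl23, h23_3, add_smul, smul_add]; abel
  have eP12 : ∀ x, P12 (φ x) = φ (p12 x) := fun x => by
    simp [hφ, h123, Q12.invol, show P12 v = v2 from rfl, show P12 v2 = v from Q12.invol v]; abel
  have eP23 : ∀ x, P23 (φ x) = φ (p23 x) := fun x => by
    simp [hφ, hP23v, h232, h233]; abel
  have hB12 : D.B v v2 = 0 := hlB
  have hB13 : D.B v v3 = 0 := by
    rw [← hP23v, ← h232, Q23.B, hB12]; decide
  have hB23 : D.B v2 v3 = 0 := by
    rw [← h123, Q12.B, hB13]; decide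
  have hBφ : ∀ x y, D.B (φ x) (φ y) = 0 := by
    intro x y
    have hs : ∀ (c : K2) (u w : W), D.B u w = 0 → D.B (c • u) w = 0 ∧ D.B u (c • w) = 0 := by
      intro c u w h
      rcases (show c = 0 ∨ c = 1 by revert c; decide) with rfl | rfl <;> simp [h]
    have hh : ∀ (c d : K2) (u w : W), D.B u w = 0 → D.B (c • u) (d • w) = 0 := fun c d u w h =>
      (hs c u (d • w) (hs d u w h).2).1
    have h21' : D.B v2 v = 0 := by rw [D.B_comm, hB12]
    have h31' : D.B v3 v = 0 := by rw [D.B_comm, hB13]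
    have h32' : D.B v3 v2 = 0 := by rw [D.B_comm, hB23]
    simp only [hφ, map_add, AddMonoidHom.add_apply, hh _ _ _ _ hB12, hh _ _ _ _ hB13,
      hh _ _ _ _ hB23, hh _ _ _ _ h21', hh _ _ _ _ h31', hh _ _ _ _ h32',
      hh _ _ _ _ (D.B_self _), add_zero]
  have hqv3 : D.q v3 = ![0, 0, 1] := by
    rw [← h232, Q23.q, hlq']; decide
  have hqφ : ∀ x, D.q (φ x) = x := by
    have hqadd : ∀ x y, D.q (φ (x + y)) = D.q (φ x) + D.q (φ y) := fun x y => by
      rw [map_add, D.q_add, hBφ, add_zero]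
    intro x
    have hd : ∀ x : V3, x = x 0 • ![1, 0, 0] + x 1 • ![0, 1, 0] + x 2 • ![0, 0, 1] := by decide
    have hs : ∀ (c : K2) (e : V3) (u : W), φ e = u → D.q u = e → D.q (φ (c • e)) = c • e := by
      intro c e u he hu
      rcases (show c = 0 ∨ c = 1 by revert c; decide) with rfl | rfl
      · simp [D.q_zero]
      · rw [one_smul, he, hu]
    rw [hd x, hqadd, hqadd, hs _ _ v (by simp [hφ]) (hqF v hvF hv), hs _ _ v2 (by simp [hφ]) hlq',
      hs _ _ v3 (by simp [hφ]) hqv3]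
  let M := φ.range
  have hMinv : ∀ {f : V3 → V3} {u : W ≃ₗ[K2] W}, (∀ x, u (φ x) = φ (f x)) → ∀ w ∈ M, u w ∈ M := by
    rintro f u he _ ⟨x, rfl⟩
    exact ⟨f x, (he x).symm⟩
  obtain ⟨w₀, hw₀⟩ : ∃ w, w ∉ M := by
    by_contra h
    push Not at h
    have := Nat.card_le_card_of_surjective φ fun w => h w
    rw [hW, Nat.card_eq_fintype_card, show Fintype.card V3 = 8 by rfl] at this
    omega
  -- a vector outside the section fixed modulo it by the three elations
  obtain ⟨w1, -, hw1, hw1'⟩ := fix_of A13 ⊤ (fun _ _ => trivial) M (hMinv e13) w₀ trivial hw₀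
  let S13 : AddSubgroup W := M.comap ((a13 : W →ₗ[K2] W) + LinearMap.id).toAddMonoidHom
  obtain ⟨w4, hw4S, hw4, hw4'⟩ := fix_of A12 S13 (fun w (hw : a13 w + w ∈ M) =>
    show a13 (a12 w) + a12 w ∈ M by
      rw [push A12 A13 A13 (by decide), ← map_add]; exact hMinv e12 _ hw) M (hMinv e12) w1 hw1' hw1
  let S12 : AddSubgroup W := S13 ⊓ M.comap ((a12 : W →ₗ[K2] W) + LinearMap.id).toAddMonoidHom
  have hS12 : ∀ w ∈ S12, a23 w ∈ S12 := by
    rintro w ⟨h13, h12⟩
    refine ⟨show a13 (a23 w) + a23 w ∈ M from ?_, show a12 (a23 w) + a23 w ∈ M from ?_⟩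
    · rw [push A23 A13 A13 (by decide), ← map_add]; exact hMinv e23 _ h13
    · rw [push A23 A12 A1213 (by decide), ← map_add, LinearEquiv.mul_apply,
        show a12 (a13 w) + w = a12 (a13 w + w) + (a12 w + w) by
          rw [map_add, add_assoc, ← add_assoc (a12 w), ZModModule.add_self, zero_add]]
      exact hMinv e23 _ (add_mem (hMinv e12 _ h13) h12)
  obtain ⟨w, hwS, hwM, hw23⟩ := fix_of A23 S12 hS12 M (hMinv e23) w4 ⟨hw4S, hw4'⟩ hw4
  obtain ⟨hw13, hw12⟩ := hwS
  -- the trace functional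
  let tr : W →+ K2 := AddMonoidHom.mk'
    (fun w => D.B w (φ ![1, 0, 0]) 0 + D.B w (φ ![0, 1, 0]) 1 + D.B w (φ ![0, 0, 1]) 2) fun a b => by
      simp only [map_add, AddMonoidHom.add_apply, Pi.add_apply]; abel
  let G := P12 * P23 * a12
  let fg : V3 → V3 := fun x => p12 (p23 (t12 x))
  have hGB : ∀ u u', D.B (G u) (G u') = fg (D.B u u') := fun u u' => by
    simp only [G, LinearEquiv.mul_apply, Q12.B, Q23.B, A12.B, fg]
  have hGφ : ∀ x, G (φ x) = φ (fg x) := fun x => by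
    simp only [G, LinearEquiv.mul_apply, e12, eP23, eP12, fg]
  have htrG : ∀ u, tr (G u) = tr u := by
    intro u
    have h1 := hGB u (φ ![1, 0, 0])
    have h2 := hGB u (φ ![0, 1, 0])
    have h3 := hGB u (φ ![0, 0, 1])
    rw [hGφ] at h1 h2 h3
    rw [show fg ![1, 0, 0] = ![0, 1, 0] by decide] at h1
    rw [show fg ![0, 1, 0] = ![0, 1, 0] + ![0, 0, 1] by decide, map_add φ, map_add, h1] at h2
    rw [show fg ![0, 0, 1] = ![1, 0, 0] by decide] at h3
    have h2' : D.B (G u) (φ ![0, 0, 1]) = fg (D.B u (φ ![0, 1, 0])) + fg (D.B u (φ ![1, 0, 0])) := by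
      rw [← h2, add_comm, ← add_assoc, ZModModule.add_self, zero_add]
    show D.B (G u) (φ ![1, 0, 0]) 0 + D.B (G u) (φ ![0, 1, 0]) 1 + D.B (G u) (φ ![0, 0, 1]) 2 = _
    rw [h1, h2', h3]
    have key : ∀ a b c : V3, fg c 0 + fg a 1 + (fg b + fg a) 2 = a 0 + b 1 + c 2 := by
      intro a b c
      simp only [fg, p12, p23, t12, Pi.add_apply, Matrix.cons_val_zero, Matrix.cons_val_one,
        Matrix.cons_val_two, Matrix.cons_val, Matrix.head_cons, Matrix.tail_cons]
      linear_combination (ZModModule.add_self (a 1))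
    exact key _ _ _
  have hGsurj : Function.Surjective fun u => G u + u := by
    refine Finite.surjective_of_injective fun a b h => ?_
    have h' : G (a + b) = a + b := by
      rw [map_add, ← sub_eq_zero, ZModModule.sub_eq_add,
        show G a + G b + (a + b) = (G a + a) + (G b + b) by abel]
      change G a + a = G b + b at h
      rw [h, ZModModule.add_self]
    have hq : fg (D.q (a + b)) = D.q (a + b) := by
      conv_rhs => rw [← h']
      simp only [G, LinearEquiv.mul_apply, Q12.q, Q23.q, A12.q, fg]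
    have key : ∀ x, fg x = x → x = 0 := by decide
    have := D.ani _ (key _ hq)
    rwa [← ZModModule.sub_eq_add, sub_eq_zero] at this
  obtain ⟨u, hu⟩ := hGsurj w
  have htr0 : tr w = 0 := by rw [← hu, map_add, htrG, ZModModule.add_self]
  -- the linear map attached to `w`
  have hcomm : ∀ {f : V3 → V3} {s : W ≃ₗ[K2] W}, D.Good f s → (∀ x, s (φ x) = φ (f x)) →
      s w + w ∈ M → ∀ x, D.B w (φ (f x)) = f (D.B w (φ x)) := by
    rintro f s hs he ⟨y, hy⟩ x
    have hsw : s w = φ y + w := by rw [hy, add_assoc, ZModModule.add_self, add_zero]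
    rw [← hs.B, he, hsw, map_add, AddMonoidHom.add_apply, hBφ, zero_add]
  have c12 := hcomm A12 e12 hw12
  have c13 := hcomm A13 e13 hw13
  have c23 := hcomm A23 e23 hw23
  set a := D.B w (φ ![1, 0, 0]) with ha
  set b := D.B w (φ ![0, 1, 0]) with hb
  set c := D.B w (φ ![0, 0, 1]) with hc
  have ha12 : t12 a = a := by rw [ha, ← c12]; congr 2
  have ha13 : t13 a = a := by rw [ha, ← c13]; congr 2
  have hb12 : t12 b = a + b := by rw [ha, hb, ← c12, ← map_add, ← map_add]; congr 2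
  have hb13 : t13 b = b := by rw [hb, ← c13]; congr 2
  have hc12 : t12 c = c := by rw [hc, ← c12]; congr 2
  have hc13 : t13 c = a + c := by rw [ha, hc, ← c13, ← map_add, ← map_add]; congr 2
  have hc23 : t23 c = b + c := by rw [hb, hc, ← c23, ← map_add, ← map_add]; congr 2
  have hlam : a 0 + b 1 + c 2 = 0 := htr0
  -- so the map `x ↦ x + B w (φ x)` is bijective
  have k1 : ∀ a : V3, t12 a = a → t13 a = a → a = ![a 0, 0, 0] := by decide
  have k2 : ∀ a b : V3, a = ![a 0, 0, 0] → t12 b = a + b → t13 b = b →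
      b 1 = a 0 ∧ b 2 = 0 := by decide
  have k3 : ∀ a c : V3, a = ![a 0, 0, 0] → t12 c = c → t13 c = a + c → c 1 = 0 ∧ c 2 = a 0 := by
    decide
  have k4 : ∀ b c : V3, t23 c = b + c → b 0 = 0 := by decide
  have hA := k1 a ha12 ha13
  obtain ⟨hb1, hb2⟩ := k2 a b hA hb12 hb13
  obtain ⟨hc1, hc2⟩ := k3 a c hA hc12 hc13
  have hb0 := k4 b c hc23
  have hl0 : a 0 = 0 := by
    rw [hb1, hc2, ZModModule.add_self, zero_add] at hlam
    exact hlam
  obtain ⟨x, hx⟩ : ∃ x : V3, x + (x 0 • a + x 1 • b + x 2 • c) = D.q w := by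
    refine ⟨D.q w + D.q w 2 • ![c 0, 0, 0], ?_⟩
    rw [hA, show b = ![0, 0, 0] from funext fun i => by fin_cases i <;> simp [hb0, hb1, hb2, hl0],
      show c = ![c 0, 0, 0] from funext fun i => by fin_cases i <;> simp [hc1, hc2, hl0], hl0]
    generalize D.q w = y
    generalize c 0 = t
    revert y t
    decide
  apply hwM
  refine ⟨x, ?_⟩
  have h0 : D.q (w + φ x) = 0 := by
    rw [D.q_add, hqφ]
    have hdec : ∀ x : V3, x = x 0 • ![1, 0, 0] + x 1 • ![0, 1, 0] + x 2 • ![0, 0, 1] := by decide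
    have hlin : D.B w (φ x) = x 0 • a + x 1 • b + x 2 • c := by
      let L : V3 →+ V3 := (D.B w).comp φ
      show L x = _
      have hL : ∀ (t : K2) (e : V3), L (t • e) = t • L e := fun t e =>
        (L.toZModLinearMap 2).map_smul t e
      conv_lhs => rw [hdec x]
      rw [map_add, map_add, hL, hL, hL]
      rfl
    rw [hlin, add_assoc, hx, ZModModule.add_self]
  have h1 := D.ani _ h0
  rw [← ZModModule.sub_eq_add, sub_eq_zero] at h1
  exact h1.symm

end Quad

end CfsgLib.Pyramidal
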