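import Cfsg.Agent.Lib.Pyramidal.Central
import Cfsg.Agent.Lib.Pyramidal.Form

/-!
# The possible Sylow subgroups of the centraliser when the linear group has dimension three
-/

namespace CfsgLib.Pyramidal

open CfsgLib.LinTwo

/-- Automorphisms of a commutative group killed by `n`, as linear maps modulo `n`. -/
def linMod (n : ℕ) (A : Type*) [CommGroup A] [Module (ZMod n) (Additive A)] :
    MulAut A →* (Additive A ≃ₗ[ZMod n] Additive A) where
  toFun f :=
    { (f.toMonoidHom.toAdditive.toZModLinearMap n : Additive A →ₗ[ZMod n] Additive A) with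
      invFun := fun v => Additive.ofMul (f.symm v.toMul)
      left_inv := fun v => by simp
      right_inv := fun v => by simp }
  map_one' := LinearEquiv.ext fun _ => rfl
  map_mul' _ _ := LinearEquiv.ext fun _ => rfl

/-- The first unit vector. -/
abbrev u1 : V3 := ![1, 0, 0]
/-- The second unit vector. -/
abbrev u2 : V3 := ![0, 1, 0]
/-- The third unit vector. -/
abbrev u3 : V3 := ![0, 0, 1]
/-- An element of order three fixing the first unit vector. -/
abbrev hmap (v : V3) : V3 := ![v 0, v 2, v 1 + v 2]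
/-- A square root of `p23`. -/
abbrev gmap (v : V3) : V3 := ![v 0 + v 1 + v 2, v 0 + v 1, v 0 + v 2]

set_option synthInstance.maxSize 1000 in
set_option synthInstance.maxHeartbeats 100000 in
lemma exists_dual_vec : ∀ a b t : V3, a ≠ b → t ≠ a → t ≠ b → t ≠ a + b → t ≠ 0 →
    ∃ φ : V3, φ 0 * a 0 + φ 1 * a 1 + φ 2 * a 2 = 0 ∧ φ 0 * b 0 + φ 1 * b 1 + φ 2 * b 2 = 0 ∧
      φ 0 * t 0 + φ 1 * t 1 + φ 2 * t 2 = 1 := by
  decide +kernel

lemma vec_decomp : ∀ v : V3, v = v 0 • u1 + v 1 • u2 + v 2 • u3 := by decide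

lemma exists_vec_ne : (u1 : V3) ≠ 0 := by decide

variable {X : Type*} [Group X] [Finite X] {E : Subgroup X} (T : Three E)
  (P : Sylow 2 (Subgroup.centralizer (E : Set X)))
include T

local notation "𝐂" => Subgroup.centralizer (E : Set X)

lemma Three.single : Single E 3 7 :=
  ⟨T.card_E, by norm_num, rfl, fun _ ha _ hb ha1 hb1 => T.trans ha hb ha1 hb1⟩

omit T in
lemma mem_top2_of_two (hn : (top2 P).Normal) {x : X} (hx : x ∈ Subgroup.centralizer (E : Set X))
    {i : ℕ} (hi : x ^ 2 ^ i = 1) : x ∈ top2 P := by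
  haveI : Fact (Nat.Prime 2) := ⟨Nat.prime_two⟩
  have hz : IsPGroup 2 (Subgroup.zpowers (⟨x, hx⟩ : 𝐂)) := fun y => by
    refine ⟨i, Subtype.ext (Subtype.ext ?_)⟩
    obtain ⟨k, hk⟩ := Subgroup.mem_zpowers_iff.1 y.2
    have h1 : (x ^ k) ^ 2 ^ i = 1 := by
      rw [← zpow_natCast, ← zpow_mul, mul_comm, zpow_mul, zpow_natCast, hi, one_zpow]
    have h2 : (y.1 : X) = x ^ k := by rw [← hk]; rfl
    show (y.1 : X) ^ 2 ^ i = 1
    rw [h2, h1]
  obtain ⟨P', hP'⟩ := hz.exists_le_sylow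
  obtain ⟨c, hc⟩ := MulAction.exists_smul_eq 𝐂 P P'
  have hmem : (⟨x, hx⟩ : 𝐂) ∈ (P' : Subgroup 𝐂) := hP' (Subgroup.mem_zpowers _)
  rw [← hc, Sylow.coe_subgroup_smul, Subgroup.mem_pointwise_smul_iff_inv_smul_mem] at hmem
  have h3 : (c.1)⁻¹ * x * c.1 ∈ top2 P := ⟨_, hmem, by simp [MulAut.conj_inv_apply, mul_assoc]⟩
  have := hn.conj_mem _ h3 c.1
  simpa [mul_assoc] using this

omit T in
lemma index_pow_mem (hn : (top2 P).Normal) (c : 𝐂) :
    c.1 ^ (P : Subgroup 𝐂).index ∈ top2 P ∧ Odd (P : Subgroup 𝐂).index := by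
  haveI : Fact (Nat.Prime 2) := ⟨Nat.prime_two⟩
  haveI : (P : Subgroup 𝐂).Normal := by
    refine ⟨fun y hy g => ?_⟩
    obtain ⟨z, hz, hzy⟩ := hn.conj_mem _ (show y.1 ∈ top2 P from ⟨y, hy, rfl⟩) g.1
    exact (show z = g * y * g⁻¹ from Subtype.ext hzy) ▸ hz
  refine ⟨⟨c ^ (P : Subgroup 𝐂).index, Subgroup.pow_index_mem _ c, rfl⟩, ?_⟩
  rw [← Nat.not_even_iff_odd, even_iff_two_dvd]
  exact P.not_dvd_index

/-! ### The Suzuki cases -/

/-- A non-commutative Sylow subgroup is impossible. -/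
theorem false_of_suzuki (hn : (top2 P).Normal)
    (hna : ¬ ∀ a ∈ (P : Subgroup 𝐂), ∀ b ∈ (P : Subgroup 𝐂), a * b = b * a) : False := by
  classical
  have hI := T.inv
  have hS := T.single
  obtain ⟨hsq, hcard⟩ := top2_structure hI P hS hna
  haveI := hI.normal
  have hEP := E_le_top2 hI P
  set EP := E.subgroupOf (top2 P)
  letI : CommGroup (top2 P ⧸ EP) :=
    { (inferInstance : Group (top2 P ⧸ EP)) with
      mul_comm := fun u v => by
        obtain ⟨u, rfl⟩ := QuotientGroup.mk_surjective u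
        obtain ⟨v, rfl⟩ := QuotientGroup.mk_surjective v
        refine QuotientGroup.eq.2 ?_
        show (u.1 * v.1)⁻¹ * (v.1 * u.1) ∈ E
        rw [show (u.1 * v.1)⁻¹ * (v.1 * u.1) = v.1⁻¹ * u.1⁻¹ * v.1⁻¹⁻¹ * u.1⁻¹⁻¹ by group]
        exact comm_mem hI P hsq (inv_mem v.2) (inv_mem u.2) }
  letI : Module K2 (Additive (top2 P ⧸ EP)) := AddCommGroup.zmodModule fun v => by
    obtain ⟨x, hx⟩ := QuotientGroup.mk_surjective v.toMul
    rw [two_nsmul]
    show v.toMul * v.toMul = 1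
    rw [← hx, ← QuotientGroup.mk_mul, QuotientGroup.eq_one_iff]
    exact hsq _ x.2
  let q : Additive (top2 P ⧸ EP) → V3 := fun v => T.ι
    (Quotient.lift (fun x => (⟨x.1 * x.1, hsq _ x.2⟩ : E)) (by
      intro x y hxy
      have hd' : x⁻¹ * y ∈ E.subgroupOf (top2 P) := QuotientGroup.leftRel_apply.1 hxy
      have hd : x.1⁻¹ * y.1 ∈ E := hd'
      refine Subtype.ext ?_
      show x.1 * x.1 = y.1 * y.1
      rw [← sq_right hI P hsq (central_top2 P x.2) hd, mul_inv_cancel_left]) v.toMul)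
  have hq1 : ∀ x : top2 P,
      q (Additive.ofMul (QuotientGroup.mk x)) = T.ι ⟨x.1 * x.1, hsq _ x.2⟩ := fun x => rfl
  let β : Additive (top2 P ⧸ EP) → Additive (top2 P ⧸ EP) → V3 := fun u v =>
    q (u + v) + q u + q v
  have hq2 : ∀ x y : top2 P,
      β (Additive.ofMul (QuotientGroup.mk x)) (Additive.ofMul (QuotientGroup.mk y))
        = T.ι (⟨x.1 * y.1 * x.1⁻¹ * y.1⁻¹, comm_mem hI P hsq x.2 y.2⟩ : E) := by
    intro x y
    simp only [β, ← ofMul_mul, ← QuotientGroup.mk_mul, hq1, ← T.ι_mul]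
    refine congrArg T.ι (Subtype.ext ?_)
    show x.1 * y.1 * (x.1 * y.1) * (x.1 * x.1) * (y.1 * y.1) = _
    have hc := comm_mem hI P hsq x.2 y.2
    have hx := hsq _ x.2
    have hy := hsq _ y.2
    rw [sq_mul hI P hsq x.2 y.2]
    calc x.1 * x.1 * (y.1 * y.1) * (x.1 * y.1 * x.1⁻¹ * y.1⁻¹) * (x.1 * x.1) * (y.1 * y.1)
        = x.1 * x.1 * (y.1 * y.1) * ((x.1 * y.1 * x.1⁻¹ * y.1⁻¹) * (x.1 * x.1 * (y.1 * y.1))) := by
          group
      _ = x.1 * x.1 * (y.1 * y.1) * (x.1 * x.1 * (y.1 * y.1) * (x.1 * y.1 * x.1⁻¹ * y.1⁻¹)) := by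
          rw [hI.comm hc (mul_mem hx hy)]
      _ = _ := by rw [← mul_assoc, hI.exp _ (mul_mem hx hy), one_mul]
  have hadd : ∀ u u' v, β (u + u') v = β u v + β u' v := by
    intro u u' v
    obtain ⟨x, hx⟩ := QuotientGroup.mk_surjective u.toMul
    obtain ⟨x', hx'⟩ := QuotientGroup.mk_surjective u'.toMul
    obtain ⟨y, hy⟩ := QuotientGroup.mk_surjective v.toMul
    obtain rfl : u = Additive.ofMul (QuotientGroup.mk x) := by rw [hx]; rfl
    obtain rfl : u' = Additive.ofMul (QuotientGroup.mk x') := by rw [hx']; rfl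
    obtain rfl : v = Additive.ofMul (QuotientGroup.mk y) := by rw [hy]; rfl
    rw [← ofMul_mul, ← QuotientGroup.mk_mul, hq2, hq2, hq2, ← T.ι_mul]
    refine congrArg T.ι (Subtype.ext ?_)
    show x.1 * x'.1 * y.1 * (x.1 * x'.1)⁻¹ * y.1⁻¹ =
      (x.1 * y.1 * x.1⁻¹ * y.1⁻¹) * (x'.1 * y.1 * x'.1⁻¹ * y.1⁻¹)
    have hk := comm_mem hI P hsq x'.2 y.2
    calc x.1 * x'.1 * y.1 * (x.1 * x'.1)⁻¹ * y.1⁻¹
        = x.1 * (x'.1 * y.1 * x'.1⁻¹ * y.1⁻¹) * (y.1 * x.1⁻¹ * y.1⁻¹) := by group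
      _ = (x'.1 * y.1 * x'.1⁻¹ * y.1⁻¹) * x.1 * (y.1 * x.1⁻¹ * y.1⁻¹) := by
        rw [central_top2 P x.2 _ hk]
      _ = (x'.1 * y.1 * x'.1⁻¹ * y.1⁻¹) * (x.1 * y.1 * x.1⁻¹ * y.1⁻¹) := by group
      _ = _ := hI.comm hk (comm_mem hI P hsq x.2 y.2)
  have hsymm : ∀ u v, β u v = β v u := fun u v => by simp only [β, add_comm u v]; abel
  let B : Additive (top2 P ⧸ EP) →+ Additive (top2 P ⧸ EP) →+ V3 :=
    AddMonoidHom.mk' (fun u => AddMonoidHom.mk' (β u) fun v v' => by
      rw [hsymm, hadd, hsymm u v, hsymm u v']) fun u u' => by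
      exact AddMonoidHom.ext fun v => hadd u u' v
  have hq : ∀ u v, q (u + v) = q u + q v + B u v := by
    intro u v
    show q (u + v) = q u + q v + (q (u + v) + q u + q v)
    rw [show q u + q v + (q (u + v) + q u + q v) =
      q (u + v) + ((q u + q u) + (q v + q v)) by abel, ZModModule.add_self, ZModModule.add_self,
      add_zero, add_zero]
  have hani : ∀ v, q v = 0 → v = 0 := by
    intro v hv
    obtain ⟨x, hx⟩ := QuotientGroup.mk_surjective v.toMul
    obtain rfl : v = Additive.ofMul (QuotientGroup.mk x) := by rw [hx]; rfl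
    have : x.1 * x.1 = 1 :=
      congrArg Subtype.val (T.ι.injective (hv.trans T.ι_one.symm))
    exact congrArg Additive.ofMul ((QuotientGroup.eq_one_iff x).2 (hI.invol _ this))
  have hmapEP : ∀ n : X, EP.map (MulAut.conjNormal n : MulAut (top2 P)).toMonoidHom = EP := by
    intro n
    refine le_antisymm ?_ fun x hx => ?_
    · rintro _ ⟨x, hx, rfl⟩
      exact hI.normal.conj_mem _ hx _
    · refine ⟨(MulAut.conjNormal n⁻¹ : MulAut (top2 P)) x, hI.normal.conj_mem _ hx _, ?_⟩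
      show (MulAut.conjNormal n : MulAut (top2 P)) ((MulAut.conjNormal n⁻¹ : MulAut (top2 P)) x) = x
      rw [← MulAut.mul_apply, ← map_mul, mul_inv_cancel, map_one]
      rfl
  let act : X →* MulAut (top2 P ⧸ EP) :=
    { toFun := fun n => QuotientGroup.congr EP EP (MulAut.conjNormal n) (hmapEP n)
      map_one' := MulEquiv.ext fun v => by
        obtain ⟨x, rfl⟩ := QuotientGroup.mk_surjective v
        show QuotientGroup.mk ((MulAut.conjNormal (1 : X) : MulAut (top2 P)) x) = QuotientGroup.mk x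
        rw [map_one]; rfl
      map_mul' := fun m n => MulEquiv.ext fun v => by
        obtain ⟨x, rfl⟩ := QuotientGroup.mk_surjective v
        show QuotientGroup.mk ((MulAut.conjNormal (m * n) : MulAut (top2 P)) x) = _
        rw [map_mul]; rfl }
  let L := (linOf (top2 P ⧸ EP)).comp act
  have hqn : ∀ n v, q (L n v) = T.ρ n (q v) := by
    intro n v
    obtain ⟨x, hx⟩ := QuotientGroup.mk_surjective v.toMul
    obtain rfl : v = Additive.ofMul (QuotientGroup.mk x) := by rw [hx]; rfl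
    rw [hq1, T.ρ_apply]
    refine congrArg T.ι (Subtype.ext ?_)
    show n * x.1 * n⁻¹ * (n * x.1 * n⁻¹) = n * (x.1 * x.1) * n⁻¹
    group
  have hnum : ∀ m, Nat.card (top2 P) = m * 8 → Nat.card (Additive (top2 P ⧸ EP)) = m := by
    intro m hm
    have := Subgroup.card_eq_card_quotient_mul_card_subgroup EP
    rw [Nat.card_congr (Subgroup.subgroupOfEquivOfLe hEP).toEquiv, hm, T.card_E] at this
    exact (Nat.eq_of_mul_eq_mul_right (by norm_num) this).symm
  rcases hcard with h2 | h3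
  · -- order `q ^ 2`: squaring is additive
    have hinj : Function.Injective q := by
      intro u v huv
      obtain ⟨x, hx⟩ := QuotientGroup.mk_surjective u.toMul
      obtain rfl : u = Additive.ofMul (QuotientGroup.mk x) := by rw [hx]; rfl
      obtain ⟨y, hy⟩ := QuotientGroup.mk_surjective v.toMul
      obtain rfl : v = Additive.ofMul (QuotientGroup.mk y) := by rw [hy]; rfl
      exact congrArg Additive.ofMul (QuotientGroup.eq.2 (sq_inj hI P hS hsq h2 x.2 y.2
        (congrArg Subtype.val (T.ι.injective huv))))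
    have hq0 : q 0 = 0 := by
      have := hq 0 0
      simp only [add_zero, map_zero, AddMonoidHom.zero_apply] at this
      exact left_eq_add.1 this
    have hB : ∀ u v, B u v = 0 := by
      intro u v
      by_cases hu : u = 0
      · rw [hu, map_zero, AddMonoidHom.zero_apply]
      by_cases hv : v = 0
      · rw [hv, map_zero]
      by_cases huv : u = v
      · rw [huv]
        have := hq v v
        rwa [ZModModule.add_self, hq0, ZModModule.add_self, zero_add, eq_comm] at this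
      suffices q (u + v) = q u + q v by
        have h := hq u v
        rw [this] at h
        exact left_eq_add.1 h
      by_contra hne
      have hta : q (u + v) ≠ q u := fun h => hv (left_eq_add.1 (hinj h).symm)
      have htb : q (u + v) ≠ q v := fun h => hu (right_eq_add.1 (hinj h).symm)
      have ht0 : q (u + v) ≠ 0 := fun h => huv (by
        have := hani _ h
        rwa [← ZModModule.sub_eq_add, sub_eq_zero] at this)
      obtain ⟨φ, ha, hb, ht⟩ := exists_dual_vec _ _ _ (fun h => huv (hinj h)) hta htb hne ht0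
      obtain ⟨x, hx⟩ := T.exists_transv φ (q u) ha
      have hfu : L x u = u := hinj (by rw [hqn, hx, Three.transv, ha, zero_smul, add_zero])
      have hfv : L x v = v := hinj (by rw [hqn, hx, Three.transv, hb, zero_smul, add_zero])
      have h4 : q (L x (u + v)) = q (u + v) := by rw [map_add, hfu, hfv]
      rw [hqn, hx, Three.transv, ht, one_smul] at h4
      exact hu (hani _ (add_eq_left.1 h4))
    refine hna fun a ha b hb => Subtype.ext ?_
    have h := (hq2 ⟨a.1, a, ha, rfl⟩ ⟨b.1, b, hb, rfl⟩).symm.trans (hB _ _)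
    have h' : a.1 * b.1 * a.1⁻¹ * b.1⁻¹ = 1 :=
      congrArg Subtype.val (T.ι.injective (h.trans T.ι_one.symm))
    rw [mul_inv_eq_one, mul_inv_eq_iff_eq_mul] at h'
    exact h'
  · -- order `q ^ 3`
    let D : Quad T (Additive (top2 P ⧸ EP)) :=
      { A := L, q := q, B := B, q_add := hq, ani := hani, equiv := hqn
        free := fun x w hx hxw hw => by
          obtain ⟨a, ha⟩ := QuotientGroup.mk_surjective w.toMul
          obtain rfl : w = Additive.ofMul (QuotientGroup.mk a) := by rw [ha]; rfl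
          have hxC := (T.ρ_eq_one x).1 hx
          have haE : a.1 ∉ E := fun h => hw (congrArg Additive.ofMul
            ((QuotientGroup.eq_one_iff a).2 h))
          have hca : a.1⁻¹ * (x * a.1 * x⁻¹) ∈ E :=
            (QuotientGroup.eq (s := EP)).1 (congrArg Additive.toMul hxw).symm
          obtain ⟨hmem, hodd⟩ := index_pow_mem P hn ⟨x, hxC⟩
          have hfr := free_on_quotient hI P hS hsq h3 hxC
            ((Subgroup.normalizer_eq_top_iff.2 hn).symm ▸ Subgroup.mem_top x) a.2 haE hca hodd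
            fun z hz => by
              rw [show ∀ y : X, z⁻¹ * (y * z * y⁻¹) = z⁻¹ * y * z⁻¹⁻¹ * y⁻¹ from fun y => by group]
              exact comm_mem hI P hsq (inv_mem hz) hmem
          refine LinearEquiv.ext fun v => ?_
          obtain ⟨b, hb⟩ := QuotientGroup.mk_surjective v.toMul
          obtain rfl : v = Additive.ofMul (QuotientGroup.mk b) := by rw [hb]; rfl
          exact congrArg Additive.ofMul ((QuotientGroup.eq (s := EP)).2 (hfr b.1 b.2)).symm }
    exact D.false_of_card (hnum 64 (by rw [h3]; norm_num))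

/-! ### The commutative case -/

/-- A commutative Sylow subgroup is impossible. -/
theorem false_of_comm (hn : (top2 P).Normal)
    (hab : ∀ a ∈ (P : Subgroup 𝐂), ∀ b ∈ (P : Subgroup 𝐂), a * b = b * a) : False := by
  classical
  have hI := T.inv
  have hEP := E_le_top2 hI P
  set Q := top2 P with hQdef
  have hQc : ∀ a ∈ Q, ∀ b ∈ Q, a * b = b * a := by
    rintro _ ⟨a, ha, rfl⟩ _ ⟨b, hb, rfl⟩
    exact congrArg Subtype.val (hab a ha b hb)
  have hQ2 : IsPGroup 2 Q := two_top2 P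
  letI : CommGroup Q :=
    { (inferInstance : Group Q) with mul_comm := fun a b => Subtype.ext (hQc a.1 a.2 b.1 b.2) }
  -- the exponent
  have hex : ∃ s, ∀ x : Q, x ^ 2 ^ s = 1 := by
    obtain ⟨N, hN⟩ := IsPGroup.iff_card.1 hQ2
    exact ⟨N, fun x => by rw [← hN]; exact pow_card_eq_one'⟩
  set s := Nat.find hex
  have hs : ∀ x : Q, x ^ 2 ^ s = 1 := Nat.find_spec hex
  have hs0 : s ≠ 0 := by
    intro h
    have h1 := hs ⟨(T.ι.symm u1).1, hEP (T.ι.symm u1).2⟩
    rw [h, pow_zero, pow_one] at h1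
    have h2 : T.ι.symm u1 = 1 := Subtype.ext (congrArg (fun z : Q => (z : X)) h1)
    have h3 := congrArg T.ι h2
    rw [Equiv.apply_symm_apply, T.ι_one] at h3
    exact absurd h3 (by decide)
  obtain ⟨s', hs'⟩ := Nat.exists_eq_succ_of_ne_zero hs0
  have hroot : ∀ e ∈ E, ∃ x ∈ Q, x ^ 2 ^ s' = e := by
    intro e he
    by_cases he1 : e = 1
    · exact ⟨1, one_mem _, by rw [one_pow, he1]⟩
    have hmin : ¬ ∀ x : Q, x ^ 2 ^ s' = 1 := Nat.find_min hex (show s' < s by omega)
    push Not at hmin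
    obtain ⟨x, hx⟩ := hmin
    have hx2 : (x.1 ^ 2 ^ s') * (x.1 ^ 2 ^ s') = 1 := by
      rw [← pow_add, ← two_mul, ← pow_succ', show s' + 1 = s from hs'.symm]
      exact congrArg Subtype.val (hs x)
    obtain ⟨g, hg⟩ := T.trans (hI.invol _ hx2) he (fun h => hx (Subtype.ext h)) he1
    exact ⟨g * x.1 * g⁻¹, hn.conj_mem _ x.2 g, by rw [conj_pow, hg]⟩
  -- the module
  haveI : Module (ZMod (2 ^ s)) (Additive Q) := AddCommGroup.zmodModule (n := 2 ^ s) fun v => by
    show v.toMul ^ 2 ^ s = 1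
    exact hs _
  let A : X →* ((Additive Q) ≃ₗ[(ZMod (2 ^ s))] (Additive Q)) := (linMod (2 ^ s) Q).comp MulAut.conjNormal
  have hA : ∀ x (v : (Additive Q)), ((A x v).toMul : X) = x * (v.toMul : X) * x⁻¹ := fun x v => rfl
  have hext : ∀ {u v : (Additive Q)}, (u.toMul : X) = (v.toMul : X) → u = v := fun {u v} h =>
    congrArg Additive.ofMul (Subtype.ext h)
  let j : V3 → (Additive Q) := fun v => Additive.ofMul (⟨(T.ι.symm v).1, hEP (T.ι.symm v).2⟩ : Q)
  have jι : ∀ e : E, ((j (T.ι e)).toMul : X) = e.1 := fun e => by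
    show (T.ι.symm (T.ι e)).1 = e.1
    rw [Equiv.symm_apply_apply]
  have jadd : ∀ u v, j (u + v) = j u + j v := by
    intro u v
    obtain ⟨a, rfl⟩ := T.ι.surjective u
    obtain ⟨b, rfl⟩ := T.ι.surjective v
    refine hext ?_
    rw [← T.ι_mul, jι]
    show a.1 * b.1 = ((j (T.ι a)).toMul : X) * ((j (T.ι b)).toMul : X)
    rw [jι, jι]
  have jinj : Function.Injective j := fun u v h => T.ι.symm.injective
    (Subtype.ext (congrArg (fun w : (Additive Q) => (w.toMul : X)) h))
  have j0 : j 0 = 0 := by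
    have := jadd 0 0
    rw [add_zero] at this
    exact left_eq_add.1 this
  have jA : ∀ x v, A x (j v) = j (T.ρ x v) := by
    intro x v
    obtain ⟨a, rfl⟩ := T.ι.surjective v
    refine hext ?_
    rw [hA, jι, T.ρ_apply, jι]
    rfl
  have jtwo : ∀ y : (Additive Q), y + y = 0 → ∃ v, y = j v := fun y hy => by
    have hyE : (y.toMul : X) ∈ E := hI.invol _ (congrArg (fun w : (Additive Q) => (w.toMul : X)) hy)
    exact ⟨T.ι ⟨_, hyE⟩, hext (by rw [jι])⟩
  -- the centraliser acts trivially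
  have hker : ∀ c : X, T.ρ c = 1 → A c = (1 : (Additive Q) ≃ₗ[(ZMod (2 ^ s))] (Additive Q)) := by
    intro c hc
    have hcC := (T.ρ_eq_one c).1 hc
    obtain ⟨hmem, hodd⟩ := index_pow_mem P hn ⟨c, hcC⟩
    set m := (P : Subgroup 𝐂).index
    have hpow : ∀ y : (Additive Q), A (c ^ m) y = y := fun y => hext (by
      rw [hA, hQc _ hmem _ (y.toMul).2, mul_inv_cancel_right])
    suffices ∀ k (y : (Additive Q)), (2 ^ k : ℕ) • y = 0 → A c y = y by
      refine LinearEquiv.ext fun y => this s y ?_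
      show y.toMul ^ 2 ^ s = 1
      exact hs _
    intro k
    induction k with
    | zero => intro y hy; rw [pow_zero, one_smul] at hy; rw [hy, map_zero]
    | succ k ih =>
      intro y hy
      have h1 : A c (y + y) = y + y := ih _ (by
        rw [← two_nsmul, smul_smul, ← pow_succ]; exact hy)
      set d := A c y - y
      have hd : d + d = 0 := by
        rw [map_add] at h1
        simp only [d]
        rw [sub_add_sub_comm, h1, sub_self]
      obtain ⟨v, hv⟩ := jtwo d hd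
      have hdfix : A c d = d := by rw [hv, jA, hc]; rfl
      have hiter : ∀ i, A (c ^ i) y = y + i • d := by
        intro i
        induction i with
        | zero => simp
        | succ i ihi =>
          rw [pow_succ', map_mul, LinearEquiv.mul_apply, ihi, map_add, map_nsmul, hdfix, succ_nsmul]
          simp only [d]
          abel
      have h2 := hiter m
      obtain ⟨t, ht⟩ := hodd
      rw [hpow, eq_comm, add_eq_left, ht, add_nsmul, two_mul, add_nsmul, ← nsmul_add, hd,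
        nsmul_zero, zero_add, one_nsmul] at h2
      exact sub_eq_zero.1 h2
  have hAeq : ∀ x y, T.ρ x = T.ρ y → A x = A y := by
    intro x y h
    have h1 := hker (x⁻¹ * y) (by rw [map_mul, map_inv, h, inv_mul_cancel])
    rwa [map_mul, map_inv, inv_mul_eq_one] at h1
  -- the elements that are used
  obtain ⟨xh, hxh, -⟩ := T.exists_prime_lift Nat.prime_three hmap (by decide) (by decide) (a := 1)
    (by decide)
  obtain ⟨xt, hxt⟩ := T.exists_lift p23 (by decide) (by decide)
  obtain ⟨w, hw, iw, hiw⟩ := T.exists_prime_lift Nat.prime_two gmap (by decide) (by decide) (a := 2)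
    (by decide)
  obtain ⟨S, hS3, hSmap, hSnorm⟩ := exists_frattini T.ρ.rangeRestrict
    T.ρ.rangeRestrict_surjective (p := 3) (h := T.ρ.rangeRestrict xh) (a := 1) (by
      refine Subtype.ext (Equiv.ext fun v => ?_)
      show (T.ρ xh ^ 3 ^ 1) v = v
      rw [Equiv.Perm.coe_pow, funext hxh]
      revert v; decide)
  have hconj : T.ρ xt * T.ρ xh * (T.ρ xt)⁻¹ = T.ρ xh * T.ρ xh := by
    rw [mul_inv_eq_iff_eq_mul]
    refine Equiv.ext fun v => ?_
    simp only [Equiv.Perm.mul_apply, hxh, hxt]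
    revert v; decide
  have ht2 : T.ρ xt * T.ρ xt = 1 := Equiv.ext fun v => by
    simp only [Equiv.Perm.mul_apply, hxt, Equiv.Perm.one_apply]
    revert v; decide
  obtain ⟨x₀, hx₀N, hx₀⟩ := hSnorm (T.ρ.rangeRestrict xt) (by
    set Z := Subgroup.zpowers (T.ρ.rangeRestrict xh)
    have hst : ∀ z ∈ Z, T.ρ.rangeRestrict xt * z * (T.ρ.rangeRestrict xt)⁻¹ ∈ Z := by
      intro z hz
      obtain ⟨k, rfl⟩ := Subgroup.mem_zpowers_iff.1 hz
      rw [← conj_zpow]
      refine zpow_mem ?_ k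
      rw [show T.ρ.rangeRestrict xt * T.ρ.rangeRestrict xh * (T.ρ.rangeRestrict xt)⁻¹ =
        T.ρ.rangeRestrict xh * T.ρ.rangeRestrict xh from Subtype.ext hconj]
      exact mul_mem (Subgroup.mem_zpowers _) (Subgroup.mem_zpowers _)
    refine Subgroup.mem_normalizer_iff.2 fun z => ⟨hst z, fun hz => ?_⟩
    have := hst _ hz
    have hinv : (T.ρ.rangeRestrict xt)⁻¹ = T.ρ.rangeRestrict xt :=
      inv_eq_of_mul_eq_one_right (Subtype.ext ht2)
    rw [hinv] at this
    rw [show z = T.ρ.rangeRestrict xt * (T.ρ.rangeRestrict xt * z * T.ρ.rangeRestrict xt) *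
      T.ρ.rangeRestrict xt by
        have h2 : T.ρ.rangeRestrict xt * T.ρ.rangeRestrict xt = 1 := Subtype.ext ht2
        rw [← mul_assoc, ← mul_assoc, h2, one_mul, mul_assoc, h2, mul_one]]
    exact this)
  obtain ⟨n, ⟨iu, hiu⟩, hnu⟩ := exists_pow_lift T.ρ Nat.prime_two x₀ (a := 1) (by
    rw [show T.ρ x₀ = T.ρ xt from congrArg Subtype.val hx₀, pow_one, pow_two, ht2])
  set u := x₀ ^ n
  have huN : u ∈ Subgroup.normalizer (S : Set X) := pow_mem hx₀N n
  have hρu : ∀ v, T.ρ u v = p23 v := fun v => by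
    rw [hnu, show T.ρ x₀ = T.ρ xt from congrArg Subtype.val hx₀, hxt]
  obtain ⟨ĥ, hĥS, hĥ⟩ : ∃ ĥ ∈ S, T.ρ ĥ = T.ρ xh := by
    have : T.ρ.rangeRestrict xh ∈ S.map T.ρ.rangeRestrict := hSmap ▸ Subgroup.mem_zpowers _
    obtain ⟨y, hy, hyh⟩ := this
    exact ⟨y, hy, congrArg Subtype.val hyh⟩
  have hu2C : T.ρ (u * u) = 1 := Equiv.ext fun v => by
    rw [map_mul, Equiv.Perm.mul_apply, hρu, hρu]
    revert v; decide
  have hu2Q : u * u ∈ Q := mem_top2_of_two P hn ((T.ρ_eq_one _).1 hu2C) (i := iu) (by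
    rw [← pow_two, ← pow_mul, mul_comm, pow_mul, hiu, one_pow])
  have hu2ne : u * u ≠ 1 := fun h1 => by
    have := (T.ρ_eq_one u).2 (fun e he => hI.comm he (hI.invol u h1))
    have h2 := congrArg (fun f : Equiv.Perm V3 => f u2) this
    simp only [hρu, Equiv.Perm.one_apply] at h2
    exact absurd h2 (by decide)
  set U := A u
  set H := A xh
  let x₁ : (Additive Q) := Additive.ofMul (⟨u * u, hu2Q⟩ : Q)
  have hUx : U x₁ = x₁ := hext (by rw [hA]; show u * (u * u) * u⁻¹ = u * u; group)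
  have hHx : H x₁ = x₁ := by
    show A xh x₁ = x₁
    rw [hAeq xh ĥ hĥ.symm]
    refine hext ?_
    rw [hA]
    show ĥ * (u * u) * ĥ⁻¹ = u * u
    have hdis : Disjoint Q S := IsPGroup.disjoint_of_ne 2 3 (by norm_num) _ _ hQ2 hS3
    have hmem1 : ĥ * (u * u) * ĥ⁻¹ * (u * u)⁻¹ ∈ Q :=
      mul_mem (hn.conj_mem _ hu2Q _) (inv_mem hu2Q)
    have hmem2 : ĥ * (u * u) * ĥ⁻¹ * (u * u)⁻¹ ∈ S := by
      have h1 := (Subgroup.mem_normalizer_iff.1 (mul_mem huN huN) _).1 (inv_mem hĥS)
      have h2 := mul_mem hĥS h1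
      simpa [mul_assoc] using h2
    exact mul_inv_eq_one.1 (Subgroup.disjoint_def.1 hdis hmem1 hmem2)
  -- a basis
  have hrootM : ∀ v, ∃ y : (Additive Q), (2 ^ s' : ℕ) • y = j v := fun v => by
    obtain ⟨y, hy, hye⟩ := hroot _ (T.ι.symm v).2
    exact ⟨Additive.ofMul ⟨y, hy⟩, hext (by
      show ((⟨y, hy⟩ : Q) ^ 2 ^ s').1 = (T.ι.symm v).1
      exact hye)⟩
  have hcom : H * (H * H) = 1 := by
    rw [← map_mul, ← map_mul, hAeq _ 1 (Equiv.ext fun v => by
      simp only [map_mul, map_one, Equiv.Perm.mul_apply, hxh, Equiv.Perm.one_apply]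
      revert v; decide), map_one]
  obtain ⟨z₀, hz₀⟩ := hrootM u1
  set z := z₀ + H z₀ + H (H z₀) with hz
  have hHz : H z = z := by
    have hc : H (H (H z₀)) = z₀ := LinearEquiv.congr_fun hcom z₀
    rw [hz, map_add, map_add, hc]
    abel
  have hje : ∀ v, A xh (j v) = j (hmap v) := fun v => by rw [jA, hxh]
  have hzj : (2 ^ s' : ℕ) • z = j u1 := by
    rw [hz, nsmul_add, nsmul_add, ← map_nsmul, ← map_nsmul, ← map_nsmul, hz₀]
    show j u1 + A xh (j u1) + A xh (A xh (j u1)) = j u1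
    rw [hje, show hmap u1 = u1 by decide, hje, show hmap u1 = u1 by decide, ← jadd, ← jadd]
    exact congrArg j (by decide)
  obtain ⟨b₀, hb₀⟩ := hrootM u2
  set b₁ := U b₀
  have hb₁ : (2 ^ s' : ℕ) • b₁ = j u3 := by
    rw [← map_nsmul, hb₀]
    show A u (j u2) = j u3
    rw [jA, hρu, show p23 u2 = u3 by decide]
  have h2s : (2 : ℕ) ^ s = 2 * 2 ^ s' := by rw [hs', pow_succ']
  haveI : NeZero (2 ^ s) := ⟨by positivity⟩
  let L : (Fin 3 → (ZMod (2 ^ s))) →ₗ[(ZMod (2 ^ s))] (Additive Q) := Fintype.linearCombination (ZMod (2 ^ s)) ![z, b₀, b₁]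
  have hL : ∀ c, L c = c 0 • z + c 1 • b₀ + c 2 • b₁ := fun c => by
    simp [L, Fintype.linearCombination_apply, Fin.sum_univ_three]
  have hdec3 := vec_decomp
  have hLsurj : Function.Surjective L := by
    suffices ∀ k (y : (Additive Q)), (2 ^ k : ℕ) • y = 0 → ∃ c, L c = y by
      intro y
      exact this s y (by show y.toMul ^ 2 ^ s = 1; exact hs _)
    intro k
    induction k with
    | zero => intro y hy; rw [pow_zero, one_smul] at hy; exact ⟨0, by rw [hy, map_zero]⟩
    | succ k ih =>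
      intro y hy
      obtain ⟨v, hv⟩ := jtwo ((2 ^ k : ℕ) • y) (by rw [← two_nsmul, smul_smul, ← pow_succ']; exact hy)
      by_cases hks : s ≤ k
      · obtain ⟨c, hc⟩ := ih y (by
          obtain ⟨i, rfl⟩ := Nat.exists_eq_add_of_le hks
          rw [pow_add, mul_comm, mul_smul, show (2 ^ s : ℕ) • y = 0 from hs y.toMul, smul_zero])
        exact ⟨c, hc⟩
      let d : Fin 3 → (ZMod (2 ^ s)) := fun i => ((2 ^ (s' - k) : ℕ) : (ZMod (2 ^ s))) * ((v i).val : (ZMod (2 ^ s)))
      have hd : (2 ^ k : ℕ) • L d = j v := by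
        have hterm : ∀ (i : Fin 3) (y : (Additive Q)) (e : V3), (2 ^ s' : ℕ) • y = j e →
            (2 ^ k : ℕ) • (d i • y) = j (v i • e) := by
          intro i y e hye
          rw [show d i = (((2 ^ (s' - k) * (v i).val : ℕ)) : (ZMod (2 ^ s))) by simp [d], Nat.cast_smul_eq_nsmul,
            smul_smul, ← mul_assoc, ← pow_add, Nat.add_sub_cancel' (by omega), mul_comm,
            mul_smul, hye]
          rcases (show v i = 0 ∨ v i = 1 by generalize v i = a; revert a; decide) with h0 | h0 <;>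
            simp [h0, j0, show (1 : ZMod 2).val = 1 from rfl]
        rw [hL, nsmul_add, nsmul_add, hterm 0 z u1 hzj, hterm 1 b₀ u2 hb₀, hterm 2 b₁ u3 hb₁,
          ← jadd, ← jadd, ← hdec3]
      obtain ⟨c, hc⟩ := ih (y - L d) (by rw [nsmul_sub, hd, hv, sub_self])
      exact ⟨c + d, by rw [map_add, hc, sub_add_cancel]⟩
  have hLinj : Function.Injective L := by
    rw [injective_iff_map_eq_zero]
    by_contra hcon
    push Not at hcon
    obtain ⟨c, hc, hc0⟩ := hcon
    have hadd : addOrderOf c ∣ 2 ^ s := addOrderOf_dvd_of_nsmul_eq_zero (funext fun i => by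
      rw [Pi.smul_apply, nsmul_eq_mul, ZMod.natCast_self, zero_mul]
      rfl)
    obtain ⟨a, -, ha⟩ := (Nat.dvd_prime_pow Nat.prime_two).1 hadd
    rcases a with - | a
    · exact hc0 (AddMonoid.addOrderOf_eq_one_iff.1 (by simpa using ha))
    set d := (2 ^ a : ℕ) • c with hd
    have hd0 : d ≠ 0 := fun h0 => by
      have := addOrderOf_dvd_of_nsmul_eq_zero h0
      rw [ha] at this
      have := Nat.le_of_dvd (by positivity) this
      rw [pow_succ] at this
      have : 0 < 2 ^ a := by positivity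
      omega
    have hd2 : ∀ i, ∃ ε : ZMod 2, d i = ((2 ^ s' * ε.val : ℕ) : (ZMod (2 ^ s))) := by
      intro i
      have h0 : (2 : ℕ) • d = 0 := by
        rw [hd, smul_smul, ← pow_succ', ← ha]
        exact addOrderOf_nsmul_eq_zero c
      have h1 : ((2 * (d i).val : ℕ) : (ZMod (2 ^ s))) = 0 := by
        rw [Nat.cast_mul, ZMod.natCast_zmod_val]
        have := congrFun h0 i
        rwa [Pi.smul_apply, nsmul_eq_mul] at this
      rw [ZMod.natCast_eq_zero_iff] at h1
      have h1' : 2 ^ s' ∣ (d i).val := by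
        exact Nat.dvd_of_mul_dvd_mul_left two_pos ((dvd_of_eq h2s.symm).trans h1)
      obtain ⟨m, hm⟩ := h1'
      have hlt := ZMod.val_lt (d i)
      rw [hm] at hlt
      have hm2 : m < 2 := Nat.lt_of_mul_lt_mul_left (a := 2 ^ s') (by
        calc 2 ^ s' * m < 2 ^ s := hlt
          _ = 2 ^ s' * 2 := by rw [h2s, mul_comm])
      refine ⟨(m : ZMod 2), ?_⟩
      rw [ZMod.val_natCast, Nat.mod_eq_of_lt hm2, ← hm, ZMod.natCast_zmod_val]
    choose ε hε using hd2
    have hterm : ∀ (i : Fin 3) (y : (Additive Q)) (e : V3), (2 ^ s' : ℕ) • y = j e →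
        d i • y = j (ε i • e) := by
      intro i y e hye
      rw [hε, Nat.cast_smul_eq_nsmul, mul_comm, mul_smul, hye]
      rcases (show ε i = 0 ∨ ε i = 1 by generalize ε i = a; revert a; decide) with h0 | h0 <;>
        simp [h0, j0, show (1 : ZMod 2).val = 1 from rfl]
    have h3 : L d = 0 := by rw [hd, map_nsmul, hc, smul_zero]
    rw [hL, hterm 0 z u1 hzj, hterm 1 b₀ u2 hb₀, hterm 2 b₁ u3 hb₁, ← jadd, ← jadd] at h3
    have h4 : ε 0 • u1 + ε 1 • u2 + ε 2 • u3 = 0 := jinj (h3.trans j0.symm)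
    have h5 : (fun i => ε i) = (0 : V3) := by
      rw [← h4]; exact hdec3 fun i => ε i
    refine hd0 (funext fun i => ?_)
    rw [hε, show ε i = 0 from congrFun h5 i]
    simp
  let b : Module.Basis (Fin 3) (ZMod (2 ^ s)) (Additive Q) :=
    Module.Basis.ofEquivFun (LinearEquiv.ofBijective L ⟨hLinj, hLsurj⟩).symm
  have hrepr : ∀ c i, b.repr (L c) i = c i := fun c i => by
    rw [← Module.Basis.equivFun_apply, Module.Basis.equivFun_ofEquivFun]
    exact congrFun ((LinearEquiv.ofBijective L ⟨hLinj, hLsurj⟩).symm_apply_apply c) i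
  have hb : ∀ i, b i = ![z, b₀, b₁] i := fun i => by
    rw [Module.Basis.coe_ofEquivFun, LinearEquiv.symm_symm]
    show L (Pi.single i 1) = _
    rw [hL]
    fin_cases i <;> simp
  have hcoord : ∀ c c', L c = L c' → ∀ i, c i = c' i := fun c c' e => congrFun (hLinj e)
  have hdet3 : ∀ (F : (Additive Q) ≃ₗ[(ZMod (2 ^ s))] (Additive Q)) (c₀ c₁ c₂ : Fin 3 → (ZMod (2 ^ s))), F z = L c₀ → F b₀ = L c₁ → F b₁ = L c₂ →
      ((LinearEquiv.det F : (ZMod (2 ^ s))ˣ) : (ZMod (2 ^ s))) = c₀ 0 * c₁ 1 * c₂ 2 - c₀ 0 * c₂ 1 * c₁ 2 - c₁ 0 * c₀ 1 * c₂ 2 +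
        c₁ 0 * c₂ 1 * c₀ 2 + c₂ 0 * c₀ 1 * c₁ 2 - c₂ 0 * c₁ 1 * c₀ 2 := by
    intro F c₀ c₁ c₂ h0 h1 h2
    rw [LinearEquiv.coe_det, ← LinearMap.det_toMatrix b, Matrix.det_fin_three]
    have e0 : ∀ i, LinearMap.toMatrix b b (F : (Additive Q) →ₗ[(ZMod (2 ^ s))] (Additive Q)) i 0 = c₀ i := fun i => by
      rw [LinearMap.toMatrix_apply, hb]; show b.repr (F z) i = _; rw [h0, hrepr]
    have e1' : ∀ i, LinearMap.toMatrix b b (F : (Additive Q) →ₗ[(ZMod (2 ^ s))] (Additive Q)) i 1 = c₁ i := fun i => by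
      rw [LinearMap.toMatrix_apply, hb]; show b.repr (F b₀) i = _; rw [h1, hrepr]
    have e2' : ∀ i, LinearMap.toMatrix b b (F : (Additive Q) →ₗ[(ZMod (2 ^ s))] (Additive Q)) i 2 = c₂ i := fun i => by
      rw [LinearMap.toMatrix_apply, hb]; show b.repr (F b₁) i = _; rw [h2, hrepr]
    simp only [e0, e1', e2']
  -- determinants
  have hdw : LinearEquiv.det (A w) = 1 := by
    obtain ⟨xa, hxa⟩ := T.exists_lift (fun v => ![v 1, v 0 + v 1, v 2]) (by decide) (by decide)
    obtain ⟨xb, hxb⟩ := T.exists_lift (fun v => ![v 1, v 1 + v 2, v 0]) (by decide) (by decide)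
    have hxa' : ∀ v, (T.ρ xa)⁻¹ v = ![v 0 + v 1, v 0, v 2] := fun v => by
      rw [Equiv.Perm.inv_eq_iff_eq, hxa]; revert v; decide
    have hxb' : ∀ v, (T.ρ xb)⁻¹ v = ![v 2, v 0, v 0 + v 1] := fun v => by
      rw [Equiv.Perm.inv_eq_iff_eq, hxb]; revert v; decide
    have : A w = A xa * A xb * ((A xa)⁻¹ * (A xb)⁻¹) := by
      rw [← map_inv, ← map_inv, ← map_mul, ← map_mul, ← map_mul]
      refine hAeq _ _ (Equiv.ext fun v => ?_)
      simp only [map_mul, map_inv, Equiv.Perm.mul_apply, hw, hxa', hxb', hxa, hxb]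
      revert v; decide
    rw [this, map_mul, map_mul, map_mul, map_inv, map_inv, mul_mul_mul_comm, mul_inv_cancel,
      mul_inv_cancel, mul_one]
  set W := A w
  have hWW : W * W = U := by
    rw [← map_mul]
    refine hAeq _ _ (Equiv.ext fun v => ?_)
    simp only [map_mul, Equiv.Perm.mul_apply, hw, hρu]
    revert v; decide
  have hdU : LinearEquiv.det U = 1 := by rw [← hWW, map_mul, hdw, one_mul]
  have hUU : ∀ y, U (U y) = y := by
    intro y
    rw [← LinearEquiv.mul_apply, ← map_mul, hker _ hu2C]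
    rfl
  have hUb₁ : U b₁ = b₀ := hUU b₀
  -- the fixed space of `H`
  have hfixH : ∀ y : (Additive Q), H y = y → ∃ r : (ZMod (2 ^ s)), y = r • z := by
    suffices ∀ k (y : (Additive Q)), (2 ^ k : ℕ) • y = 0 → H y = y → ∃ r : (ZMod (2 ^ s)), y = r • z by
      intro y
      exact this s y (by show y.toMul ^ 2 ^ s = 1; exact hs _)
    intro k
    induction k with
    | zero => intro y hy _; rw [pow_zero, one_smul] at hy; exact ⟨0, by rw [hy, zero_smul]⟩
    | succ k ih =>
      intro y hy hHy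
      obtain ⟨v, hv⟩ := jtwo ((2 ^ k : ℕ) • y) (by rw [← two_nsmul, smul_smul, ← pow_succ']; exact hy)
      have hhv : hmap v = v := jinj (by rw [← hje, ← hv, map_nsmul]; exact congrArg _ hHy)
      by_cases hks : s ≤ k
      · refine ih y ?_ hHy
        obtain ⟨i, rfl⟩ := Nat.exists_eq_add_of_le hks
        rw [pow_add, mul_comm, mul_smul, show (2 ^ s : ℕ) • y = 0 from hs y.toMul, smul_zero]
      rcases (show v = 0 ∨ v = u1 by
        revert hhv; generalize v = a; revert a; decide) with rfl | rfl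
      · exact ih y (by rw [hv, j0]) hHy
      · obtain ⟨r, hr⟩ := ih (y - (2 ^ (s' - k) : ℕ) • z) (by
          rw [nsmul_sub, smul_smul, ← pow_add, Nat.add_sub_cancel' (by omega), hzj, hv, sub_self])
          (by rw [map_sub, map_nsmul, hHy, hHz])
        refine ⟨r + ((2 ^ (s' - k) : ℕ) : (ZMod (2 ^ s))), ?_⟩
        rw [add_smul, ← hr, Nat.cast_smul_eq_nsmul, sub_add_cancel]
  obtain ⟨ζ, hζ⟩ : ∃ ζ : (ZMod (2 ^ s)), U z = ζ • z := hfixH _ (by
    have h1 : A xh * U = U * (A xh * A xh) := by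
      rw [← map_mul, ← map_mul, ← map_mul]
      refine hAeq _ _ (Equiv.ext fun v => ?_)
      simp only [map_mul, Equiv.Perm.mul_apply, hxh, hρu]
      revert v; decide
    show (A xh * U) z = U z
    rw [h1]
    show U (H (H z)) = U z
    rw [hHz, hHz])
  have hζ1 : ζ = -1 := by
    have h1 := hdet3 U ![ζ, 0, 0] ![0, 0, 1] ![0, 1, 0] (by rw [hL, hζ]; simp)
      (by rw [hL]; simp [b₁]) (by rw [hL, hUb₁]; simp)
    rw [hdU] at h1
    simp at h1
    rw [h1, neg_neg]
  have hUz : U z = -z := by rw [hζ, hζ1, neg_one_smul]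
  -- so the square of `u` is the root of `z`
  have hx1 : x₁ = j u1 := by
    obtain ⟨r, hr⟩ := hfixH x₁ hHx
    have h1 := hUx
    rw [hr, map_smul, hUz, smul_neg] at h1
    obtain ⟨v, hv⟩ := jtwo x₁ (by rw [hr]; nth_rw 1 [← h1]; exact neg_add_cancel _)
    have hv0 : v ≠ 0 := fun h0 => hu2ne (by
      rw [h0, j0] at hv
      exact congrArg (fun y : (Additive Q) => (y.toMul : X)) hv)
    have hhv : hmap v = v := jinj (by rw [← hje, ← hv]; exact hHx)
    rw [hv, show v = u1 by revert hv0 hhv; generalize v = a; revert a; decide]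
  -- the square of `w * w`, moved next to `u`
  set u' := w * w
  have hρu' : T.ρ u' = T.ρ u := Equiv.ext fun v => by
    simp only [u', map_mul, Equiv.Perm.mul_apply, hw, hρu]
    revert v; decide
  have hu'2 : u' * u' ∈ Q := mem_top2_of_two P hn ((T.ρ_eq_one _).1 (by
    rw [map_mul, hρu', ← map_mul, hu2C])) (i := iw) (by
    rw [show u' * u' = w ^ 4 by simp [u', pow_succ, mul_assoc], ← pow_mul, mul_comm, pow_mul, hiw,
      one_pow])
  let x₂ : (Additive Q) := Additive.ofMul (⟨u' * u', hu'2⟩ : Q)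
  obtain ⟨y, hy⟩ : ∃ y : (Additive Q), x₂ = U y + x₁ + y := by
    set K := (Subgroup.zpowers (T.ρ u)).comap T.ρ
    have hQK : Q ≤ K := fun q hq => by
      refine Subgroup.mem_comap.2 ?_
      rw [(T.ρ_eq_one q).2 (central_top2 P hq)]
      exact one_mem _
    have huK : u ∈ K := Subgroup.mem_zpowers (T.ρ u)
    haveI := hn
    have hzu : IsPGroup 2 (Subgroup.zpowers u) := fun q => by
      obtain ⟨k, hk⟩ := Subgroup.mem_zpowers_iff.1 q.2
      refine ⟨iu, Subtype.ext ?_⟩
      rw [SubmonoidClass.coe_pow, ← hk, ← zpow_natCast, ← zpow_mul, mul_comm, zpow_mul,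
        zpow_natCast, hiu, one_zpow]
      rfl
    have hP1 : IsPGroup 2 (Q ⊔ Subgroup.zpowers u : Subgroup X) := hQ2.to_sup_of_normal_left hzu
    have hle : Q ⊔ Subgroup.zpowers u ≤ K := sup_le hQK (Subgroup.zpowers_le.2 huK)
    obtain ⟨S2, hS2⟩ := (hP1.comap_of_injective K.subtype K.subtype_injective).exists_le_sylow
    have hu'K : u' ∈ K := show T.ρ u' ∈ _ by rw [hρu']; exact Subgroup.mem_zpowers _
    have hzu' : IsPGroup 2 (Subgroup.zpowers (⟨u', hu'K⟩ : K)) := fun q => by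
      obtain ⟨k, hk⟩ := Subgroup.mem_zpowers_iff.1 q.2
      refine ⟨iw, Subtype.ext ?_⟩
      rw [SubmonoidClass.coe_pow, ← hk, ← zpow_natCast, ← zpow_mul, mul_comm, zpow_mul,
        zpow_natCast, show (⟨u', hu'K⟩ : K) ^ 2 ^ iw = 1 from Subtype.ext (by
          show u' ^ 2 ^ iw = 1
          rw [show u' = w ^ 2 from (pow_two w).symm, ← pow_mul, mul_comm, pow_mul, hiw, one_pow]),
        one_zpow]
      rfl
    obtain ⟨S', hS'⟩ := hzu'.exists_le_sylow
    obtain ⟨c, hc⟩ := MulAction.exists_smul_eq K S' S2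
    set σ := c.1 * u' * c.1⁻¹
    obtain ⟨k, hk⟩ : ∃ k : ℤ, T.ρ u ^ k = T.ρ c.1 := Subgroup.mem_zpowers_iff.1 c.2
    have hρσ : T.ρ σ = T.ρ u := by
      rw [map_mul, map_mul, map_inv, hρu', ← hk, ← (Commute.self_zpow (T.ρ u) k).eq,
        mul_inv_cancel_right]
    have hσS : (⟨σ, by refine Subgroup.mem_comap.2 ?_; rw [hρσ]; exact Subgroup.mem_zpowers _⟩ : K) ∈
        (S2 : Subgroup K) := by
      rw [← hc, Sylow.coe_subgroup_smul, Subgroup.mem_pointwise_smul_iff_inv_smul_mem]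
      convert hS' (Subgroup.mem_zpowers _) using 1
      refine Subtype.ext ?_
      simp [σ, mul_assoc]
    have hyS : (⟨u⁻¹ * σ, by
        refine Subgroup.mem_comap.2 ?_
        rw [map_mul, map_inv, hρσ, inv_mul_cancel]; exact one_mem _⟩ : K) ∈
          (S2 : Subgroup K) :=
      mul_mem (inv_mem (hS2 (show (⟨u, huK⟩ : K) ∈ (Q ⊔ Subgroup.zpowers u).comap K.subtype from
        (le_sup_right : Subgroup.zpowers u ≤ _) (Subgroup.mem_zpowers u)))) hσS
    obtain ⟨i, hi⟩ := S2.isPGroup' ⟨_, hyS⟩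
    have hyQ : u⁻¹ * σ ∈ Q := mem_top2_of_two P hn ((T.ρ_eq_one _).1 (by
        rw [map_mul, map_inv, hρσ, inv_mul_cancel]))
      (congrArg (fun q => ((q : (S2 : Subgroup K)) : K).1) hi)
    have hfix : c.1 * (u' * u') * c.1⁻¹ = u' * u' := by
      have h1 : T.ρ c.1 = T.ρ (u' ^ k) := by rw [map_zpow, hρu', hk]
      have h2 : A c.1 x₂ = A (u' ^ k) x₂ := by rw [hAeq _ _ h1]
      have h3 := congrArg (fun y : (Additive Q) => (y.toMul : X)) h2
      simp only [hA] at h3
      rw [show ((x₂.toMul : Q) : X) = u' * u' from rfl] at h3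
      rw [h3, ← (((Commute.refl u').mul_left (Commute.refl u')).zpow_right k).eq,
        mul_inv_cancel_right]
    refine ⟨Additive.ofMul ⟨u⁻¹ * σ, hyQ⟩, hext ?_⟩
    show u' * u' = u * (u⁻¹ * σ) * u⁻¹ * (u * u) * (u⁻¹ * σ)
    rw [← hfix]
    simp only [σ]
    group
  -- coordinates
  obtain ⟨c, hc⟩ := hLsurj y
  obtain ⟨cz, hcz⟩ := hLsurj (W z)
  obtain ⟨cb, hcb⟩ := hLsurj (W b₀)
  have hUL : ∀ c, U (L c) = L ![-c 0, c 2, c 1] := fun c => by
    rw [hL, hL, map_add, map_add, map_smul, map_smul, map_smul, hUz, hUb₁, show U b₀ = b₁ from rfl,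
      smul_neg]
    simp [neg_smul]
    abel
  have hWU : ∀ y, W (U y) = U (W y) := fun y => by rw [← hWW]; rfl
  have hWb₁ : W b₁ = L ![-cb 0, cb 2, cb 1] := by
    rw [show W b₁ = U (W b₀) from hWU b₀, ← hcb, hUL]
  set a := cz 0
  set d := cz 1
  set α := cb 0
  set β := cb 1
  set γ := cb 2
  have hd : cz 2 = -d := by
    have h1 : L ![-cz 0, cz 2, cz 1] = L (-cz) := by
      rw [← hUL, map_neg, hcz, ← hWU, hUz, map_neg]
    have h2 := hcoord _ _ h1 1
    simp at h2
    rw [h2]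
  have hWL : ∀ c, W (L c) = c 0 • L cz + c 1 • L cb + c 2 • L ![-α, γ, β] := fun c => by
    rw [hL, map_add, map_add, map_smul, map_smul, map_smul, ← hcz, ← hcb, hWb₁]
  have h11 : a * a + 2 * (d * α) = -1 := by
    have h1 : W (W z) = -z := by rw [← LinearEquiv.mul_apply, hWW, hUz]
    rw [← hcz, hWL, ← map_smul, ← map_smul, ← map_smul, ← map_add, ← map_add,
      show -z = L ![-1, 0, 0] by rw [hL]; simp] at h1
    have h2 := hcoord _ _ h1 0
    simp [hd] at h2
    linear_combination h2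
  have h21 : α * (a + β - γ) = 0 := by
    have h1 : W (W b₀) = b₁ := by rw [← LinearEquiv.mul_apply, hWW]
    rw [← hcb, hWL, ← map_smul, ← map_smul, ← map_smul, ← map_add, ← map_add,
      show b₁ = L ![0, 0, 1] by rw [hL]; simp] at h1
    have h2 := hcoord _ _ h1 0
    simp at h2
    linear_combination h2
  have hαu : IsUnit α := by
    have h1 : (2 ^ s' : ℕ) • L cb = j (gmap u2) := by
      rw [hcb, ← map_nsmul, hb₀]
      show A w (j u2) = _
      rw [jA, hw]
    rw [show gmap u2 = u1 + u2 by decide, jadd, ← hzj, ← hb₀, ← map_nsmul,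
      show (2 ^ s' : ℕ) • z + (2 ^ s' : ℕ) • b₀ = L ((2 ^ s' : ℕ) • ![1, 1, 0]) by
        rw [map_nsmul, hL]; simp [nsmul_add]] at h1
    have h2 : ((2 ^ s' * α.val : ℕ) : (ZMod (2 ^ s))) = ((2 ^ s' : ℕ) : (ZMod (2 ^ s))) := by
      have h3 := hcoord _ _ h1 0
      simp only [Pi.smul_apply, nsmul_eq_mul, Matrix.cons_val_zero, mul_one] at h3
      rw [Nat.cast_mul, ZMod.natCast_zmod_val]
      exact h3
    rw [ZMod.natCast_eq_natCast_iff'] at h2
    have hpos : 0 < 2 ^ s' := by positivity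
    have hlt : 2 ^ s' < 2 ^ s := by rw [h2s]; omega
    have hodd : ¬ 2 ∣ α.val := fun ⟨m, hm⟩ => by
      rw [hm, ← mul_assoc, mul_comm (2 ^ s') 2, ← h2s, Nat.mul_mod_right,
        Nat.mod_eq_of_lt hlt] at h2
      have : 0 < 2 ^ s' := by positivity
      omega
    rw [← ZMod.natCast_zmod_val α, ZMod.isUnit_iff_coprime]
    exact Nat.Coprime.pow_right _ ((Nat.prime_two.coprime_iff_not_dvd.2 hodd).symm)
  have ha : a = γ - β := by
    have := (IsUnit.mul_right_eq_zero hαu).1 h21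
    linear_combination this
  have hlam : β + γ = 1 := by
    have h1 := hdet3 W cz cb ![-α, γ, β] hcz.symm hcb.symm hWb₁
    rw [hdw] at h1
    simp [hd] at h1
    linear_combination (β + γ) * h11 - h1 - (β + γ) * a * ha
  -- the contradiction
  have hm : W (b₀ + b₁) = b₀ + b₁ := by
    rw [map_add, hWb₁, ← hcb, ← map_add, show b₀ + b₁ = L ![0, 1, 1] by rw [hL]; simp]
    refine congrArg L (funext fun i => ?_)
    fin_cases i
    · simp [α]
    · simp; exact hlam
    · simp; linear_combination hlam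
  have hx2 : x₂ = j u1 + (c 1 + c 2) • (b₀ + b₁) := by
    rw [hy, hx1, ← hc, hUL, hL, hL]
    simp
    module
  have hWx : W x₂ = x₂ := hext (by
    rw [hA]
    show w * (u' * u') * w⁻¹ = u' * u'
    simp only [u']
    group)
  rw [hx2, map_add, map_smul, hm, add_left_inj] at hWx
  rw [jA, hw] at hWx
  exact absurd (jinj hWx) (by decide)

end CfsgLib.Pyramidal
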