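import Cfsg.Agent.Lib.LinTwo.Main

/-!
# Anisotropic quadratic maps with a transitive group

A quadratic map `q : Q → E` over the field with two elements, `card Q = card E ^ 2`, vanishing only
at zero, all of whose components `λ ∘ q` (`λ ≠ 0`) have the same Gauss sum.  An automorphism of odd
order preserving `q` and fixing a nonzero vector is the identity.
-/

namespace CfsgLib.Pyramidal

open CfsgLib.LinTwo

section Gauss

variable {Q E : Type*} [AddCommGroup Q] [AddCommGroup E] [Module K2 Q] [Module K2 E]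
  [Finite E] [Fintype Q]
variable (q : Q → E) (B : Q →+ Q →+ E)

/-- The Gauss sum of a component. -/
def gauss (l : Module.Dual K2 E) : ℤ := ∑ v, sgn (l (q v))

open scoped Classical in
lemma sum_gauss [Fintype (Module.Dual K2 E)] (hani : ∀ v, q v = 0 → v = 0) (h0 : q 0 = 0) :
    ∑ l, gauss q l = Nat.card E := by
  simp only [gauss]
  rw [Finset.sum_comm, Finset.sum_eq_single (0 : Q)]
  · simp only [h0, map_zero, sgn_zero, Finset.sum_const, Finset.card_univ, Nat.smul_one_eq_cast]
    rw [← Nat.card_eq_fintype_card, (natural (⊥ : Subgroup (E ≃ₗ[K2] E))).card_eq]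
  · intro v _ hv
    exact (natural (⊥ : Subgroup (E ≃ₗ[K2] E))).sum_sgn fun h => hv (hani v h)
  · simp

variable {q B} (hq : ∀ a b, q (a + b) = q a + q b + B a b)
include hq

omit [Finite E] in
lemma exists_mul_self (l : Module.Dual K2 E) :
    ∃ T : ℤ, gauss q l * gauss q l = Fintype.card Q * T := by
  classical
  have h0 : q 0 = 0 := by
    have := hq 0 0
    simp only [map_zero, add_zero, vadd_self] at this
    exact this
  have key : ∀ w : Q, ∃ e : ℤ, ∑ a, sgn (l (B a w)) = Fintype.card Q * e := by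
    intro w
    by_cases hw : ∀ a, l (B a w) = 0
    · exact ⟨1, by simp [hw, sgn_zero]⟩
    · push Not at hw
      obtain ⟨a₀, ha₀⟩ := hw
      refine ⟨0, ?_⟩
      have h : ∑ a, sgn (l (B a w)) = ∑ a, sgn (l (B (a + a₀) w)) :=
        (Equiv.sum_comp (Equiv.addRight a₀) (fun a => sgn (l (B a w)))).symm
      have h' : ∑ a, sgn (l (B (a + a₀) w)) = -∑ a, sgn (l (B a w)) := by
        rw [← Finset.sum_neg_distrib]
        refine Finset.sum_congr rfl fun a _ => ?_
        rw [map_add, AddMonoidHom.add_apply, map_add, sgn_add, k2_eq_one ha₀, sgn_one]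
        ring
      omega
  choose e he using key
  refine ⟨∑ w, sgn (l (q w)) * e w, ?_⟩
  calc gauss q l * gauss q l = ∑ a, ∑ b, sgn (l (q a)) * sgn (l (q b)) := by
        rw [gauss, Finset.sum_mul_sum]
    _ = ∑ a, ∑ w, sgn (l (q w)) * sgn (l (B a w)) := by
        refine Finset.sum_congr rfl fun a _ => ?_
        rw [← Equiv.sum_comp (Equiv.addLeft a) (fun b => sgn (l (q a)) * sgn (l (q b)))]
        refine Finset.sum_congr rfl fun w _ => ?_
        simp only [Equiv.coe_addLeft, hq, map_add, sgn_add]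
        rw [← mul_assoc, ← mul_assoc, sgn_mul_self, one_mul]
    _ = _ := by
        rw [Finset.sum_comm, Finset.mul_sum]
        refine Finset.sum_congr rfl fun w _ => ?_
        rw [← Finset.mul_sum, he w]
        ring

end Gauss

/-- Automorphisms of odd order preserving an anisotropic quadratic map of this kind act freely. -/
theorem eq_one_of_fix {Q E : Type*} [AddCommGroup Q] [AddCommGroup E] [Module K2 Q] [Module K2 E]
    [Finite E] [Finite Q] {q : Q → E} {B : Q →+ Q →+ E} (hq : ∀ a b, q (a + b) = q a + q b + B a b)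
    (hani : ∀ v, q v = 0 → v = 0) {r : ℕ} (hr : r ≠ 0) (hE : Nat.card E = 2 ^ r)
    (hQ : Nat.card Q = 2 ^ (2 * r))
    (heq : ∀ l l' : Module.Dual K2 E, l ≠ 0 → l' ≠ 0 → ∀ [Fintype Q], gauss q l = gauss q l')
    (y : Q ≃ₗ[K2] Q) (hy : ∀ v, q (y v) = q v) {a : Q} (ha : a ≠ 0) (hya : y a = a)
    {k : ℕ} (hk : Odd k) (hyk : y ^ k = 1) : y = 1 := by
  classical
  letI := Fintype.ofFinite Q
  letI := Fintype.ofFinite (Module.Dual K2 E)
  haveI : Module.Finite K2 Q := Module.Finite.of_finite
  have h0 : q 0 = 0 := by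
    have := hq 0 0
    simp only [map_zero, add_zero, vadd_self] at this
    exact this
  have hcE : Fintype.card (Module.Dual K2 E) = 2 ^ r := by
    rw [← Nat.card_eq_fintype_card, (natural (⊥ : Subgroup (E ≃ₗ[K2] E))).card_eq, hE]
  obtain ⟨l₁, hl₁⟩ : ∃ l : Module.Dual K2 E, l ≠ 0 := by
    refine (Fintype.exists_ne_of_one_lt_card ?_ 0)
    rw [hcE]; exact Nat.one_lt_two_pow hr
  have hsumA : ∀ {R : Type _} [AddCommGroup R] [Module K2 R] [Fintype R] (φ : R →ₗ[K2] Q),
      Function.Injective φ →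
      ∑ l ∈ Finset.univ.erase (0 : Module.Dual K2 E), gauss (q ∘ φ) l = (2 : ℤ) ^ r - Fintype.card R := by
    intro R _ _ _ φ hφ
    have h1 := sum_gauss (q ∘ φ) (fun v hv => hφ ((hani _ hv).trans (map_zero φ).symm))
      (by simp [h0])
    rw [← Finset.sum_erase_add _ _ (Finset.mem_univ 0), hE] at h1
    have h2 : gauss (q ∘ φ) (0 : Module.Dual K2 E) = Fintype.card R := by
      simp [gauss, sgn_zero]
    rw [h2] at h1
    push_cast at h1
    omega
  have hp : (Finset.univ.erase (0 : Module.Dual K2 E)).card = 2 ^ r - 1 := by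
    rw [Finset.card_erase_of_mem (Finset.mem_univ _), Finset.card_univ, hcE]
  -- the common Gauss sum
  have hS : ∀ l : Module.Dual K2 E, l ≠ 0 → gauss q l = -(2 : ℤ) ^ r := by
    intro l hl
    have h1 := hsumA (LinearMap.id : Q →ₗ[K2] Q) Function.injective_id
    simp only [LinearMap.id_coe, Function.comp_id] at h1
    rw [Finset.sum_congr rfl (g := fun _ => gauss q l) (fun m hm =>
      heq m l (Finset.mem_erase.1 hm).1 hl), Finset.sum_const, hp, nsmul_eq_mul,
      ← Nat.card_eq_fintype_card, hQ] at h1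
    push_cast [Nat.cast_sub Nat.one_le_two_pow, two_mul, pow_add] at h1
    have h2 : ((2 : ℤ) ^ r - 1) * (gauss q l + 2 ^ r) = 0 := by linear_combination h1
    have h3 : (2 : ℤ) ^ r - 1 ≠ 0 := by
      have : (1 : ℤ) < 2 ^ r := one_lt_pow₀ (by norm_num) hr
      omega
    linarith [(mul_eq_zero.1 h2).resolve_left h3]
  -- fixed vectors and commutators
  let f : Q →ₗ[K2] Q := y.toLinearMap + LinearMap.id
  have hf : ∀ v, f v = y v + v := fun v => rfl
  set F := LinearMap.ker f
  set C := LinearMap.range f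
  have hF : ∀ v, v ∈ F ↔ y v = v := fun v => by
    rw [LinearMap.mem_ker, hf, add_eq_zero_iff_eq']
  have hB : ∀ u ∈ F, ∀ v, B u (y v + v) = 0 := by
    intro u hu v
    have h1 := hq u (y v)
    have h2 : q (u + y v) = q (u + v) := by
      conv_lhs => rw [← (hF u).1 hu, ← map_add, hy]
    rw [h2, hq, hy] at h1
    have h3 := add_left_cancel h1
    rw [map_add, ← h3, vadd_self]
  have hdisj : Disjoint F C := by
    rw [Submodule.disjoint_def]
    rintro u hu ⟨v, rfl⟩
    have hyw : y (f v) = f v := (hF _).1 hu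
    have hpow : ∀ i : ℕ, (y ^ i) v = v + (i : K2) • f v := by
      intro i
      induction i with
      | zero => simp
      | succ i ih =>
        rw [pow_succ', LinearEquiv.mul_apply, ih, map_add, map_smul, hyw, Nat.cast_succ, add_smul,
          one_smul]
        have : y v = v + f v := by rw [hf, add_comm v, add_add_cancel_right']
        rw [this]; abel
    have h := hpow k
    rw [hyk] at h
    obtain ⟨c, rfl⟩ := hk
    simpa [show (2 : K2) = 0 from rfl] using h
  have hcard : Nat.card F * Nat.card C = 2 ^ (2 * r) := by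
    rw [← hQ, Submodule.card_eq_card_quotient_mul_card F,
      Nat.card_congr f.quotKerEquivRange.toEquiv]
  have htop : F ⊔ C = ⊤ := by
    refine eq_of_le_of_card le_top ?_
    have := card_sup_mul_inf F C
    rw [disjoint_iff.1 hdisj, show Nat.card (⊥ : Submodule K2 Q) = 1 from Nat.card_unique, mul_one,
      hcard] at this
    rw [this, card_top_submodule, hQ]
  let e : (F × C) ≃ₗ[K2] Q := Submodule.prodEquivOfIsCompl F C
    ⟨hdisj, codisjoint_iff.2 htop⟩
  letI := Fintype.ofFinite F
  letI := Fintype.ofFinite C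
  let qF : F → E := q ∘ F.subtype
  let qC : C → E := q ∘ C.subtype
  have hsplit : ∀ l : Module.Dual K2 E, gauss q l = gauss qF l * gauss qC l := by
    intro l
    simp only [gauss, Finset.sum_mul_sum]
    rw [← Equiv.sum_comp e.toEquiv, Fintype.sum_prod_type]
    refine Finset.sum_congr rfl fun u _ => Finset.sum_congr rfl fun v _ => ?_
    show sgn (l (q (u.1 + v.1))) = _
    obtain ⟨w, hw⟩ := v.2
    rw [hq, ← hw, hf, hB u.1 u.2 w, add_zero, map_add, sgn_add, ← hf, hw]
    rfl
  let BR : ∀ R : Submodule K2 Q, R →+ R →+ E := fun R =>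
    (B.comp R.subtype.toAddMonoidHom).compl₂ R.subtype.toAddMonoidHom
  have hsq : ∀ R : Submodule K2 Q, ∀ [Fintype R] (l : Module.Dual K2 E),
      ∃ T : ℤ, gauss (q ∘ R.subtype) l * gauss (q ∘ R.subtype) l = Fintype.card R * T := by
    intro R _ l
    exact exists_mul_self (q := q ∘ R.subtype) (B := BR R) (fun u v => hq u.1 v.1) l
  obtain ⟨b, hb⟩ := exists_pow F
  have hFsq : ∀ l : Module.Dual K2 E, l ≠ 0 → gauss qF l * gauss qF l = (2 : ℤ) ^ b := by
    intro l hl
    obtain ⟨TF, hTF⟩ := hsq F l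
    obtain ⟨TC, hTC⟩ := hsq C l
    have hm : ((Fintype.card F : ℤ) * Fintype.card C) * (TF * TC) = (2 : ℤ) ^ r * 2 ^ r := by
      have := hS l hl
      rw [hsplit] at this
      calc ((Fintype.card F : ℤ) * Fintype.card C) * (TF * TC)
          = (Fintype.card F * TF) * (Fintype.card C * TC) := by ring
        _ = (gauss qF l * gauss qC l) * (gauss qF l * gauss qC l) := by
          rw [← hTF, ← hTC]; ring
        _ = _ := by rw [this]; ring
    have hc : ((Fintype.card F : ℤ) * Fintype.card C) = (2 : ℤ) ^ r * 2 ^ r := by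
      rw [← Nat.card_eq_fintype_card, ← Nat.card_eq_fintype_card, ← Nat.cast_mul, hcard, two_mul,
        pow_add]
      push_cast; ring
    rw [hc] at hm
    have h1 : TF * TC = 1 := (mul_eq_left₀ (by positivity)).1 hm
    have hFc : (Fintype.card F : ℤ) = 2 ^ b := by
      rw [← Nat.card_eq_fintype_card, hb]; push_cast; rfl
    rw [show gauss qF l * gauss qF l = _ from hTF]
    rcases Int.eq_one_or_neg_one_of_mul_eq_one h1 with rfl | rfl
    · rw [mul_one, hFc]
    · exfalso
      have := mul_self_nonneg (gauss (q ∘ F.subtype) l)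
      rw [hTF, hFc] at this
      have : (0 : ℤ) < 2 ^ b := by positivity
      linarith
  -- compare the sum
  have hsum : ∑ l ∈ Finset.univ.erase (0 : Module.Dual K2 E), gauss qF l = (2 : ℤ) ^ r - 2 ^ b := by
    have := hsumA F.subtype F.injective_subtype
    rw [this, ← Nat.card_eq_fintype_card, hb]
    push_cast; rfl
  obtain ⟨c, rfl⟩ : ∃ c, b = 2 * c := by
    have h1 := hFsq l₁ hl₁
    have h2 : (gauss qF l₁).natAbs * (gauss qF l₁).natAbs = 2 ^ b := by
      rw [← Int.natAbs_mul, h1, Int.natAbs_pow]; rfl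
    obtain ⟨c, -, hc⟩ := (Nat.dvd_prime_pow Nat.prime_two).1 (h2 ▸ dvd_mul_right _ _)
    rw [hc, ← pow_add] at h2
    exact ⟨c, by have := Nat.pow_right_injective le_rfl h2; omega⟩
  have hval : ∀ l : Module.Dual K2 E, l ≠ 0 → ∃ d : ℤ, gauss qF l = 2 ^ c * d ∧ (d = 1 ∨ d = -1) := by
    intro l hl
    have h1 := hFsq l hl
    rw [two_mul, pow_add] at h1
    rcases mul_self_eq_mul_self_iff.1 h1 with h2 | h2
    · exact ⟨1, by rw [h2, mul_one], Or.inl rfl⟩
    · exact ⟨-1, by rw [h2]; ring, Or.inr rfl⟩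
  choose d hd hd1 using hval
  set D := ∑ l ∈ (Finset.univ.erase (0 : Module.Dual K2 E)).attach, d l.1 (Finset.mem_erase.1 l.2).1
  have hD : (2 : ℤ) ^ c * D = 2 ^ r - 2 ^ (2 * c) := by
    rw [← hsum, Finset.mul_sum, ← Finset.sum_attach (Finset.univ.erase (0 : Module.Dual K2 E))
      (fun l => gauss qF l)]
    exact Finset.sum_congr rfl fun l _ => (hd l.1 _).symm
  have hDodd : D % 2 = 1 := by
    rw [Finset.sum_int_mod, Finset.sum_congr rfl (g := fun _ => (1 : ℤ)) (fun l _ => by
      rcases hd1 l.1 (Finset.mem_erase.1 l.2).1 with h | h <;> rw [h] <;> rfl), Finset.sum_const,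
      Finset.card_attach, hp, nsmul_one]
    have h1 := Nat.one_le_two_pow (n := r)
    obtain ⟨s, rfl⟩ := Nat.exists_eq_succ_of_ne_zero hr
    push_cast [Nat.cast_sub h1, pow_succ]
    omega
  have hc0 : c ≠ 0 := by
    rintro rfl
    have : Subsingleton F := (Finite.card_le_one_iff_subsingleton).1 (by rw [hb]; simp)
    exact ha (congrArg Subtype.val (Subsingleton.elim (⟨a, (hF a).2 hya⟩ : F) 0))
  have hcr : 2 * c ≤ 2 * r := by
    refine (Nat.pow_le_pow_iff_right one_lt_two).1 ?_
    rw [← hb, ← hQ]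
    exact Nat.card_le_card_of_injective Subtype.val Subtype.val_injective
  rcases Nat.lt_or_ge c r with hlt | hge
  · exfalso
    -- the quotient would be even
    obtain ⟨s, rfl⟩ := Nat.exists_eq_add_of_le hlt.le
    rw [two_mul, pow_add, pow_add, ← mul_sub] at hD
    have h2 := mul_left_cancel₀ (by positivity) hD
    obtain ⟨s', rfl⟩ := Nat.exists_eq_succ_of_ne_zero (show s ≠ 0 by omega)
    obtain ⟨c', rfl⟩ := Nat.exists_eq_succ_of_ne_zero hc0
    rw [h2, pow_succ, pow_succ] at hDodd
    omega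
  · have hFtop : F = ⊤ := eq_of_le_of_card le_top (by
      rw [card_top_submodule, hQ, hb, show c = r by omega])
    refine LinearEquiv.ext fun v => ?_
    exact (hF v).1 (hFtop ▸ Submodule.mem_top)

end CfsgLib.Pyramidal
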