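import Cfsg.Prelude.Def_Local
import Cfsg.Prelude.Def_Transfer
import Cfsg.Prelude.Def_Involutions
import Cfsg.Agent.S0205
import Cfsg.Agent.S0217
import Cfsg.Agent.S1225
import Cfsg.Agent.S1279

/-!
# Abelian Sylow 2-subgroups whose involutions have two-nilpotent centralisers

If in addition some class function separates two involutions of the Sylow subgroup, the group is
solvable: the signalizer functor gives a strongly embedded subgroup otherwise, and then all
involutions would be conjugate.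
-/

namespace CfsgLib.Pyramidal

open scoped Pointwise

/-- Burnside transfer form of solvability. -/
lemma isSolvable_of_burnside {C : Type*} [Group C] [Finite C] (P : Sylow 2 C)
    (hP : Subgroup.normalizer (P : Set C) ≤ Subgroup.centralizer (P : Set C)) :
    Group.IsSolvable C := by
  haveI : Fact (Nat.Prime 2) := ⟨Nat.prime_two⟩
  have hodd : Odd (Nat.card (MonoidHom.transferSylow P hP).ker) := Nat.odd_iff.2 (by
    have := MonoidHom.not_dvd_card_ker_transferSylow P hP
    omega)
  haveI := Cfsg.Agent.S0205.result hodd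
  haveI : Group.IsSolvable P := Group.isSolvable_of_comm fun a b => Subtype.ext
    (hP (Subgroup.le_normalizer b.2) a.1 a.2)
  exact Group.isSolvable_of_ker_le_range (MonoidHom.transferSylow P hP).ker.subtype
    (MonoidHom.transferSylow P hP) (by simp)

section Main

variable {S : Type*} [Group S] [Finite S] {Q : Sylow 2 S}

/-- The hypothesis on centralisers. -/
def Free (Q : Sylow 2 S) : Prop :=
  ∀ a ∈ (Q : Subgroup S), a ≠ 1 →
    Subgroup.normalizer (Q : Set S) ⊓ Subgroup.centralizer {a} ≤ Subgroup.centralizer (Q : Set S)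

variable (hcomm : ∀ a ∈ (Q : Subgroup S), ∀ b ∈ (Q : Subgroup S), a * b = b * a)
include hcomm

omit [Finite S] in
lemma le_centralizer_one {a : S} (ha : a ∈ (Q : Subgroup S)) :
    (Q : Subgroup S) ≤ Subgroup.centralizer {a} := fun x hx =>
  Subgroup.mem_centralizer_singleton_iff.2 (hcomm x hx a ha)

variable (hfree : Free Q)
include hfree

lemma norm_le {a : S} (ha : a ∈ (Q : Subgroup S)) (ha1 : a ≠ 1) :
    Subgroup.normalizer ((Q.subtype (le_centralizer_one hcomm ha) : Sylow 2 _) :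
        Set (Subgroup.centralizer ({a} : Set S))) ≤
      Subgroup.centralizer ((Q.subtype (le_centralizer_one hcomm ha) : Sylow 2 _) :
        Set (Subgroup.centralizer ({a} : Set S))) := by
  intro c hc y hy
  refine Subtype.ext (hfree a ha ha1 ⟨?_, c.2⟩ y.1 hy)
  refine Subgroup.mem_normalizer_iff.2 fun x => ?_
  constructor
  · intro hx
    exact (Subgroup.mem_normalizer_iff.1 hc ⟨x, le_centralizer_one hcomm ha hx⟩).1 hx
  · intro hx
    have h1 : c.1 * x * c.1⁻¹ ∈ Subgroup.centralizer ({a} : Set S) := le_centralizer_one hcomm ha hx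
    have h2 : x ∈ Subgroup.centralizer ({a} : Set S) := by
      have := mul_mem (mul_mem (inv_mem c.2) h1) c.2
      simpa [mul_assoc] using this
    exact (Subgroup.mem_normalizer_iff.1 hc ⟨x, h2⟩).2 hx

lemma centralizer_solvable {a : S} (ha : a ∈ (Q : Subgroup S)) (ha1 : a ≠ 1) :
    Group.IsSolvable (Subgroup.centralizer ({a} : Set S)) :=
  isSolvable_of_burnside _ (norm_le hcomm hfree ha ha1)

lemma mem_core_of_odd {a : S} (ha : a ∈ (Q : Subgroup S)) (ha1 : a ≠ 1) {x : S}
    (hx : x ∈ Subgroup.centralizer ({a} : Set S)) (hodd : Odd (orderOf x)) :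
    x ∈ Cfsg.centralizerPPrimeCore 2 a := by
  haveI : Fact (Nat.Prime 2) := ⟨Nat.prime_two⟩
  set P := Q.subtype (le_centralizer_one hcomm ha)
  set T := MonoidHom.transferSylow P (norm_le hcomm hfree ha ha1)
  have hT : T ⟨x, hx⟩ = 1 := by
    rw [← orderOf_eq_one_iff]
    obtain ⟨i, hi⟩ := (IsPGroup.iff_orderOf).1 P.isPGroup' (T ⟨x, hx⟩)
    have hd := orderOf_map_dvd T ⟨x, hx⟩
    rw [hi, Subgroup.orderOf_mk] at hd
    rcases i with _ | i
    · simpa using hi
    · exact absurd (dvd_trans (dvd_pow_self 2 (by omega)) hd) (by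
        rw [← even_iff_two_dvd, Nat.not_even_iff_odd]; exact hodd)
  have hle : T.ker ≤ Cfsg.pPrimeCore 2 (Subgroup.centralizer ({a} : Set S)) :=
    le_sSup ⟨MonoidHom.normal_ker T, ?_⟩
  exact ⟨⟨x, hx⟩, hle hT, rfl⟩
  exact ((Nat.prime_two.coprime_iff_not_dvd).2
    (MonoidHom.not_dvd_card_ker_transferSylow P (norm_le hcomm hfree ha ha1))).symm

lemma centralizer_decomp {a : S} (ha : a ∈ (Q : Subgroup S)) (ha1 : a ≠ 1) {c : S}
    (hc : c ∈ Subgroup.centralizer ({a} : Set S)) :
    ∃ k ∈ Cfsg.centralizerPPrimeCore 2 a, ∃ q ∈ (Q : Subgroup S), c = k * q := by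
  haveI : Fact (Nat.Prime 2) := ⟨Nat.prime_two⟩
  set P := Q.subtype (le_centralizer_one hcomm ha)
  obtain ⟨⟨k, q⟩, hkq⟩ :=
    (MonoidHom.ker_transferSylow_isComplement' P (norm_le hcomm hfree ha ha1)).2 ⟨c, hc⟩
  refine ⟨k.1.1, mem_core_of_odd hcomm hfree ha ha1 k.1.2 ?_, q.1.1, q.2, (congrArg Subtype.val hkq).symm⟩
  rw [Subgroup.orderOf_coe, Subgroup.orderOf_coe]
  have hk : Odd (Nat.card (MonoidHom.transferSylow P (norm_le hcomm hfree ha ha1)).ker) :=
    Nat.odd_iff.2 (by
      have := MonoidHom.not_dvd_card_ker_transferSylow P (norm_le hcomm hfree ha ha1)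
      omega)
  exact hk.of_dvd_nat (orderOf_dvd_natCard k)

variable {β : Type*} (f : S → β) (hf : ∀ g a, orderOf a = 2 → f (g * a * g⁻¹) = f a)
  (hexp : ∀ a ∈ (Q : Subgroup S), a * a = 1)
  (hne : ∃ a ∈ (Q : Subgroup S), ∃ b ∈ (Q : Subgroup S), a ≠ 1 ∧ b ≠ 1 ∧ f a ≠ f b)
include hf hexp hne

omit hfree in
/-- A subgroup containing the normaliser of `Q` and the centralisers is everything. -/
lemma eq_top_of_contains (M : Subgroup S) (hN : Subgroup.normalizer (Q : Set S) ≤ M)
    (hC : ∀ a ∈ (Q : Subgroup S), a ≠ 1 → Subgroup.centralizer {a} ≤ M) : M = ⊤ := by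
  haveI : Fact (Nat.Prime 2) := ⟨Nat.prime_two⟩
  have hQM : (Q : Subgroup S) ≤ M := Subgroup.le_normalizer.trans hN
  have horder : ∀ a ∈ (Q : Subgroup S), a ≠ 1 → orderOf a = 2 := fun a ha ha1 =>
    orderOf_eq_prime (by rw [pow_two]; exact hexp a ha) ha1
  -- fusion
  have hfus : ∀ h a, a ∈ (Q : Subgroup S) → a ≠ 1 → h * a * h⁻¹ ∈ (Q : Subgroup S) → h ∈ M := by
    intro h a ha ha1 ha'
    have h2 : ((h⁻¹ • Q : Sylow 2 S) : Subgroup S) ≤ Subgroup.centralizer {a} := by
      intro x hx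
      rw [Sylow.coe_subgroup_smul, Subgroup.mem_pointwise_smul_iff_inv_smul_mem] at hx
      simp only [MulAut.smul_def, map_inv, MulAut.conj_inv_apply, inv_inv] at hx
      refine Subgroup.mem_centralizer_singleton_iff.2 ?_
      have := hcomm _ hx _ ha'
      simp only [MulAut.conj_apply] at this
      calc x * a = h⁻¹ * ((h * x * h⁻¹) * (h * a * h⁻¹)) * h := by group
        _ = h⁻¹ * ((h * a * h⁻¹) * (h * x * h⁻¹)) * h := by rw [this]
        _ = a * x := by group
    obtain ⟨c, hc⟩ := MulAction.exists_smul_eq (Subgroup.centralizer ({a} : Set S))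
      (Q.subtype (le_centralizer_one hcomm ha)) ((h⁻¹ • Q).subtype h2)
    have hn : h * c.1 ∈ Subgroup.normalizer (Q : Set S) := by
      refine Subgroup.mem_normalizer_iff.2 ?_
      have key : ∀ x ∈ (Q : Subgroup S), h * c.1 * x * (h * c.1)⁻¹ ∈ (Q : Subgroup S) := by
        intro x hx
        have hmem : c * ⟨x, le_centralizer_one hcomm ha hx⟩ * c⁻¹ ∈
            (((h⁻¹ • Q).subtype h2 : Sylow 2 _) : Subgroup (Subgroup.centralizer ({a} : Set S))) := by
          rw [← hc, Sylow.coe_subgroup_smul, Subgroup.mem_pointwise_smul_iff_inv_smul_mem]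
          simp only [MulAut.smul_def, map_inv, MulAut.conj_inv_apply]
          simpa [mul_assoc, Subgroup.mem_subgroupOf] using hx
        have hmem' : c.1 * x * c.1⁻¹ ∈ ((h⁻¹ • Q : Sylow 2 S) : Subgroup S) := hmem
        rw [Sylow.coe_subgroup_smul, Subgroup.mem_pointwise_smul_iff_inv_smul_mem] at hmem'
        simp only [MulAut.smul_def, map_inv, MulAut.conj_inv_apply, inv_inv] at hmem'
        simpa [MulAut.conj_apply, mul_assoc] using hmem'
      intro x
      refine ⟨key x, fun hx => ?_⟩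
      obtain ⟨y, hy⟩ := (Finite.injective_iff_surjective (f := fun y : (Q : Subgroup S) =>
        (⟨_, key y.1 y.2⟩ : (Q : Subgroup S)))).1 (fun y z hyz => Subtype.ext (by
          simpa using congrArg Subtype.val hyz)) ⟨_, hx⟩
      have : y.1 = x := by simpa using congrArg Subtype.val hy
      exact this ▸ y.2
    have := mul_mem (hN hn) (inv_mem (hC a ha ha1 c.2))
    simpa using this
  -- involutions of `M`
  have hinto : ∀ u ∈ M, orderOf u = 2 → ∃ m ∈ M, m * u * m⁻¹ ∈ (Q : Subgroup S) := by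
    intro u hu hu2
    have hz : IsPGroup 2 (Subgroup.zpowers (⟨u, hu⟩ : M)) := IsPGroup.of_card (n := 1) (by
      rw [Nat.card_zpowers, Subgroup.orderOf_mk, hu2, pow_one])
    obtain ⟨P, hP⟩ := hz.exists_le_sylow
    obtain ⟨m, hm⟩ := MulAction.exists_smul_eq M P (Q.subtype hQM)
    refine ⟨m.1, m.2, ?_⟩
    have : m * ⟨u, hu⟩ * m⁻¹ ∈ ((Q.subtype hQM : Sylow 2 M) : Subgroup M) := by
      rw [← hm, Sylow.coe_subgroup_smul, Subgroup.mem_pointwise_smul_iff_inv_smul_mem]
      simp only [MulAut.smul_def, map_inv, MulAut.conj_inv_apply]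
      simpa [mul_assoc] using hP (Subgroup.mem_zpowers _)
    exact this
  by_contra hM
  obtain ⟨a, ha, b, hb, ha1, hb1, hab⟩ := hne
  have hse : Cfsg.IsStronglyEmbedded M := by
    refine ⟨hM, ?_, fun g hg => ?_⟩
    · exact even_iff_two_dvd.2 ((horder a ha ha1) ▸ Subgroup.orderOf_dvd_natCard _ (hQM ha))
    · by_contra hev
      rw [Nat.not_odd_iff_even, even_iff_two_dvd] at hev
      obtain ⟨⟨u, hu, hu'⟩, hu2⟩ := exists_prime_orderOf_dvd_card' 2 hev
      rw [← Subgroup.orderOf_coe] at hu2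
      obtain ⟨v, hv, rfl⟩ := hu'
      simp only [MulEquiv.coe_toMonoidHom, MulAut.conj_apply] at hu hu2
      have hv2 : orderOf v = 2 := by
        rwa [← MulAut.conj_apply, MulEquiv.orderOf_eq] at hu2
      obtain ⟨m, hm, hm'⟩ := hinto _ hu hu2
      obtain ⟨m', hm'', hm'''⟩ := hinto v hv hv2
      have h1 : m * g * m'⁻¹ ∈ M := hfus _ (m' * v * m'⁻¹) hm'''
        (fun e => by rw [conj_eq_one_iff] at e; rw [e, orderOf_one] at hv2; omega)
        (by simpa [mul_assoc] using hm')
      refine hg ?_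
      have := mul_mem (mul_mem (inv_mem hm) h1) hm''
      simpa [mul_assoc] using this
  obtain ⟨u, hu2, huM⟩ : ∃ u : S, orderOf u = 2 ∧ u ∉ M := by
    by_contra hall
    push Not at hall
    refine hM ((Subgroup.eq_top_iff' M).2 fun g => ?_)
    have h2 : orderOf (g * a * g⁻¹) = 2 := by
      rw [← MulAut.conj_apply, MulEquiv.orderOf_eq]; exact horder a ha ha1
    obtain ⟨m, hm, hm'⟩ := hinto _ (hall _ h2) h2
    have h1 : m * g ∈ M := hfus _ a ha ha1 (by simpa [mul_assoc] using hm')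
    have := mul_mem (inv_mem hm) h1
    simpa using this
  obtain ⟨g, hg⟩ := isConj_iff.1 ((Cfsg.Agent.S1225.result M hse u hu2 huM a a
    (horder a ha ha1) (hQM ha) (horder a ha ha1) (hQM ha)).2 a b (horder a ha ha1) (horder b hb hb1))
  exact hab (by rw [← hg, hf g a (horder a ha ha1)])

theorem isSolvable_of_free (h8 : 8 ≤ Nat.card (Q : Subgroup S)) : Group.IsSolvable S := by
  haveI : Fact (Nat.Prime 2) := ⟨Nat.prime_two⟩
  set θ := fun a : S => Cfsg.centralizerPPrimeCore 2 a
  obtain ⟨⟨h1, h2, h3, h4⟩, h5⟩ := Cfsg.Agent.S1279.result 2 (Q : Subgroup S)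
    ⟨⟨⟨fun a b => Subtype.ext (hcomm a.1 a.2 b.1 b.2)⟩⟩, fun a ha => by rw [pow_two]; exact hexp a ha⟩
    (le_trans (by norm_num) h8) (fun a ha ha1 => centralizer_solvable hcomm hfree ha ha1)
  obtain ⟨hW2, -⟩ := Cfsg.Agent.S0217.result (Q : Subgroup S) hcomm
    (fun a ha => by rw [pow_two]; exact hexp a ha) (le_trans (by norm_num) h8) θ h1 h2 h3 h5 h4
  set W := ⨆ a : {a : S // a ∈ (Q : Subgroup S) ∧ a ≠ 1}, θ a with hW
  have hθW : ∀ a ∈ (Q : Subgroup S), a ≠ 1 → θ a ≤ W := fun a ha ha1 =>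
    le_iSup (fun a : {a : S // a ∈ (Q : Subgroup S) ∧ a ≠ 1} => θ a) ⟨a, ha, ha1⟩
  have hconj : ∀ n ∈ Subgroup.normalizer (Q : Set S), ∀ x ∈ W, n * x * n⁻¹ ∈ W := by
    intro n hn
    have : W ≤ W.comap (MulAut.conj n).toMonoidHom := iSup_le fun ⟨a, ha, ha1⟩ x hx => by
      show n * x * n⁻¹ ∈ W
      have hna : n * a * n⁻¹ ∈ (Q : Subgroup S) := (Subgroup.mem_normalizer_iff.1 hn a).1 ha
      have hna1 : n * a * n⁻¹ ≠ 1 := fun e => ha1 (conj_eq_one_iff.1 e)
      refine hθW _ hna hna1 (mem_core_of_odd hcomm hfree hna hna1 ?_ ?_)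
      · have := Subgroup.mem_centralizer_singleton_iff.1 (h1 a ha ha1 hx)
        rw [Subgroup.mem_centralizer_singleton_iff]
        calc n * x * n⁻¹ * (n * a * n⁻¹) = n * (x * a) * n⁻¹ := by group
          _ = n * (a * x) * n⁻¹ := by rw [this]
          _ = _ := by group
      · rw [← MulAut.conj_apply, MulEquiv.orderOf_eq]
        have hodd : Odd (Nat.card (θ a)) := Nat.odd_iff.2 (by
          have h : ¬ 2 ∣ Nat.card (θ a) := h2 a ha ha1
          omega)
        exact hodd.of_dvd_nat (Subgroup.orderOf_dvd_natCard _ hx)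
    exact fun x hx => this hx
  have hNW : Subgroup.normalizer (Q : Set S) ≤ Subgroup.normalizer (W : Set S) := by
    intro n hn
    refine Subgroup.mem_normalizer_iff.2 fun x => ⟨hconj n hn x, fun hx => ?_⟩
    have := hconj n⁻¹ (inv_mem hn) _ hx
    simpa [mul_assoc] using this
  have htop1 := eq_top_of_contains hcomm f hf hexp hne (Subgroup.normalizer (W : Set S)) hNW
    (fun a ha ha1 c hc => by
      obtain ⟨k, hk, q, hq, rfl⟩ := centralizer_decomp hcomm hfree ha ha1 hc
      exact mul_mem (Subgroup.le_normalizer (hθW a ha ha1 hk)) (hNW (Subgroup.le_normalizer hq)))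
  haveI : W.Normal := Subgroup.normalizer_eq_top_iff.1 htop1
  have htop2 := eq_top_of_contains hcomm f hf hexp hne
    (W ⊔ Subgroup.normalizer (Q : Set S)) le_sup_right (fun a ha ha1 c hc => by
      obtain ⟨k, hk, q, hq, rfl⟩ := centralizer_decomp hcomm hfree ha ha1 hc
      exact mul_mem (Subgroup.mem_sup_left (hθW a ha ha1 hk))
        (Subgroup.mem_sup_right (Subgroup.le_normalizer hq)))
  have hW2' : ¬ 2 ∣ Nat.card W := hW2
  haveI : Group.IsSolvable W := Cfsg.Agent.S0205.result (Nat.odd_iff.2 (by omega))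
  -- the normaliser of `Q`
  set N := Subgroup.normalizer (Q : Set S)
  haveI : Group.IsSolvable N := by
    set QN := (Q : Subgroup S).subgroupOf N
    haveI : QN.Normal := Subgroup.normal_in_normalizer
    haveI : Group.IsSolvable QN := Group.isSolvable_of_comm fun a b =>
      Subtype.ext (Subtype.ext (hcomm a.1.1 a.2 b.1.1 b.2))
    haveI : Group.IsSolvable (N ⧸ QN) := by
      refine Cfsg.Agent.S0205.result (Nat.odd_iff.2 ?_)
      have := (Q.subtype (Subgroup.le_normalizer : (Q : Subgroup S) ≤ N)).not_dvd_index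
      rw [← Subgroup.index_eq_card]
      show QN.index % 2 = 1
      have e : QN.index = ((Q.subtype (Subgroup.le_normalizer : (Q : Subgroup S) ≤ N) : Sylow 2 N) :
        Subgroup N).index := rfl
      omega
    exact (Group.isSolvable_iff_subgroup_quotient QN).2 ⟨inferInstance, inferInstance⟩
  haveI : Group.IsSolvable (S ⧸ W) := by
    refine Group.isSolvable_of_surjective (f := (QuotientGroup.mk' W).comp N.subtype) fun y => ?_
    obtain ⟨x, rfl⟩ := QuotientGroup.mk'_surjective W y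
    have hx : x ∈ W ⊔ N := htop2 ▸ Subgroup.mem_top x
    rw [← SetLike.mem_coe, Subgroup.normal_mul] at hx
    obtain ⟨w, hw, n, hn, rfl⟩ := hx
    exact ⟨⟨n, hn⟩, by
      show QuotientGroup.mk' W n = QuotientGroup.mk' W (w * n)
      rw [map_mul, show QuotientGroup.mk' W w = 1 from (QuotientGroup.eq_one_iff w).2 hw, one_mul]⟩
  exact (Group.isSolvable_iff_subgroup_quotient W).2 ⟨inferInstance, inferInstance⟩

end Main

end CfsgLib.Pyramidal
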