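import Cfsg.Agent.Lib.Pyramidal.Basic
import Cfsg.Agent.Lib.Pyramidal.Quadratic
import Cfsg.Agent.Lib.Pyramidal.Strong
import Cfsg.Agent.Lib.RankOne.SuzukiTwoOrder
import Cfsg.Agent.S4179

/-!
# The centraliser of the involutions is solvable
-/

namespace CfsgLib.Pyramidal

open CfsgLib.LinTwo CfsgLib.RankOne

variable {X : Type*} [Group X] [Finite X] {E : Subgroup X} (hI : Inv E)

/-- The involutions are transitively permuted, and their number is a prime. -/
structure Single (E : Subgroup X) (r p : ℕ) : Prop where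
  card : Nat.card E = 2 ^ r
  prime : p.Prime
  eq : p + 1 = 2 ^ r
  trans : ∀ a ∈ E, ∀ b ∈ E, a ≠ 1 → b ≠ 1 → ∃ x : X, x * a * x⁻¹ = b

/-- A Sylow 2-subgroup of the centraliser of `E`, inside the whole group. -/
abbrev top2 (P : Sylow 2 (Subgroup.centralizer (E : Set X))) : Subgroup X :=
  (P : Subgroup _).map (Subgroup.centralizer (E : Set X)).subtype

variable (P : Sylow 2 (Subgroup.centralizer (E : Set X)))
include hI

local notation "𝐂" => Subgroup.centralizer (E : Set X)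

lemma E_le_top2 : E ≤ top2 P := by
  haveI : Fact (Nat.Prime 2) := ⟨Nat.prime_two⟩
  have hEC : E ≤ 𝐂 := fun e he f hf => hI.comm hf he
  haveI := hI.normal
  have h2 : IsPGroup 2 (E.subgroupOf 𝐂) := fun e => ⟨1, Subtype.ext (Subtype.ext (by
    rw [pow_one, pow_two]; exact hI.exp e.1.1 e.2))⟩
  obtain ⟨P', hP'⟩ := h2.exists_le_sylow
  obtain ⟨c, hc⟩ := MulAction.exists_smul_eq 𝐂 P' P
  intro e he
  refine ⟨⟨e, hEC he⟩, ?_, rfl⟩
  rw [← hc, Sylow.coe_subgroup_smul]
  exact Subgroup.mem_pointwise_smul_iff_inv_smul_mem.2 (hP' (by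
    have hmem : (⟨e, hEC he⟩ : 𝐂) ∈ E.subgroupOf 𝐂 := he
    have := (inferInstance : (E.subgroupOf 𝐂).Normal).conj_mem _ hmem c⁻¹
    simpa [MulAut.conj_inv_apply] using this))

omit hI in
lemma two_top2 : IsPGroup 2 (top2 P) := P.isPGroup'.map _

omit hI in
lemma central_top2 {x : X} (hx : x ∈ top2 P) : x ∈ Subgroup.centralizer (E : Set X) := by
  obtain ⟨c, -, rfl⟩ := hx; exact c.2

/-- If the Sylow subgroup is commutative the centraliser is solvable, by transfer. -/
lemma isSolvable_of_abelian (hP : ∀ a ∈ (P : Subgroup 𝐂), ∀ b ∈ (P : Subgroup 𝐂), a * b = b * a) :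
    Group.IsSolvable (Subgroup.centralizer (E : Set X)) := by
  haveI : Fact (Nat.Prime 2) := ⟨Nat.prime_two⟩
  letI : CommGroup (P : Subgroup 𝐂) :=
    { (inferInstance : Group (P : Subgroup 𝐂)) with
      mul_comm := fun a b => Subtype.ext (hP a.1 a.2 b.1 b.2) }
  set T := MonoidHom.transfer (MonoidHom.id (P : Subgroup 𝐂))
  have hodd : Odd (Nat.card T.ker) := by
    rw [← Nat.not_even_iff_odd, even_iff_two_dvd]
    intro h2
    obtain ⟨⟨e, he⟩, he2⟩ := exists_prime_orderOf_dvd_card' 2 h2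
    rw [← Subgroup.orderOf_coe] at he2
    have hee : e * e = 1 := by
      have := pow_orderOf_eq_one e
      rwa [he2, pow_two] at this
    have heE : (e : X) ∈ E := hI.invol _ (congrArg Subtype.val hee)
    have hcen : ∀ c : 𝐂, c * e = e * c := fun c => Subtype.ext (c.2 e.1 heE).symm
    have hkey : T e = (MonoidHom.id _) ⟨e ^ (P : Subgroup 𝐂).index, _⟩ :=
      MonoidHom.transfer_eq_pow _ e fun k g₀ _ => by
        have : Commute g₀ e := hcen g₀
        rw [mul_assoc, ← (this.pow_right k).eq, inv_mul_cancel_left]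
    have h1 : e ^ (P : Subgroup 𝐂).index = 1 := by
      rw [MonoidHom.mem_ker.1 he] at hkey
      exact (congrArg Subtype.val hkey).symm
    have h3 := orderOf_dvd_of_pow_eq_one h1
    rw [he2] at h3
    exact P.not_dvd_index h3
  haveI := Cfsg.Agent.S0205.result hodd
  exact Group.isSolvable_of_ker_le_range T.ker.subtype T (by simp)

variable {r p : ℕ} (hS : Single E r p)
include hS

omit [Finite X] hI in
lemma Single.r_ne : r ≠ 0 := by
  rintro rfl
  have := hS.prime.two_le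
  have := hS.eq
  omega

omit [Finite X] hI in
lemma Single.exists_ne : ∃ e ∈ E, e ≠ 1 := by
  by_contra h
  push Not at h
  have hb : E = ⊥ := (Subgroup.eq_bot_iff_forall E).2 h
  have h1 := hS.card
  rw [hb, Subgroup.card_bot, ← hS.eq] at h1
  have := hS.prime.two_le
  omega

omit [Finite X] hI in
lemma Single.exists_two : ∃ a ∈ E, ∃ b ∈ E, a ≠ 1 ∧ b ≠ 1 ∧ a ≠ b := by
  obtain ⟨a, ha, ha1⟩ := hS.exists_ne
  by_contra h
  push Not at h
  have hsub : (E : Set X) ⊆ {1, a} := fun b hb => by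
    by_cases hb1 : b = 1
    · exact Or.inl hb1
    · exact Or.inr (h a ha b hb ha1 hb1).symm
  haveI : Finite E := Nat.finite_of_card_ne_zero (by rw [hS.card]; positivity)
  have h1 := Set.ncard_le_ncard hsub (Set.toFinite _)
  rw [Set.ncard_pair (Ne.symm ha1), ← Nat.card_coe_set_eq, SetLike.coe_sort_coe, hS.card, ← hS.eq] at h1
  have := hS.prime.two_le
  omega

/-- An element normalising the Sylow subgroup and transitive on the involutions. -/
lemma exists_transitive :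
    ∃ g ∈ Subgroup.normalizer (top2 P : Set X),
      (∀ a ∈ E, ∀ b ∈ E, a ≠ 1 → b ≠ 1 → ∃ k : ℤ, g ^ k * a * (g ^ k)⁻¹ = b) ∧
      orderOf (hI.lin g) = p := by
  classical
  haveI : Fact (Nat.Prime 2) := ⟨Nat.prime_two⟩
  haveI : Fact p.Prime := ⟨hS.prime⟩
  letI := hI.commGroup
  letI := hI.module
  haveI := hI.normal
  have hF := Sylow.normalizer_sup_eq_top P
  let N := Subgroup.normalizer (top2 P : Set X)
  let ψ : N →* (Additive E ≃ₗ[K2] Additive E) := hI.lin.comp N.subtype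
  have hdvd : p ∣ Nat.card ψ.range := by
    obtain ⟨e, he, he1⟩ := hS.exists_ne
    have hsurj : ∀ b (hbE : b ∈ E), b ≠ 1 → ∃ f ∈ ψ.range,
        f (Additive.ofMul ⟨e, he⟩) = Additive.ofMul (⟨b, hbE⟩ : E) := by
      intro b hb hb1
      obtain ⟨x, hx⟩ := hS.trans e he b hb he1 hb1
      have hxt : x ∈ N ⊔ 𝐂 := hF.symm ▸ Subgroup.mem_top x
      rw [← SetLike.mem_coe, Subgroup.mul_normal] at hxt
      obtain ⟨n, hn, c, hc, rfl⟩ := hxt
      refine ⟨ψ ⟨n, hn⟩, ⟨_, rfl⟩, congrArg Additive.ofMul (Subtype.ext ?_)⟩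
      show n * e * n⁻¹ = b
      have hce : c * e * c⁻¹ = e := by rw [← hc e he, mul_inv_cancel_right]
      rw [← hx]
      calc n * e * n⁻¹ = n * (c * e * c⁻¹) * n⁻¹ := by rw [hce]
        _ = n * c * e * (n * c)⁻¹ := by group
    set v : Additive E := Additive.ofMul ⟨e, he⟩
    have horb : MulAction.orbit ψ.range v = ({0} : Set (Additive E))ᶜ := by
      ext w
      constructor
      · rintro ⟨f, rfl⟩ h0
        exact he1 (congrArg Subtype.val ((LinearEquiv.map_eq_zero_iff f.1).1 h0))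
      · intro hw
        obtain ⟨f, hf, hfw⟩ := hsurj w.toMul.1 w.toMul.2
          fun h1 => hw (Subtype.ext h1 : w.toMul = 1)
        exact ⟨⟨f, hf⟩, hfw⟩
    have h1 := Subgroup.index_dvd_card (MulAction.stabilizer ψ.range v)
    rw [MulAction.index_stabilizer, horb, Set.ncard_compl, Set.ncard_singleton,
      show Nat.card (Additive E) = 2 ^ r from hS.card] at h1
    rwa [show p = 2 ^ r - 1 by have := hS.eq; omega]
  obtain ⟨⟨f, n, rfl⟩, hf⟩ := exists_prime_orderOf_dvd_card' p hdvd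
  rw [← Subgroup.orderOf_coe] at hf
  refine ⟨n.1, n.2, fun a ha b hb ha1 hb1 => ?_, hf⟩
  obtain ⟨k, hk⟩ := Cfsg.Agent.S4179.zpowers_trans hS.prime
    (show Nat.card (Additive E) = p + 1 by rw [hS.eq]; exact hS.card) hf
    (Additive.ofMul (⟨a, ha⟩ : E)) (Additive.ofMul ⟨b, hb⟩)
    (fun h => ha1 (congrArg Subtype.val h)) (fun h => hb1 (congrArg Subtype.val h))
  refine ⟨k, ?_⟩
  change (hI.lin n.1 ^ k) _ = _ at hk
  rw [← map_zpow] at hk
  exact congrArg Subtype.val hk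

/-- Higman: a non-commutative Sylow subgroup of the centraliser is a Suzuki 2-group. -/
lemma top2_structure (hna : ¬ ∀ a ∈ (P : Subgroup 𝐂), ∀ b ∈ (P : Subgroup 𝐂), a * b = b * a) :
    (∀ x ∈ top2 P, x * x ∈ E) ∧
      (Nat.card (top2 P) = (2 ^ r) ^ 2 ∨ Nat.card (top2 P) = (2 ^ r) ^ 3) := by
  haveI : Fact (Nat.Prime 2) := ⟨Nat.prime_two⟩
  have hP2 := two_top2 (E := E) P
  have hEP := E_le_top2 hI P
  obtain ⟨g, hg, htr, -⟩ := exists_transitive hI P hS
  let N := Subgroup.normalizer (top2 P : Set X)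
  letI : CommGroup (Subgroup.zpowers g) :=
    { (inferInstance : Group (Subgroup.zpowers g)) with
      mul_comm := fun a b => Subtype.ext (Subgroup.mem_zpowers_iff.1 a.2 |>.elim fun i hi =>
        Subgroup.mem_zpowers_iff.1 b.2 |>.elim fun j hj => by
          show a.1 * b.1 = b.1 * a.1
          rw [← hi, ← hj, ← zpow_add, ← zpow_add, add_comm]) }
  let φ : Subgroup.zpowers g →* MulAut (top2 P) :=
    (top2 P).normalizerMonoidHom.comp (Subgroup.inclusion (Subgroup.zpowers_le.2 hg))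
  have hφ : ∀ (k : Subgroup.zpowers g) (x : top2 P), ((φ k x : top2 P) : X) = k.1 * x.1 * k.1⁻¹ :=
    fun k x => rfl
  have hA : SuzukiTwo.Trans φ := by
    intro x y hx hx2 hy hy2
    have hxE : x.1 ∈ E := hI.invol _ (congrArg Subtype.val hx2)
    have hyE : y.1 ∈ E := hI.invol _ (congrArg Subtype.val hy2)
    obtain ⟨k, hk⟩ := htr x.1 hxE y.1 hyE (fun h => hx (Subtype.ext h)) (fun h => hy (Subtype.ext h))
    exact ⟨⟨g ^ k, Subgroup.zpow_mem_zpowers g k⟩, Subtype.ext hk⟩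
  have hna' : ∃ x y : top2 P, x * y ≠ y * x := by
    by_contra h
    push Not at h
    refine hna fun a ha b hb => Subtype.ext ?_
    have := h ⟨a.1, a, ha, rfl⟩ ⟨b.1, b, hb, rfl⟩
    exact (congrArg (fun z : top2 P => (z : X)) this : a.1 * b.1 = b.1 * a.1)
  obtain ⟨a, ha, b, hb, ha1, hb1, hab⟩ := hS.exists_two
  have htwo : ∃ x y : top2 P, x ≠ y ∧ x ≠ 1 ∧ x * x = 1 ∧ y ≠ 1 ∧ y * y = 1 :=
    ⟨⟨a, hEP ha⟩, ⟨b, hEP hb⟩, fun h => hab (congrArg Subtype.val h),
      fun h => ha1 (congrArg Subtype.val h), Subtype.ext (hI.exp a ha),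
      fun h => hb1 (congrArg Subtype.val h), Subtype.ext (hI.exp b hb)⟩
  have hZ : ∀ x : top2 P, x ∈ Subgroup.center (top2 P) ↔ x.1 ∈ E := by
    intro x
    rw [SuzukiTwoExp.mem_center_iff' hP2 hA hna']
    exact ⟨fun h => hI.invol _ (congrArg Subtype.val h), fun h => Subtype.ext (hI.exp _ h)⟩
  have hZc : Nat.card (Subgroup.center (top2 P)) = 2 ^ r := by
    rw [← hS.card]
    exact Nat.card_congr ⟨fun z => ⟨z.1.1, (hZ z.1).1 z.2⟩,
      fun e => ⟨⟨e.1, hEP e.2⟩, (hZ _).2 e.2⟩, fun z => rfl, fun e => rfl⟩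
  refine ⟨fun x hx => (hZ _).1 (SuzukiTwoExp.sq_mem_center hP2 hA hna' htwo ⟨x, hx⟩), ?_⟩
  rw [← hZc]
  exact SuzukiTwoOrder.card_eq hP2 hA hna' htwo

section Suzuki

variable (hsq : ∀ x ∈ top2 P, x * x ∈ E)
include hsq

omit hS in
lemma comm_mem {a b : X} (ha : a ∈ top2 P) (hb : b ∈ top2 P) : a * b * a⁻¹ * b⁻¹ ∈ E := by
  have e : a * b * a⁻¹ * b⁻¹ = a * b * (a * b) * ((b⁻¹ * a⁻¹ * b⁻¹⁻¹) * (b⁻¹ * a⁻¹ * b⁻¹⁻¹)) *
      (b⁻¹ * b⁻¹) := by group
  rw [e]
  refine mul_mem (mul_mem (hsq _ (mul_mem ha hb)) ?_) (hsq _ (inv_mem hb))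
  rw [show b⁻¹ * a⁻¹ * b⁻¹⁻¹ * (b⁻¹ * a⁻¹ * b⁻¹⁻¹) = b⁻¹ * (a⁻¹ * a⁻¹) * b⁻¹⁻¹ by group]
  exact hI.normal.conj_mem _ (hsq _ (inv_mem ha)) _

omit hS in
lemma sq_mul {a b : X} (ha : a ∈ top2 P) (hb : b ∈ top2 P) :
    a * b * (a * b) = a * a * (b * b) * (a * b * a⁻¹ * b⁻¹) := by
  have hc := comm_mem hI P hsq ha hb
  have hcb : Commute (a * b * a⁻¹ * b⁻¹) (b * b) := hI.comm hc (hsq b hb)
  have hcomm : ∀ {e x : X}, e ∈ E → x ∈ top2 P → e * x = x * e := fun he hx =>
    (central_top2 P hx _ he)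
  calc a * b * (a * b) = a * ((b * a * b⁻¹ * a⁻¹) * a) * b * b := by group
    _ = a * (a * (b * a * b⁻¹ * a⁻¹)) * b * b := by
      rw [show (b * a * b⁻¹ * a⁻¹) * a = a * (b * a * b⁻¹ * a⁻¹) from
        hcomm (comm_mem hI P hsq hb ha) ha]
    _ = a * a * ((b * a * b⁻¹ * a⁻¹) * (b * b)) := by group
    _ = a * a * ((b * b) * (b * a * b⁻¹ * a⁻¹)) := by
      rw [hI.comm (comm_mem hI P hsq hb ha) (hsq b hb)]
    _ = a * a * (b * b) * (a * b * a⁻¹ * b⁻¹) := by
      rw [← mul_assoc, show b * a * b⁻¹ * a⁻¹ = (a * b * a⁻¹ * b⁻¹)⁻¹ by group, hI.inv_eq hc]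

omit hS in
/-- Squaring is invariant under translation by `E`. -/
lemma sq_right {a e : X} (ha : a ∈ Subgroup.centralizer (E : Set X)) (he : e ∈ E) :
    a * e * (a * e) = a * a := by
  rw [show a * e * (a * e) = a * (e * a) * e by group, ha e he,
    show a * (a * e) * e = a * a * (e * e) by group, hI.exp e he, mul_one]

/-- Every involution is a square in the Sylow subgroup. -/
lemma exists_sqrt (hlt : Nat.card E < Nat.card (top2 P)) {e : X} (he : e ∈ E) :
    ∃ x ∈ top2 P, x * x = e := by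
  by_cases he1 : e = 1
  · exact ⟨1, one_mem _, by rw [he1, one_mul]⟩
  obtain ⟨g, hg, htr, -⟩ := exists_transitive hI P hS
  obtain ⟨x, hx, hxE⟩ : ∃ x ∈ top2 P, x ∉ E := by
    by_contra h
    push Not at h
    have := Nat.card_le_card_of_injective _ (Subgroup.inclusion_injective (h : top2 P ≤ E))
    omega
  have hx2 : x * x ≠ 1 := fun h => hxE (hI.invol x h)
  obtain ⟨k, hk⟩ := htr _ (hsq x hx) e he hx2 he1
  refine ⟨g ^ k * x * (g ^ k)⁻¹, (Subgroup.mem_normalizer_iff.1 (zpow_mem hg k) x).1 hx, ?_⟩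
  rw [← hk]; group

/-- With `card = q ^ 2` squaring is injective modulo `E`. -/
lemma sq_inj (h2 : Nat.card (top2 P) = (2 ^ r) ^ 2) {a b : X} (ha : a ∈ top2 P) (hb : b ∈ top2 P)
    (h : a * a = b * b) : a⁻¹ * b ∈ E := by
  have hEP := E_le_top2 hI P
  have hlt : Nat.card E < Nat.card (top2 P) := by
    rw [h2, hS.card, ← pow_mul]
    exact Nat.pow_lt_pow_right one_lt_two (by have := hS.r_ne; omega)
  haveI := hI.normal
  let sq : top2 P ⧸ E.subgroupOf (top2 P) → E :=
    Quotient.lift (fun x => ⟨x.1 * x.1, hsq _ x.2⟩) (by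
      intro x y hxy
      have hd' : x⁻¹ * y ∈ E.subgroupOf (top2 P) := QuotientGroup.leftRel_apply.1 hxy
      have hd : x.1⁻¹ * y.1 ∈ E := hd'
      refine Subtype.ext ?_
      show x.1 * x.1 = y.1 * y.1
      rw [← sq_right hI P hsq (central_top2 P x.2) hd, mul_inv_cancel_left])
  have hsurj : Function.Surjective sq := fun e => by
    obtain ⟨x, hx, hxe⟩ := exists_sqrt hI P hS hsq hlt e.2
    exact ⟨QuotientGroup.mk ⟨x, hx⟩, Subtype.ext hxe⟩
  have hc : Nat.card (top2 P ⧸ E.subgroupOf (top2 P)) ≤ Nat.card E := by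
    have := Subgroup.card_eq_card_quotient_mul_card_subgroup (E.subgroupOf (top2 P))
    rw [Nat.card_congr (Subgroup.subgroupOfEquivOfLe hEP).toEquiv, h2, hS.card, pow_two] at this
    rw [hS.card]
    exact (Nat.eq_of_mul_eq_mul_right (by positivity) this).ge
  have h' := (hsurj.bijective_of_nat_card_le hc).1
    (show sq (QuotientGroup.mk ⟨a, ha⟩) = sq (QuotientGroup.mk ⟨b, hb⟩) from Subtype.ext h)
  have h'' : (⟨a, ha⟩ : top2 P)⁻¹ * ⟨b, hb⟩ ∈ E.subgroupOf (top2 P) := QuotientGroup.eq.1 h'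
  exact h''

/-- An element of the centraliser normalising the Sylow subgroup, of odd order on the quotient by
`E` and fixing a nontrivial coset, is trivial on that quotient. -/
theorem free_on_quotient (h3 : Nat.card (top2 P) = (2 ^ r) ^ 3) {c : X}
    (hc : c ∈ Subgroup.centralizer (E : Set X)) (hcn : c ∈ Subgroup.normalizer (top2 P : Set X))
    {a : X} (ha : a ∈ top2 P) (haE : a ∉ E) (hca : a⁻¹ * (c * a * c⁻¹) ∈ E)
    {k : ℕ} (hk : Odd k) (hck : ∀ x ∈ top2 P, x⁻¹ * (c ^ k * x * (c ^ k)⁻¹) ∈ E) :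
    ∀ x ∈ top2 P, x⁻¹ * (c * x * c⁻¹) ∈ E := by
  classical
  haveI := hI.normal
  letI := hI.commGroup
  letI := hI.module
  have hEP := E_le_top2 hI P
  set EP := E.subgroupOf (top2 P)
  letI : CommGroup (top2 P ⧸ EP) :=
    { (inferInstance : Group (top2 P ⧸ EP)) with
      mul_comm := fun u v => by
        obtain ⟨u, rfl⟩ := QuotientGroup.mk_surjective u
        obtain ⟨v, rfl⟩ := QuotientGroup.mk_surjective v
        refine QuotientGroup.eq.2 ?_
        show (u.1 * v.1)⁻¹ * (v.1 * u.1) ∈ E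
        rw [show (u.1 * v.1)⁻¹ * (v.1 * u.1) = v.1⁻¹ * u.1⁻¹ * v.1⁻¹⁻¹ * u.1⁻¹⁻¹ by group]
        exact comm_mem hI P hsq (inv_mem v.2) (inv_mem u.2) }
  letI : Module K2 (Additive (top2 P ⧸ EP)) := AddCommGroup.zmodModule fun v => by
    obtain ⟨x, hx⟩ := QuotientGroup.mk_surjective v.toMul
    rw [two_nsmul]
    show v.toMul * v.toMul = 1
    rw [← hx, ← QuotientGroup.mk_mul, QuotientGroup.eq_one_iff]
    exact hsq _ x.2
  let q : Additive (top2 P ⧸ EP) → Additive E := fun v => Additive.ofMul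
    (Quotient.lift (fun x => (⟨x.1 * x.1, hsq _ x.2⟩ : E)) (by
      intro x y hxy
      have hd' : x⁻¹ * y ∈ E.subgroupOf (top2 P) := QuotientGroup.leftRel_apply.1 hxy
      have hd : x.1⁻¹ * y.1 ∈ E := hd'
      refine Subtype.ext ?_
      show x.1 * x.1 = y.1 * y.1
      rw [← sq_right hI P hsq (central_top2 P x.2) hd, mul_inv_cancel_left]) v.toMul)
  let β : Additive (top2 P ⧸ EP) → Additive (top2 P ⧸ EP) → Additive E := fun u v =>
    q (u + v) + q u + q v
  have hq2 : ∀ x y : top2 P, β (Additive.ofMul (QuotientGroup.mk x)) (Additive.ofMul (QuotientGroup.mk y))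
      = Additive.ofMul (⟨x.1 * y.1 * x.1⁻¹ * y.1⁻¹, comm_mem hI P hsq x.2 y.2⟩ : E) := by
    intro x y
    refine congrArg Additive.ofMul (Subtype.ext ?_)
    show x.1 * y.1 * (x.1 * y.1) * (x.1 * x.1) * (y.1 * y.1) = x.1 * y.1 * x.1⁻¹ * y.1⁻¹
    rw [sq_mul hI P hsq x.2 y.2]
    have e1 := hI.exp _ (hsq _ x.2)
    have e2 := hI.exp _ (hsq _ y.2)
    have c1 := hI.comm (comm_mem hI P hsq x.2 y.2) (hsq _ x.2)
    have c2 := hI.comm (comm_mem hI P hsq x.2 y.2) (hsq _ y.2)
    have c3 := hI.comm (hsq _ y.2) (hsq _ x.2)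
    generalize x.1 * y.1 * x.1⁻¹ * y.1⁻¹ = k at c1 c2 ⊢
    generalize x.1 * x.1 = u at e1 c1 c3 ⊢
    generalize y.1 * y.1 = w at e2 c2 c3 ⊢
    calc u * w * k * u * w = u * w * (k * u) * w := by group
      _ = u * (w * u) * (k * w) := by rw [c1]; group
      _ = (u * u) * (w * w) * k := by rw [c3, c2]; group
      _ = k := by rw [e1, e2, one_mul, one_mul]
  have hadd : ∀ u u' v, β (u + u') v = β u v + β u' v := by
    intro u u' v
    obtain ⟨x, hx⟩ := QuotientGroup.mk_surjective u.toMul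
    obtain ⟨x', hx'⟩ := QuotientGroup.mk_surjective u'.toMul
    obtain ⟨y, hy⟩ := QuotientGroup.mk_surjective v.toMul
    obtain rfl : u = Additive.ofMul (QuotientGroup.mk x) := by rw [hx]; rfl
    obtain rfl : u' = Additive.ofMul (QuotientGroup.mk x') := by rw [hx']; rfl
    obtain rfl : v = Additive.ofMul (QuotientGroup.mk y) := by rw [hy]; rfl
    rw [← ofMul_mul, ← QuotientGroup.mk_mul, hq2, hq2, hq2]
    refine congrArg Additive.ofMul (Subtype.ext ?_)
    show x.1 * x'.1 * y.1 * (x.1 * x'.1)⁻¹ * y.1⁻¹ =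
      (x.1 * y.1 * x.1⁻¹ * y.1⁻¹) * (x'.1 * y.1 * x'.1⁻¹ * y.1⁻¹)
    have hk := comm_mem hI P hsq x'.2 y.2
    calc x.1 * x'.1 * y.1 * (x.1 * x'.1)⁻¹ * y.1⁻¹
        = x.1 * (x'.1 * y.1 * x'.1⁻¹ * y.1⁻¹) * (y.1 * x.1⁻¹ * y.1⁻¹) := by group
      _ = (x'.1 * y.1 * x'.1⁻¹ * y.1⁻¹) * x.1 * (y.1 * x.1⁻¹ * y.1⁻¹) := by
        rw [central_top2 P x.2 _ hk]
      _ = (x'.1 * y.1 * x'.1⁻¹ * y.1⁻¹) * (x.1 * y.1 * x.1⁻¹ * y.1⁻¹) := by group
      _ = _ := hI.comm hk (comm_mem hI P hsq x.2 y.2)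
  have hsymm : ∀ u v, β u v = β v u := fun u v => by simp only [β, add_comm u v]; abel
  let B : Additive (top2 P ⧸ EP) →+ Additive (top2 P ⧸ EP) →+ Additive E :=
    AddMonoidHom.mk' (fun u => AddMonoidHom.mk' (β u) fun v v' => by
      rw [hsymm, hadd, hsymm u v, hsymm u v']) fun u u' => by
      exact AddMonoidHom.ext fun v => hadd u u' v
  have hq : ∀ u v, q (u + v) = q u + q v + B u v := by
    intro u v
    show q (u + v) = q u + q v + (q (u + v) + q u + q v)
    rw [show q u + q v + (q (u + v) + q u + q v) =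
      q (u + v) + ((q u + q u) + (q v + q v)) by abel, vadd_self, vadd_self, add_zero, add_zero]
  have hani : ∀ v, q v = 0 → v = 0 := by
    intro v hv
    obtain ⟨x, hx⟩ := QuotientGroup.mk_surjective v.toMul
    obtain rfl : v = Additive.ofMul (QuotientGroup.mk x) := by rw [hx]; rfl
    have : x.1 * x.1 = 1 := congrArg Subtype.val hv
    exact congrArg Additive.ofMul ((QuotientGroup.eq_one_iff x).2 (hI.invol _ this))
  have hcardV : Nat.card (Additive (top2 P ⧸ EP)) = 2 ^ (2 * r) := by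
    have := Subgroup.card_eq_card_quotient_mul_card_subgroup EP
    rw [Nat.card_congr (Subgroup.subgroupOfEquivOfLe hEP).toEquiv, h3, hS.card] at this
    rw [show (2 ^ r) ^ 3 = 2 ^ (2 * r) * 2 ^ r by rw [← pow_mul, ← pow_add]; congr 1; ring] at this
    exact (Nat.eq_of_mul_eq_mul_right (by positivity) this).symm
  -- actions
  have hmapEP : ∀ n : Subgroup.normalizer (top2 P : Set X),
      EP.map ((top2 P).normalizerMonoidHom n).toMonoidHom = EP := by
    intro n
    refine le_antisymm ?_ fun x hx => ?_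
    · rintro _ ⟨x, hx, rfl⟩
      exact hI.normal.conj_mem _ hx _
    · refine ⟨(top2 P).normalizerMonoidHom n⁻¹ x, hI.normal.conj_mem _ hx _, ?_⟩
      show (top2 P).normalizerMonoidHom n ((top2 P).normalizerMonoidHom n⁻¹ x) = x
      rw [← MulAut.mul_apply, ← map_mul, mul_inv_cancel, map_one]
      rfl
  let act : Subgroup.normalizer (top2 P : Set X) →* MulAut (top2 P ⧸ EP) :=
    { toFun := fun n => QuotientGroup.congr EP EP ((top2 P).normalizerMonoidHom n) (hmapEP n)
      map_one' := MulEquiv.ext fun v => by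
        obtain ⟨x, rfl⟩ := QuotientGroup.mk_surjective v
        show QuotientGroup.mk ((top2 P).normalizerMonoidHom 1 x) = QuotientGroup.mk x
        rw [map_one]; rfl
      map_mul' := fun m n => MulEquiv.ext fun v => by
        obtain ⟨x, rfl⟩ := QuotientGroup.mk_surjective v
        show QuotientGroup.mk ((top2 P).normalizerMonoidHom (m * n) x) = _
        rw [map_mul]; rfl }
  have hact : ∀ (n : Subgroup.normalizer (top2 P : Set X)) (x : top2 P),
      act n (QuotientGroup.mk x) =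
        QuotientGroup.mk (⟨n.1 * x.1 * n.1⁻¹, (Subgroup.mem_normalizer_iff.1 n.2 x.1).1 x.2⟩ : top2 P) :=
    fun n x => rfl
  let L := (linOf (top2 P ⧸ EP)).comp act
  have hqn : ∀ (n : Subgroup.normalizer (top2 P : Set X)) v, q (L n v) = hI.lin n.1 (q v) := by
    intro n v
    obtain ⟨x, hx⟩ := QuotientGroup.mk_surjective v.toMul
    obtain rfl : v = Additive.ofMul (QuotientGroup.mk x) := by rw [hx]; rfl
    refine congrArg Additive.ofMul (Subtype.ext ?_)
    show n.1 * x.1 * n.1⁻¹ * (n.1 * x.1 * n.1⁻¹) = n.1 * (x.1 * x.1) * n.1⁻¹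
    group
  obtain ⟨g, hg, -, hord⟩ := exists_transitive hI P hS
  haveI : Finite (Module.Dual K2 (Additive E)) := inferInstance
  have heq : ∀ l l' : Module.Dual K2 (Additive E), l ≠ 0 → l' ≠ 0 →
      ∀ [Fintype (Additive (top2 P ⧸ EP))], gauss q l = gauss q l' := by
    intro l l' hl hl' _
    let D := natural (⊤ : Subgroup (Additive E ≃ₗ[K2] Additive E))
    let δ := D.act' ⟨hI.lin g, Subgroup.mem_top _⟩
    have hδ : orderOf δ = p := by
      refine (orderOf_injective D.act' (fun a b hab => ?_) ⟨hI.lin g, Subgroup.mem_top _⟩).trans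
        ((Subgroup.orderOf_mk _ _).trans hord)
      refine Subtype.ext (LinearEquiv.ext fun v => ?_)
      have hs : ∀ w, a.1.symm w = b.1.symm w := fun w =>
        sub_eq_zero.1 (D.nd _ fun m => by
          have := LinearMap.congr_fun (LinearEquiv.congr_fun hab m) w
          show m (a.1.symm w - b.1.symm w) = 0
          rw [map_sub, sub_eq_zero]; exact this)
      have := hs (a.1 v)
      rw [LinearEquiv.symm_apply_apply] at this
      exact ((LinearEquiv.symm_apply_eq b.1).1 this.symm)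
    obtain ⟨i, hi⟩ := Cfsg.Agent.S4179.zpowers_trans hS.prime
      (show Nat.card (Module.Dual K2 (Additive E)) = p + 1 by
        rw [D.card_eq, hS.eq]; exact hS.card) hδ l l' hl hl'
    let n : Subgroup.normalizer (top2 P : Set X) := ⟨g, hg⟩
    rw [← hi, ← map_zpow]
    simp only [gauss]
    rw [← Equiv.sum_comp (L (n ^ i)).toEquiv (fun v => sgn ((D.act' (⟨hI.lin g, Subgroup.mem_top _⟩ ^ i) l) (q v)))]
    refine Finset.sum_congr rfl fun v _ => ?_
    congr 1
    rw [natural_act', LinearEquiv.coe_toEquiv, hqn, Subgroup.coe_zpow, Subgroup.coe_zpow, map_zpow,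
      LinearEquiv.symm_apply_apply]
  let cn : Subgroup.normalizer (top2 P : Set X) := ⟨c, hcn⟩
  have hy : ∀ v, q (L cn v) = q v := fun v => by
    rw [hqn]
    have : hI.lin c = 1 := by
      show linOf E (hI.conj c) = 1
      rw [(hI.conj_eq_one_iff c).2 hc, map_one]
    rw [this]; rfl
  have hne : Additive.ofMul (QuotientGroup.mk (⟨a, ha⟩ : top2 P) : top2 P ⧸ EP) ≠ 0 := fun h =>
    haE (show (⟨a, ha⟩ : top2 P) ∈ EP from
      (QuotientGroup.eq_one_iff (N := EP) _).1 (congrArg Additive.toMul h))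
  have hfix : L cn (Additive.ofMul (QuotientGroup.mk (⟨a, ha⟩ : top2 P))) =
      Additive.ofMul (QuotientGroup.mk (⟨a, ha⟩ : top2 P)) :=
    congrArg Additive.ofMul ((QuotientGroup.eq (s := EP)).2 hca).symm
  have hyk : L cn ^ k = 1 := by
    rw [← map_pow]
    refine LinearEquiv.ext fun v => ?_
    obtain ⟨x, hx⟩ := QuotientGroup.mk_surjective v.toMul
    obtain rfl : v = Additive.ofMul (QuotientGroup.mk x) := by rw [hx]; rfl
    exact congrArg Additive.ofMul ((QuotientGroup.eq (s := EP)).2 (hck x.1 x.2)).symm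
  have h1 := eq_one_of_fix hq hani hS.r_ne hS.card hcardV heq (L cn) hy hne hfix hk hyk
  intro x hx
  have h2 := LinearEquiv.congr_fun h1 (Additive.ofMul (QuotientGroup.mk (⟨x, hx⟩ : top2 P)))
  exact (QuotientGroup.eq (s := EP)).1 (congrArg Additive.toMul h2).symm

end Suzuki

/-- The centraliser of the elementary group of involutions is solvable. -/
theorem isSolvable_centralizer : Group.IsSolvable (Subgroup.centralizer (E : Set X)) := by
  classical
  haveI : Fact (Nat.Prime 2) := ⟨Nat.prime_two⟩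
  obtain ⟨P⟩ : Nonempty (Sylow 2 (Subgroup.centralizer (E : Set X))) := inferInstance
  by_cases hab : ∀ a ∈ (P : Subgroup 𝐂), ∀ b ∈ (P : Subgroup 𝐂), a * b = b * a
  · exact isSolvable_of_abelian hI P hab
  obtain ⟨hsq, hcard⟩ := top2_structure hI P hS hab
  haveI := hI.normal
  set EC := E.subgroupOf 𝐂
  haveI : Group.IsSolvable EC := Group.isSolvable_of_comm fun a b =>
    Subtype.ext (Subtype.ext (hI.comm a.2 b.2))
  suffices Group.IsSolvable (𝐂 ⧸ EC) from
    (Group.isSolvable_iff_subgroup_quotient EC).2 ⟨inferInstance, this⟩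
  let Q : Sylow 2 (𝐂 ⧸ EC) := P.mapSurjective (f := QuotientGroup.mk' EC) (QuotientGroup.mk'_surjective EC)
  have hQ : ∀ {c : 𝐂}, (QuotientGroup.mk c : 𝐂 ⧸ EC) ∈ (Q : Subgroup (𝐂 ⧸ EC)) → c.1 ∈ top2 P := by
    intro c hc
    obtain ⟨d, hd, hdc⟩ := Subgroup.mem_map.1 hc
    have hdE' : d⁻¹ * c ∈ EC := QuotientGroup.eq.1 hdc
    have hdE : d.1⁻¹ * c.1 ∈ E := hdE'
    have := mul_mem (show d.1 ∈ top2 P from ⟨d, hd, rfl⟩) (E_le_top2 hI P hdE)
    rwa [mul_inv_cancel_left] at this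
  have hQ' : ∀ {c : 𝐂}, c.1 ∈ top2 P → (QuotientGroup.mk c : 𝐂 ⧸ EC) ∈ (Q : Subgroup (𝐂 ⧸ EC)) := by
    intro c hc
    obtain ⟨d, hd, hdc⟩ := hc
    exact Subgroup.mem_map.2 ⟨d, hd, congrArg QuotientGroup.mk (Subtype.ext hdc)⟩
  have hexp : ∀ u ∈ (Q : Subgroup (𝐂 ⧸ EC)), u * u = 1 := by
    intro u hu
    obtain ⟨c, rfl⟩ := QuotientGroup.mk_surjective u
    exact (QuotientGroup.eq_one_iff (c * c)).2 (hsq _ (hQ hu))
  have hcomm : ∀ u ∈ (Q : Subgroup (𝐂 ⧸ EC)), ∀ v ∈ (Q : Subgroup (𝐂 ⧸ EC)), u * v = v * u := by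
    intro u hu v hv
    have hu' : u⁻¹ = u := inv_eq_of_mul_eq_one_right (hexp u hu)
    have hv' : v⁻¹ = v := inv_eq_of_mul_eq_one_right (hexp v hv)
    calc u * v = (u * v)⁻¹ := (inv_eq_of_mul_eq_one_right (hexp _ (mul_mem hu hv))).symm
      _ = v * u := by rw [mul_inv_rev, hu', hv']
  -- an element of the normaliser acts with odd order, and lifts to the normaliser upstairs
  have hodd : ∀ n ∈ Subgroup.normalizer (Q : Set (𝐂 ⧸ EC)), ∃ k, Odd k ∧
      n ^ k ∈ Subgroup.centralizer (Q : Set (𝐂 ⧸ EC)) := by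
    intro n hn
    obtain ⟨i, k, hk, hik⟩ := Nat.exists_eq_two_pow_mul_odd (orderOf_pos n).ne'
    refine ⟨k, hk, ?_⟩
    let N := Subgroup.normalizer (Q : Set (𝐂 ⧸ EC))
    haveI hNn : ((Q : Subgroup _).subgroupOf N).Normal := Subgroup.normal_in_normalizer
    have hz : IsPGroup 2 (Subgroup.zpowers ((⟨n, hn⟩ : N) ^ k)) := by
      intro y
      refine ⟨i, Subtype.ext ?_⟩
      obtain ⟨j, hj⟩ := Subgroup.mem_zpowers_iff.1 y.2
      have h1 : ((⟨n, hn⟩ : N) ^ k) ^ (2 ^ i) = 1 := by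
        rw [← pow_mul, mul_comm, ← hik]
        exact Subtype.ext (pow_orderOf_eq_one n)
      rw [SubmonoidClass.coe_pow, ← hj, ← zpow_natCast, ← zpow_mul, mul_comm, zpow_mul, zpow_natCast,
        h1, one_zpow]
      rfl
    obtain ⟨P', hP'⟩ := hz.exists_le_sylow
    obtain ⟨m, hm⟩ := MulAction.exists_smul_eq N (Q.subtype Subgroup.le_normalizer) P'
    have hmem : (⟨n, hn⟩ : N) ^ k ∈ (P' : Subgroup N) := hP' (Subgroup.mem_zpowers _)
    rw [← hm, Sylow.coe_subgroup_smul, Subgroup.mem_pointwise_smul_iff_inv_smul_mem] at hmem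
    simp only [MulAut.smul_def, map_inv, MulAut.conj_inv_apply] at hmem
    have h2 := hNn.conj_mem _ hmem m
    have h3 : (⟨n, hn⟩ : N) ^ k ∈ (Q : Subgroup _).subgroupOf N := by simpa [mul_assoc] using h2
    exact fun y hy => hcomm y hy _ h3
  have hlift : ∀ c : 𝐂, (QuotientGroup.mk c : 𝐂 ⧸ EC) ∈ Subgroup.normalizer (Q : Set (𝐂 ⧸ EC)) →
      c.1 ∈ Subgroup.normalizer (top2 P : Set X) := by
    intro c hc
    refine Subgroup.mem_normalizer_iff.2 fun x => ⟨fun hx => ?_, fun hx => ?_⟩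
    · refine hQ (c := c * ⟨x, central_top2 P hx⟩ * c⁻¹) ?_
      simp only [QuotientGroup.mk_mul, QuotientGroup.mk_inv]
      exact (Subgroup.mem_normalizer_iff.1 hc _).1 (hQ' (c := ⟨x, central_top2 P hx⟩) hx)
    · have hxC : x ∈ 𝐂 := by
        have := mul_mem (mul_mem (inv_mem c.2) (central_top2 P hx)) c.2
        simpa [mul_assoc] using this
      have hq := hQ' (c := c * ⟨x, hxC⟩ * c⁻¹) hx
      simp only [QuotientGroup.mk_mul, QuotientGroup.mk_inv] at hq
      exact hQ (c := ⟨x, hxC⟩) ((Subgroup.mem_normalizer_iff.1 hc _).2 hq)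
  rcases hcard with h2 | h3
  · refine isSolvable_of_burnside Q fun n hn y hy => ?_
    obtain ⟨c, rfl⟩ := QuotientGroup.mk_surjective n
    obtain ⟨x, rfl⟩ := QuotientGroup.mk_surjective y
    have hx := hQ hy
    have hcx := (Subgroup.mem_normalizer_iff.1 (hlift c hn) x.1).1 hx
    have h1 := sq_inj hI P hS hsq h2 hx hcx (by
      rw [show c.1 * x.1 * c.1⁻¹ * (c.1 * x.1 * c.1⁻¹) = c.1 * (x.1 * x.1) * c.1⁻¹ by group,
        ← c.2 _ (hsq _ hx), mul_inv_cancel_right])
    rw [← QuotientGroup.mk_mul, ← QuotientGroup.mk_mul, QuotientGroup.eq]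
    show (x.1 * c.1)⁻¹ * (c.1 * x.1) ∈ E
    have := hI.normal.conj_mem _ h1 c.1⁻¹
    convert this using 1
    group
  · have hfree : Free Q := by
      intro u hu hu1 n hn y hy
      obtain ⟨hn1, hn2⟩ := hn
      obtain ⟨c, rfl⟩ := QuotientGroup.mk_surjective n
      obtain ⟨a, rfl⟩ := QuotientGroup.mk_surjective u
      obtain ⟨x, rfl⟩ := QuotientGroup.mk_surjective y
      obtain ⟨k, hk, hck⟩ := hodd _ hn1
      have hfr := free_on_quotient hI P hS hsq h3 c.2 (hlift c hn1) (hQ hu)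
        (fun h => hu1 ((QuotientGroup.eq_one_iff a).2 h)) (a := a.1) (by
          have := Subgroup.mem_centralizer_singleton_iff.1 hn2
          rw [← QuotientGroup.mk_mul, ← QuotientGroup.mk_mul, QuotientGroup.eq] at this
          have h4 : (c.1 * a.1)⁻¹ * (a.1 * c.1) ∈ E := this
          have := hI.normal.conj_mem _ (inv_mem h4) c.1
          convert this using 1
          group) hk (fun z hz => by
          have := hck _ (hQ' (c := ⟨z, central_top2 P hz⟩) hz)
          rw [← QuotientGroup.mk_pow, ← QuotientGroup.mk_mul, ← QuotientGroup.mk_mul,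
            QuotientGroup.eq] at this
          have h4 : (z * c.1 ^ k)⁻¹ * (c.1 ^ k * z) ∈ E := this
          have := hI.normal.conj_mem _ h4 (c.1 ^ k)
          convert this using 1
          group)
      rw [← QuotientGroup.mk_mul, ← QuotientGroup.mk_mul, QuotientGroup.eq]
      show (x.1 * c.1)⁻¹ * (c.1 * x.1) ∈ E
      have := hI.normal.conj_mem _ (hfr x.1 (hQ hy)) c.1⁻¹
      convert this using 1
      group
    have hlt : Nat.card E < Nat.card (top2 P) := by
      rw [h3, hS.card, ← pow_mul]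
      exact Nat.pow_lt_pow_right one_lt_two (by have := hS.r_ne; omega)
    let f : 𝐂 ⧸ EC → X := Quotient.lift (fun c => c.1 * c.1) (by
      intro a b hab'
      have hd' : a⁻¹ * b ∈ EC := QuotientGroup.leftRel_apply.1 hab'
      have hd : a.1⁻¹ * b.1 ∈ E := hd'
      show a.1 * a.1 = b.1 * b.1
      rw [← sq_right hI P hsq a.2 hd, mul_inv_cancel_left])
    refine isSolvable_of_free hcomm hfree f (fun g a ha2 => ?_) hexp ?_ ?_
    · obtain ⟨g, rfl⟩ := QuotientGroup.mk_surjective g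
      obtain ⟨a, rfl⟩ := QuotientGroup.mk_surjective a
      have ha4 : (QuotientGroup.mk (a * a) : 𝐂 ⧸ EC) = 1 := by
        rw [QuotientGroup.mk_mul, ← pow_two, ← ha2, pow_orderOf_eq_one]
      have haa : a.1 * a.1 ∈ E := (QuotientGroup.eq_one_iff (a * a)).1 ha4
      show g.1 * a.1 * g.1⁻¹ * (g.1 * a.1 * g.1⁻¹) = a.1 * a.1
      rw [show g.1 * a.1 * g.1⁻¹ * (g.1 * a.1 * g.1⁻¹) = g.1 * (a.1 * a.1) * g.1⁻¹ by group,
        ← g.2 _ haa, mul_inv_cancel_right]
    · obtain ⟨e, he, e', he', he1, he1', hee⟩ := hS.exists_two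
      obtain ⟨x, hx, hxe⟩ := exists_sqrt hI P hS hsq hlt he
      obtain ⟨x', hx', hxe'⟩ := exists_sqrt hI P hS hsq hlt he'
      refine ⟨_, hQ' (c := ⟨x, central_top2 P hx⟩) hx, _, hQ' (c := ⟨x', central_top2 P hx'⟩) hx',
        fun h => he1 ?_, fun h => he1' ?_, fun h => hee ?_⟩
      · rw [← hxe]
        exact hI.exp x ((QuotientGroup.eq_one_iff (⟨x, central_top2 P hx⟩ : 𝐂)).1 h)
      · rw [← hxe']
        exact hI.exp x' ((QuotientGroup.eq_one_iff (⟨x', central_top2 P hx'⟩ : 𝐂)).1 h)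
      · rw [← hxe, ← hxe']; exact h
    · have h4 : Nat.card (Q : Subgroup (𝐂 ⧸ EC)) * Nat.card EC = (2 ^ r) ^ 3 := by
        have hle : EC ≤ (P : Subgroup 𝐂) := by
          intro c hc
          obtain ⟨d, hd, hdc⟩ := E_le_top2 hI P hc
          exact (show d = c from Subtype.ext hdc) ▸ hd
        have hcP : Nat.card (P : Subgroup 𝐂) = (2 ^ r) ^ 3 := by
          rw [← h3, Subgroup.card_map_of_injective 𝐂.subtype_injective]
        rw [← hcP, ← Nat.card_congr (Subgroup.subgroupOfEquivOfLe hle).toEquiv,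
          ← Subgroup.index_mul_card (EC.subgroupOf (P : Subgroup 𝐂))]
        congr 1
        have hrng : ((QuotientGroup.mk' EC).comp (P : Subgroup 𝐂).subtype).range = Q := by
          rw [MonoidHom.range_comp, Subgroup.range_subtype]
          rfl
        rw [← hrng, ← Subgroup.index_ker]
        congr 1
        ext z
        simp [Subgroup.mem_subgroupOf]
      have hECc : Nat.card EC = 2 ^ r := by
        rw [Nat.card_congr (Subgroup.subgroupOfEquivOfLe
          (fun e he f hf => hI.comm hf he : E ≤ 𝐂)).toEquiv, hS.card]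
      rw [hECc, show (2 ^ r) ^ 3 = 2 ^ r * 2 ^ r * 2 ^ r by ring] at h4
      have := Nat.eq_of_mul_eq_mul_right (by positivity) h4
      have hr2 : 2 ≤ r := by
        by_contra h
        have := hS.prime.two_le
        have := hS.eq
        have : 2 ^ r ≤ 2 ^ 1 := Nat.pow_le_pow_right two_pos (by omega)
        omega
      have : 4 ≤ 2 ^ r := (show 4 = 2 ^ 2 by norm_num) ▸ Nat.pow_le_pow_right two_pos hr2
      nlinarith

end CfsgLib.Pyramidal
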