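import Mathlib.FieldTheory.Finite.GaloisField
import Cfsg.Agent.Lib.LocalEvenB.SL2Semilinear

/-!
# A nonsolvable pyramidal group with an even power of involutions
-/

namespace CfsgLib.Pyramidal

open Matrix

variable (F : Type) [Field F]

local notation "SL₂" => Matrix.SpecialLinearGroup (Fin 2) F

/-- The natural action on vectors. -/
def natAct : SL₂ →* MulAut (Multiplicative (Fin 2 → F)) where
  toFun g :=
    { toFun := fun v => Multiplicative.ofAdd (g.1.mulVec v.toAdd)
      invFun := fun v => Multiplicative.ofAdd ((g⁻¹ : SL₂).1.mulVec v.toAdd)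
      left_inv := fun v => by
        simp only [toAdd_ofAdd, Matrix.mulVec_mulVec, ← Matrix.SpecialLinearGroup.coe_mul,
          inv_mul_cancel, Matrix.SpecialLinearGroup.coe_one, Matrix.one_mulVec, ofAdd_toAdd]
      right_inv := fun v => by
        simp only [toAdd_ofAdd, Matrix.mulVec_mulVec, ← Matrix.SpecialLinearGroup.coe_mul,
          mul_inv_cancel, Matrix.SpecialLinearGroup.coe_one, Matrix.one_mulVec, ofAdd_toAdd]
      map_mul' := fun v w => by
        show Multiplicative.ofAdd (g.1.mulVec (v.toAdd + w.toAdd)) =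
          Multiplicative.ofAdd (g.1.mulVec v.toAdd) * Multiplicative.ofAdd (g.1.mulVec w.toAdd)
        rw [Matrix.mulVec_add, ofAdd_add] }
  map_one' := MulEquiv.ext fun v => by simp
  map_mul' g h := MulEquiv.ext fun v => by
    show Multiplicative.ofAdd ((g * h : SL₂).1.mulVec v.toAdd) =
      Multiplicative.ofAdd (g.1.mulVec (h.1.mulVec v.toAdd))
    rw [Matrix.SpecialLinearGroup.coe_mul, Matrix.mulVec_mulVec]

lemma natAct_apply (g : SL₂) (v : Multiplicative (Fin 2 → F)) :
    natAct F g v = Multiplicative.ofAdd (g.1.mulVec v.toAdd) := rfl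

/-- The affine group. -/
abbrev Aff := Multiplicative (Fin 2 → F) ⋊[natAct F] SL₂

/-- Minus one. -/
def negOne : SL₂ := ⟨-1, by simp [Matrix.det_neg]⟩

lemma negOne_apply (v : Multiplicative (Fin 2 → F)) : natAct F (negOne F) v = v⁻¹ := by
  rw [natAct_apply, negOne, Matrix.neg_mulVec, Matrix.one_mulVec, ofAdd_neg, ofAdd_toAdd]

variable {F}

lemma eq_of_sq (h2 : (2 : F) ≠ 0) {g : SL₂} (hg : g * g = 1) : g = 1 ∨ g = negOne F := by
  have hd : g.1 0 0 * g.1 1 1 - g.1 0 1 * g.1 1 0 = 1 := by rw [← Matrix.det_fin_two]; exact g.2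
  have h := congrArg (fun x : SL₂ => x.1) hg
  simp only [Matrix.SpecialLinearGroup.coe_mul, Matrix.SpecialLinearGroup.coe_one] at h
  have e00 := congrFun (congrFun h 0) 0
  have e01 := congrFun (congrFun h 0) 1
  have e10 := congrFun (congrFun h 1) 0
  simp [Matrix.mul_apply, Fin.sum_univ_two] at e00 e01 e10
  have hs : g.1 0 0 * (g.1 0 0 + g.1 1 1) = 2 := by linear_combination e00 + hd
  have hs0 : g.1 0 0 + g.1 1 1 ≠ 0 := fun e => h2 (by rw [← hs, e, mul_zero])
  have hb : g.1 0 1 = 0 := (mul_eq_zero.1 (by linear_combination e01 :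
    g.1 0 1 * (g.1 0 0 + g.1 1 1) = 0)).resolve_right hs0
  have hc : g.1 1 0 = 0 := (mul_eq_zero.1 (by linear_combination e10 :
    g.1 1 0 * (g.1 0 0 + g.1 1 1) = 0)).resolve_right hs0
  rw [hb, hc] at e00 hd
  have ha : g.1 0 0 = 1 ∨ g.1 0 0 = -1 := mul_self_eq_one_iff.1 (by linear_combination e00)
  rcases ha with ha | ha
  · left
    rw [ha] at hd
    refine Subtype.ext (Matrix.ext fun i j => ?_)
    fin_cases i <;> fin_cases j <;> simp [ha, hb, hc]
    linear_combination hd
  · right
    rw [ha] at hd
    refine Subtype.ext (Matrix.ext fun i j => ?_)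
    fin_cases i <;> fin_cases j <;> simp [negOne, ha, hb, hc]
    linear_combination -hd

lemma aff_involution (h2 : (2 : F) ≠ 0) (x : Aff F) : orderOf x = 2 ↔ x.right = negOne F := by
  haveI : Fact (Nat.Prime 2) := ⟨Nat.prime_two⟩
  rw [orderOf_eq_prime_iff, pow_two]
  have hne : negOne F ≠ 1 := fun h => h2 (by
    have := congrArg (fun x : SL₂ => x.1 0 0) h
    simp [negOne] at this
    linear_combination -this)
  have hsq : negOne F * negOne F = 1 := Subtype.ext (show (-1 : Matrix (Fin 2) (Fin 2) F) * -1 = 1 by simp)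
  constructor
  · rintro ⟨hx, hx1⟩
    have hr : x.right * x.right = 1 := congrArg SemidirectProduct.right hx
    refine (eq_of_sq h2 hr).resolve_left fun e => hx1 ?_
    have hl : x.left * natAct F x.right x.left = 1 := congrArg SemidirectProduct.left hx
    rw [e, map_one, MulAut.one_apply] at hl
    refine SemidirectProduct.ext ?_ e
    have h0 : x.left.toAdd + x.left.toAdd = 0 := congrArg Multiplicative.toAdd hl
    rw [← two_smul F x.left.toAdd, smul_eq_zero] at h0
    exact congrArg Multiplicative.ofAdd (h0.resolve_left h2)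
  · intro e
    refine ⟨SemidirectProduct.ext ?_ ?_, fun h => hne ?_⟩
    · show x.left * natAct F x.right x.left = 1
      rw [e, negOne_apply, mul_inv_cancel]
    · show x.right * x.right = 1
      rw [e, hsq]
    · rw [← e, h]; rfl

/-- The counterexample: `q ^ 2` involutions, one class, not solvable. -/
theorem aff_spec [Finite F] (h2 : (2 : F) ≠ 0) (h4 : 4 ≤ Nat.card F) :
    Finite (Aff F) ∧ Nat.card {x : Aff F // orderOf x = 2} = Nat.card F ^ 2 ∧
      (∀ x y : Aff F, orderOf x = 2 → orderOf y = 2 → ∃ g, g * x * g⁻¹ = y) ∧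
      ¬ Group.IsSolvable (Aff F) := by
  classical
  refine ⟨Finite.of_equiv _ SemidirectProduct.equivProd.symm, ?_, ?_, fun hs => ?_⟩
  · refine (Nat.card_congr ?_).trans (show Nat.card (Fin 2 → F) = Nat.card F ^ 2 by
      rw [Nat.card_fun, Nat.card_fin])
    exact
      { toFun := fun x => x.1.left.toAdd
        invFun := fun v => ⟨⟨Multiplicative.ofAdd v, negOne F⟩, (aff_involution h2 _).2 rfl⟩
        left_inv := fun x => Subtype.ext (SemidirectProduct.ext rfl ((aff_involution h2 _).1 x.2).symm)
        right_inv := fun v => rfl }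
  · intro x y hx hy
    rw [aff_involution h2] at hx hy
    let w := (2 : F)⁻¹ • (y.left.toAdd - x.left.toAdd)
    refine ⟨SemidirectProduct.inl (Multiplicative.ofAdd w), SemidirectProduct.ext ?_ ?_⟩
    · rw [← map_inv]
      simp only [SemidirectProduct.mul_left, SemidirectProduct.left_inl, SemidirectProduct.right_inl,
        SemidirectProduct.mul_right, one_mul, map_one, MulAut.one_apply, hx, negOne_apply, inv_inv]
      refine Multiplicative.toAdd.injective ?_
      simp only [toAdd_mul, toAdd_ofAdd]
      rw [add_right_comm, show w + w = (2 : F) • w from (two_smul F w).symm, smul_smul,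
        mul_inv_cancel₀ h2, one_smul, sub_add_cancel]
    · simp [hx, hy]
  · haveI := hs
    haveI : Group.IsSolvable SL₂ := Group.isSolvable_of_surjective
      (f := (SemidirectProduct.rightHom : Aff F →* SL₂)) SemidirectProduct.rightHom_surjective
    haveI : Nontrivial SL₂ := ⟨⟨negOne F, 1, fun h => h2 (by
      have := congrArg (fun x : SL₂ => x.1 0 0) h
      simp [negOne] at this
      linear_combination -this)⟩⟩
    exact (Group.IsSolvable.commutator_lt_top_of_nontrivial SL₂).ne
      (CfsgLib.LocalEvenB.SL2Semilinear.commutator_top h4)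

end CfsgLib.Pyramidal
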