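import Cfsg.Agent.S0205
import Cfsg.Agent.Lib.NumberTheory.SwapClosure

/-!
# An involution in a derived group moves a square number of cosets; centralisers of pairings
-/

namespace CfsgLib.Pyramidal

/-- In a space of odd prime exponent, an involution of determinant one fixes a subspace of square
index. -/
lemma exists_sq_fixed {V : Type*} [AddCommGroup V] {q : ℕ} [Fact q.Prime] [Module (ZMod q) V]
    [Finite V] (hq : q ≠ 2) (f : V ≃ₗ[ZMod q] V) (hf : ∀ v, f (f v) = v)
    (hdet : LinearEquiv.det f = 1) : ∃ a, Nat.card V = a * a * Nat.card {v : V // f v = v} := by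
  classical
  haveI : Module.Finite (ZMod q) V := Module.Finite.of_finite
  have h2 : (2 : ZMod q) ≠ 0 := fun h => hq <| by
    have h' : ((2 : ℕ) : ZMod q) = 0 := by exact_mod_cast h
    rw [ZMod.natCast_eq_zero_iff] at h'
    exact ((Nat.prime_dvd_prime_iff_eq (Fact.out) Nat.prime_two).1 h')
  let A : Submodule (ZMod q) V := LinearMap.eqLocus (f : V →ₗ[ZMod q] V) LinearMap.id
  let B : Submodule (ZMod q) V := LinearMap.eqLocus (f : V →ₗ[ZMod q] V) (-LinearMap.id)
  have memA : ∀ v, v ∈ A ↔ f v = v := fun v => Iff.rfl
  have memB : ∀ v, v ∈ B ↔ f v = -v := fun v => Iff.rfl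
  have hAB : IsCompl A B := by
    constructor
    · rw [Submodule.disjoint_def]
      intro v ha hb
      rw [memA] at ha
      rw [memB, ha, eq_neg_iff_add_eq_zero, ← two_smul (ZMod q) v, smul_eq_zero] at hb
      exact hb.resolve_left h2
    · rw [codisjoint_iff, Submodule.eq_top_iff']
      intro v
      refine Submodule.mem_sup.2 ⟨(2 : ZMod q)⁻¹ • (v + f v), ?_, (2 : ZMod q)⁻¹ • (v - f v), ?_, ?_⟩
      · rw [memA, map_smul, map_add, hf, add_comm]
      · rw [memB, map_smul, map_sub, hf, ← smul_neg, neg_sub]
      · rw [← smul_add, show v + f v + (v - f v) = (2 : ZMod q) • v by rw [two_smul]; abel,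
          smul_smul, inv_mul_cancel₀ h2, one_smul]
  let e := Submodule.prodEquivOfIsCompl A B hAB
  have hconj : (f : V →ₗ[ZMod q] V) = (e : (A × B) →ₗ[ZMod q] V) ∘ₗ
      (LinearMap.prodMap (LinearMap.id : A →ₗ[ZMod q] A) (-LinearMap.id : B →ₗ[ZMod q] B)) ∘ₗ
        (e.symm : V →ₗ[ZMod q] (A × B)) := by
    refine LinearMap.ext fun v => ?_
    obtain ⟨⟨a, b⟩, rfl⟩ := e.surjective v
    simp [e, (memA _).1 a.2, (memB _).1 b.2]
  have hd : ((-1 : ZMod q)) ^ Module.finrank (ZMod q) B = 1 := by
    have h := congrArg (fun u : (ZMod q)ˣ => (u : ZMod q)) hdet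
    simp only [LinearEquiv.coe_det, Units.val_one] at h
    rw [hconj, LinearMap.det_conj, LinearMap.det_prodMap, LinearMap.det_id, one_mul,
      ← neg_one_smul (ZMod q) (LinearMap.id : B →ₗ[ZMod q] B), LinearMap.det_smul, LinearMap.det_id,
      mul_one] at h
    exact h
  have hev : Even (Module.finrank (ZMod q) B) := by
    rcases Nat.even_or_odd (Module.finrank (ZMod q) B) with h | h
    · exact h
    · rw [h.neg_one_pow] at hd
      exact absurd (by linear_combination -hd : (2 : ZMod q) = 0) h2
  obtain ⟨d, hd'⟩ := hev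
  refine ⟨q ^ d, ?_⟩
  rw [show Nat.card {v : V // f v = v} = Nat.card A from rfl, ← Nat.card_congr e.toEquiv,
    Nat.card_prod, Module.natCard_eq_pow_finrank (K := ZMod q) (V := B), hd', Nat.card_zmod,
    pow_add, mul_comm]

open scoped commutatorElement in
/-- The index of the fixed points on an odd normal subgroup of an involution in the derived group
of a subgroup is a square. -/
theorem exists_sq_index {G : Type*} [Group G] [Finite G] (C : Subgroup G) {t : G}
    (htC : t ∈ ⁅C, C⁆) (ht : t * t = 1) :
    ∀ (n : ℕ) (K : Subgroup G), Nat.card K = n → Odd n → C ≤ Subgroup.normalizer (K : Set G) →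
      ∃ a, Nat.card K = a * a * Nat.card ↥(K ⊓ Subgroup.centralizer {t}) := by
  intro n
  induction n using Nat.strong_induction_on with
  | _ n ih =>
    intro K hn hodd hCK
    classical
    by_cases h1 : n = 1
    · refine ⟨1, ?_⟩
      have hb : K = ⊥ := Subgroup.card_eq_one.1 (hn.trans h1)
      rw [hb, bot_inf_eq, Subgroup.card_bot]
    haveI := Cfsg.Agent.S0205.result (G := K) (by rw [hn]; exact hodd)
    haveI : Nontrivial K := Finite.one_lt_card_iff_nontrivial.1 (by
      have := Nat.card_pos (α := K); omega)
    have hder : commutator K < ⊤ := Group.IsSolvable.commutator_lt_top_of_nontrivial K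
    -- a prime dividing the index of the derived group
    haveI : Finite (Abelianization K) := Finite.of_surjective _ (QuotientGroup.mk_surjective)
    have hA1 : Nat.card (Abelianization K) ≠ 1 := fun h => hder.ne (Subgroup.index_eq_one.1 h)
    obtain ⟨q, hq, hqA⟩ := Nat.exists_prime_and_dvd hA1
    haveI : Fact q.Prime := ⟨hq⟩
    have hq2 : q ≠ 2 := fun h => Nat.not_even_iff_odd.2 hodd (even_iff_two_dvd.2 (hn ▸ h ▸
      hqA.trans (Subgroup.index_dvd_card (commutator K))))
    let R : Subgroup (Abelianization K) := (powMonoidHom q).range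
    let L0 : Subgroup K := R.comap Abelianization.of
    let π : K →* Abelianization K ⧸ R := (QuotientGroup.mk' R).comp Abelianization.of
    have hπ : Function.Surjective π :=
      (QuotientGroup.mk'_surjective R).comp QuotientGroup.mk_surjective
    have hRne : R ≠ ⊤ := by
      intro htop
      obtain ⟨x, hx⟩ := exists_prime_orderOf_dvd_card' q hqA
      have hsurj : Function.Surjective (powMonoidHom q : Abelianization K →* Abelianization K) :=
        MonoidHom.range_eq_top.1 htop
      have := (Finite.injective_iff_surjective.2 hsurj) (a₁ := x) (a₂ := 1) (by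
        rw [powMonoidHom_apply, powMonoidHom_apply, one_pow, ← hx, pow_orderOf_eq_one])
      rw [this, orderOf_one] at hx
      exact hq.ne_one hx.symm
    haveI hchar : L0.Characteristic := by
      refine Subgroup.characteristic_iff_comap_eq.2 fun φ => ?_
      have hle : ∀ (ψ : K ≃* K) (x : K), x ∈ L0 → ψ x ∈ L0 := by
        rintro ψ x ⟨y, hy⟩
        refine ⟨Abelianization.map ψ.toMonoidHom y, ?_⟩
        rw [powMonoidHom_apply, ← map_pow, ← powMonoidHom_apply q y, hy, Abelianization.map_of]
        rfl
      ext x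
      exact ⟨fun h => by simpa using hle φ.symm _ h, hle φ x⟩
    set L := L0.map K.subtype
    have hLK : L ≤ K := Subgroup.map_subtype_le L0
    have hCL : C ≤ Subgroup.normalizer (L : Set G) := by
      intro c hc
      refine Subgroup.mem_normalizer_iff.2 fun x => ?_
      let ψ : K ≃* K := K.normalizerMonoidHom ⟨c, hCK hc⟩
      constructor
      · rintro ⟨y, hy, rfl⟩
        refine ⟨ψ y, ?_, rfl⟩
        rw [← Subgroup.characteristic_iff_comap_eq.1 hchar ψ] at hy
        exact hy
      · intro hx
        have hxK : x ∈ K := (Subgroup.mem_normalizer_iff.1 (hCK hc) x).2 (hLK hx)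
        obtain ⟨y, hy, hyx⟩ := hx
        refine ⟨⟨x, hxK⟩, ?_, rfl⟩
        rw [← Subgroup.characteristic_iff_comap_eq.1 hchar ψ]
        show ψ ⟨x, hxK⟩ ∈ L0
        rwa [show ψ ⟨x, hxK⟩ = y from Subtype.ext hyx.symm]
    have hLlt : Nat.card L < n := by
      rw [← hn]
      refine lt_of_le_of_ne (Subgroup.card_le_of_le hLK) fun h => hRne ?_
      have hLK' := Subgroup.eq_of_le_of_card_ge hLK h.ge
      rw [Subgroup.eq_top_iff']
      intro a
      obtain ⟨x, rfl⟩ := QuotientGroup.mk_surjective a
      obtain ⟨y, hy, hyx⟩ := (hLK'.symm ▸ x.2 : (x : G) ∈ L)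
      exact (Subtype.ext hyx : y = x) ▸ hy
    have hLodd : Odd (Nat.card L) := (hn ▸ hodd).of_dvd_nat (Subgroup.card_dvd_of_le hLK)
    obtain ⟨a, ha⟩ := ih _ hLlt L rfl hLodd hCL
    -- the factor as a space
    haveI : Module (ZMod q) (Additive (Abelianization K ⧸ R)) := AddCommGroup.zmodModule (n := q)
      fun v => by
        obtain ⟨x, hx⟩ := QuotientGroup.mk_surjective v.toMul
        show v.toMul ^ q = 1
        rw [← hx, ← QuotientGroup.mk_pow, QuotientGroup.eq_one_iff]
        exact ⟨x, rfl⟩
    haveI : Finite (Abelianization K ⧸ R) := Finite.of_surjective _ (QuotientGroup.mk_surjective)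
    have hRinv : ∀ c : C, ∀ x : K, π x = 1 → π (K.normalizerMonoidHom ⟨c.1, hCK c.2⟩ x) = 1 := by
      intro c x hx
      have hx' : x ∈ L0 := (QuotientGroup.eq_one_iff (N := R) (Abelianization.of x)).1 hx
      rw [← Subgroup.characteristic_iff_comap_eq.1 hchar (K.normalizerMonoidHom ⟨c.1, hCK c.2⟩)] at hx'
      exact (QuotientGroup.eq_one_iff (N := R) (Abelianization.of _)).2 hx'
    let act : C → (Abelianization K ⧸ R →* Abelianization K ⧸ R) := fun c =>
      π.liftOfSurjective hπ ⟨π.comp (K.normalizerMonoidHom ⟨c.1, hCK c.2⟩).toMonoidHom,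
        fun x hx => hRinv c x hx⟩
    have hact : ∀ c x, act c (π x) = π (K.normalizerMonoidHom ⟨c.1, hCK c.2⟩ x) := fun c x =>
      MonoidHom.liftOfRightInverse_comp_apply _ _ _ _ x
    have hact1 : act 1 = MonoidHom.id _ := MonoidHom.ext fun v => by
      obtain ⟨x, hx⟩ := hπ v
      rw [← hx]
      change act 1 (π x) = π x
      rw [hact, show (⟨((1 : C) : G), hCK (1 : C).2⟩ : Subgroup.normalizer (K : Set G)) = 1 from rfl,
        map_one]
      rfl
    have hactm : ∀ c d, act (c * d) = (act c).comp (act d) := fun c d => MonoidHom.ext fun v => by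
      obtain ⟨x, hx⟩ := hπ v
      rw [← hx]
      change act (c * d) (π x) = act c (act d (π x))
      rw [hact, hact, hact]
      refine congrArg π ?_
      rw [← MulAut.mul_apply, ← map_mul]
      rfl
    let A : C →* Module.End (ZMod q) (Additive (Abelianization K ⧸ R)) :=
      { toFun := fun c => (act c).toAdditive.toZModLinearMap q
        map_one' := by rw [hact1]; exact LinearMap.ext fun v => by simp
        map_mul' := fun c d => by rw [hactm]; exact LinearMap.ext fun v => rfl }
    have htC' : t ∈ C := Subgroup.commutator_le_self C htC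
    have hAA : ∀ v, A ⟨t, htC'⟩ (A ⟨t, htC'⟩ v) = v := fun v => by
      rw [← Module.End.mul_apply, ← map_mul, show (⟨t, htC'⟩ : C) * ⟨t, htC'⟩ = 1 from Subtype.ext ht,
        map_one]
      rfl
    let f : Additive (Abelianization K ⧸ R) ≃ₗ[ZMod q] Additive (Abelianization K ⧸ R) :=
      LinearEquiv.ofInvolutive (A ⟨t, htC'⟩) hAA
    have hdet : LinearEquiv.det f = 1 := by
      let d : C →* ZMod q := (LinearMap.det).comp A
      have hd : (⟨t, htC'⟩ : C) ∈ d.toHomUnits.ker := by
        refine Abelianization.commutator_subset_ker d.toHomUnits ?_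
        have hmap : (_root_.commutator C).map C.subtype = ⁅C, C⁆ := Subgroup.map_subtype_commutator C
        rw [← hmap] at htC
        obtain ⟨c, hc, hct⟩ := htC
        exact (Subtype.ext hct : c = ⟨t, htC'⟩) ▸ hc
      refine Units.ext ?_
      rw [LinearEquiv.coe_det]
      exact congrArg Units.val (MonoidHom.mem_ker.1 hd)
    obtain ⟨b, hb⟩ := exists_sq_fixed hq2 f (fun v => hAA v) hdet
    refine ⟨a * b, ?_⟩
    -- counting
    let Kt : Subgroup K := (Subgroup.centralizer {t}).subgroupOf K
    have hKt : Nat.card ↥(K ⊓ Subgroup.centralizer {t}) = Nat.card Kt :=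
      Nat.card_congr ⟨fun x => ⟨⟨x.1, x.2.1⟩, x.2.2⟩, fun x => ⟨x.1.1, x.1.2, x.2⟩, fun _ => rfl, fun _ => rfl⟩
    have hkerπ : π.ker = L0 := by
      ext x
      exact QuotientGroup.eq_one_iff (N := R) (Abelianization.of x)
    have hLc : Nat.card L = Nat.card L0 := Subgroup.card_map_of_injective K.subtype_injective
    have hKL : Nat.card K = Nat.card L * Nat.card (Additive (Abelianization K ⧸ R)) := by
      rw [hLc, ← hkerπ, show Nat.card (Additive (Abelianization K ⧸ R)) = Nat.card π.range by
        rw [MonoidHom.range_eq_top.2 hπ, Subgroup.card_top]; rfl,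
        ← Subgroup.index_ker, mul_comm, Subgroup.index_mul_card]
    -- fixed cosets have fixed points
    let τ : MulAut K := K.normalizerMonoidHom ⟨t, hCK htC'⟩
    have hτ : ∀ x : K, (τ x : G) = t * x.1 * t⁻¹ := fun x => rfl
    have hfix : ∀ v : Additive (Abelianization K ⧸ R), f v = v →
        ∃ x : K, x ∈ Kt ∧ Additive.ofMul (π x) = v := by
      intro v hv
      obtain ⟨x, hx⟩ := hπ v.toMul
      obtain rfl : v = Additive.ofMul (π x) := by rw [hx]; rfl
      have hv' : π (τ x) = π x := by
        have := congrArg Additive.toMul hv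
        change act ⟨t, htC'⟩ (π x) = π x at this
        rwa [hact] at this
      let s : Set K := {y | π y = π x}
      have hinv : ∀ y ∈ s, τ y ∈ s := fun y hy => by
        show π (τ y) = π x
        rw [show π (τ y) = act ⟨t, htC'⟩ (π y) from (hact ⟨t, htC'⟩ y).symm, hy, hact, ← hv']
      have hττ : ∀ y, τ (τ y) = y := fun y => Subtype.ext (by
        rw [hτ, hτ, inv_eq_of_mul_eq_one_right ht,
          show t * (t * y.1 * t) * t = t * t * y.1 * (t * t) by group, ht, one_mul, mul_one])
      let σ : Equiv.Perm s :=
        ⟨fun y => ⟨τ y.1, hinv _ y.2⟩, fun y => ⟨τ y.1, hinv _ y.2⟩, fun y => Subtype.ext (hττ _),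
          fun y => Subtype.ext (hττ _)⟩
      haveI : Fintype s := Fintype.ofFinite s
      have hcard : Fintype.card s = Nat.card L0 := by
        rw [← Nat.card_eq_fintype_card, ← hkerπ]
        exact Nat.card_congr
          { toFun := fun y => ⟨x⁻¹ * y.1, by
              rw [MonoidHom.mem_ker, map_mul, map_inv, show π y.1 = π x from y.2, inv_mul_cancel]⟩
            invFun := fun y => ⟨x * y.1, by
              show π (x * y.1) = π x
              rw [map_mul, MonoidHom.mem_ker.1 y.2, mul_one]⟩
            left_inv := fun y => Subtype.ext (mul_inv_cancel_left _ _)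
            right_inv := fun y => Subtype.ext (inv_mul_cancel_left _ _) }
      obtain ⟨y, hy⟩ : ∃ y : s, σ y = y := by
        by_contra hne
        push Not at hne
        haveI : Fact (Nat.Prime 2) := ⟨Nat.prime_two⟩
        have hσ2 : σ ^ 2 ^ 1 = 1 := Equiv.ext fun y => Subtype.ext (by
          rw [pow_one, pow_two]; exact hττ _)
        have h0 : σ.supportᶜ = (∅ : Finset s) := by
          ext y; simp [hne y]
        have := Equiv.Perm.card_compl_support_modEq hσ2
        rw [h0, Finset.card_empty, hcard, ← hLc] at this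
        have h1' := Nat.odd_iff.1 hLodd
        unfold Nat.ModEq at this
        omega
      refine ⟨y.1, ?_, congrArg Additive.ofMul y.2⟩
      have h3 : t * y.1.1 * t⁻¹ = y.1.1 := congrArg (fun z : s => (z.1 : G)) hy
      rw [mul_inv_eq_iff_eq_mul] at h3
      exact Subgroup.mem_centralizer_singleton_iff.2 h3.symm
    have hKtc : Nat.card Kt = Nat.card ↥(L ⊓ Subgroup.centralizer {t}) *
        Nat.card {v : Additive (Abelianization K ⧸ R) // f v = v} := by
      let g := π.comp Kt.subtype
      have hrange : Nat.card g.range = Nat.card {v : Additive (Abelianization K ⧸ R) // f v = v} := by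
        refine Nat.card_congr (Equiv.subtypeEquiv Additive.ofMul fun v => ?_)
        constructor
        · rintro ⟨⟨x, hx⟩, rfl⟩
          show Additive.ofMul (act ⟨t, htC'⟩ (π x)) = _
          rw [hact]
          refine congrArg Additive.ofMul (congrArg π (Subtype.ext ?_))
          have hx' : (x : G) * t = t * x := Subgroup.mem_centralizer_singleton_iff.1 hx
          show t * x.1 * t⁻¹ = x.1
          rw [← hx', mul_inv_cancel_right]
        · intro hv
          obtain ⟨x, hx, hxv⟩ := hfix _ hv
          exact ⟨⟨x, hx⟩, congrArg Additive.toMul hxv⟩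
      have hker : Nat.card g.ker = Nat.card ↥(L ⊓ Subgroup.centralizer {t}) := by
        refine Nat.card_congr
          { toFun := fun x => ⟨x.1.1.1, ⟨x.1.1, hkerπ ▸ x.2, rfl⟩, x.1.2⟩
            invFun := fun x => ⟨⟨⟨x.1, hLK x.2.1⟩, x.2.2⟩, by
              obtain ⟨y, hy, hyx⟩ := x.2.1
              show π ⟨x.1, _⟩ = 1
              rw [show (⟨x.1, hLK x.2.1⟩ : K) = y from Subtype.ext hyx.symm]
              exact (QuotientGroup.eq_one_iff (N := R) (Abelianization.of y)).2 hy⟩
            left_inv := fun x => rfl
            right_inv := fun x => rfl }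
      rw [← hker, ← hrange, ← Subgroup.index_ker, mul_comm, Subgroup.index_mul_card]
    rw [hKt, hKtc, hKL, ha, hb]
    ring

/-- The centraliser of a fixed-point-free involutory permutation of eight points is solvable. -/
theorem isSolvable_of_pairing {H S : Type*} [Group H] [Finite S] (φ : H →* Equiv.Perm S)
    (hφ : Group.IsSolvable φ.ker) (hS : Nat.card S = 8) (σ : S → S) (hσ : ∀ x, σ (σ x) = x)
    (hσ1 : ∀ x, σ x ≠ x) (hcomm : ∀ h x, φ h (σ x) = σ (φ h x)) : Group.IsSolvable H := by
  classical
  haveI := Fintype.ofFinite S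
  suffices Group.IsSolvable φ.range by
    exact Group.isSolvable_of_ker_le_range φ.ker.subtype φ.rangeRestrict (by
      rw [Subgroup.range_subtype, MonoidHom.ker_rangeRestrict])
  set H' := φ.range
  have hc : ∀ h : H', ∀ x, h.1 (σ x) = σ (h.1 x) := by
    rintro ⟨_, ⟨h, rfl⟩⟩ x
    exact hcomm h x
  let r : Setoid S :=
    { r := fun x y => y = x ∨ y = σ x
      iseqv := ⟨fun x => Or.inl rfl, fun {x y} h => by
          rcases h with rfl | rfl
          · exact Or.inl rfl
          · exact Or.inr (hσ x).symm,
        fun {x y z} h h' => by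
          rcases h with rfl | rfl <;> rcases h' with rfl | rfl
          · exact Or.inl rfl
          · exact Or.inr rfl
          · exact Or.inr rfl
          · exact Or.inl (hσ x)⟩ }
  let ψ : H' →* Equiv.Perm (Quotient r) :=
    { toFun := fun h => Quotient.congr h.1 fun x y => ⟨fun e => by
          rcases e with rfl | rfl
          · exact Or.inl rfl
          · exact Or.inr (hc h x),
        fun e => by
          rcases e with e | e
          · exact Or.inl (h.1.injective e)
          · exact Or.inr (h.1.injective (e.trans (hc h x).symm))⟩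
      map_one' := Equiv.ext fun v => by induction v using Quotient.ind; rfl
      map_mul' := fun a b => Equiv.ext fun v => by induction v using Quotient.ind; rfl }
  have hQ : Nat.card (Quotient r) = 4 := by
    haveI := Fintype.ofFinite (Quotient r)
    have h1 : Fintype.card S = ∑ v : Quotient r,
        (Finset.univ.filter fun x : S => Quotient.mk r x = v).card :=
      Finset.card_eq_sum_card_fiberwise fun x _ => Finset.mem_univ _
    rw [Finset.sum_congr rfl fun v _ => show
      (Finset.univ.filter fun x : S => Quotient.mk r x = v).card = 2 by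
        obtain ⟨x, rfl⟩ := Quotient.exists_rep v
        rw [Finset.card_eq_two]
        refine ⟨x, σ x, (hσ1 x).symm, ?_⟩
        ext y
        simp only [Finset.mem_filter, Finset.mem_univ, true_and, Finset.mem_insert,
          Finset.mem_singleton]
        exact ⟨fun e => (Quotient.exact e.symm : y = x ∨ y = σ x),
          fun e => (Quotient.sound (e : r x y)).symm⟩,
      Finset.sum_const, smul_eq_mul, Finset.card_univ] at h1
    rw [Nat.card_eq_fintype_card] at hS ⊢
    omega
  haveI : Group.IsSolvable (Equiv.Perm (Quotient r)) := by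
    haveI := CfsgLib.NumberTheory.SwapClosure.isSolvable_perm_fin_four
    exact Group.isSolvable_of_isSolvable_injective
      (f := (Finite.equivFinOfCardEq hQ).permCongrHom.toMonoidHom) (MulEquiv.injective _)
  have hker2 : ∀ a ∈ ψ.ker, a * a = 1 := by
    intro a ha
    refine Subtype.ext (Equiv.ext fun x => ?_)
    have h2 := Equiv.congr_fun (MonoidHom.mem_ker.1 ha) (Quotient.mk r x)
    have h3 : a.1 x = x ∨ a.1 x = σ x := (Quotient.exact h2.symm : r x (a.1 x))
    show a.1 (a.1 x) = x
    rcases h3 with e | e
    · rw [e, e]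
    · rw [e, hc, e, hσ]
  haveI : Group.IsSolvable ψ.ker := Group.isSolvable_of_comm fun a b => by
    have hsq : ∀ c : ψ.ker, c⁻¹ = c := fun c =>
      inv_eq_of_mul_eq_one_right (Subtype.ext (hker2 c.1 c.2))
    calc a * b = (a * b)⁻¹ := (hsq _).symm
      _ = b * a := by rw [mul_inv_rev, hsq, hsq]
  exact Group.isSolvable_of_ker_le_range ψ.ker.subtype ψ (by simp)

end CfsgLib.Pyramidal
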