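import Cfsg.Agent.Lib.Pyramidal.NoGL
import Cfsg.Agent.Lib.Pyramidal.Square
import Cfsg.Agent.Lib.Char.Integral
import Cfsg.Agent.S4037
import Cfsg.Agent.S4179

/-!
# Solvability of the pyramidal groups
-/

namespace CfsgLib.Pyramidal

open CfsgLib.LinTwo

/-- The only odd prime powers one less than a power of two are primes. -/
lemma pow_eq_one_or_prime {p j r : ℕ} (hp : p.Prime) (hp2 : p ≠ 2) (h : p ^ j + 1 = 2 ^ r) :
    j = 0 ∨ j = 1 := by
  by_contra hj
  push Not at hj
  have hodd : Odd p := hp.odd_of_ne_two hp2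
  have hbig : 4 < p ^ j + 1 := by
    have h2 : p ^ 2 ≤ p ^ j := Nat.pow_le_pow_right hp.pos (by omega)
    have h3 : 3 * 3 ≤ p ^ 2 := by
      rw [pow_two]
      have := hp.two_le
      exact Nat.mul_le_mul (by omega) (by omega)
    omega
  have hr : 2 ≤ r := by
    by_contra hr
    have : 2 ^ r ≤ 2 ^ 1 := Nat.pow_le_pow_right two_pos (by omega)
    omega
  have h4 : 4 ∣ p ^ j + 1 := h ▸ (show 4 = 2 ^ 2 by norm_num) ▸ pow_dvd_pow 2 hr
  rcases Nat.even_or_odd j with ⟨i, rfl⟩ | hjo
  · obtain ⟨a, ha⟩ := hodd.pow (n := i)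
    rw [pow_add, ha, show (2 * a + 1) * (2 * a + 1) + 1 = 4 * (a * a + a) + 2 by ring] at h4
    omega
  · have hgeom := geom_sum_mul (-(p : ℤ)) j
    rw [hjo.neg_pow] at hgeom
    set S := ∑ i ∈ Finset.range j, (-(p : ℤ)) ^ i
    have hprod : S * ((p : ℤ) + 1) = 2 ^ r := by
      have : ((p : ℤ) ^ j + 1) = 2 ^ r := by exact_mod_cast h
      linear_combination -hgeom + this
    have hSodd : (S : ZMod 2) = 1 := by
      have hp1 : ((p : ℕ) : ZMod 2) = 1 := ZMod.natCast_eq_one_iff_odd.2 hodd
      simp only [S, Int.cast_sum, Int.cast_pow, Int.cast_neg, Int.cast_natCast, hp1,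
        show (-1 : ZMod 2) = 1 from rfl, one_pow, Finset.sum_const, Finset.card_range, nsmul_one]
      exact ZMod.natCast_eq_one_iff_odd.2 hjo
    have hSdvd : S.natAbs ∣ 2 ^ r := ⟨p + 1, by
      have := congrArg Int.natAbs hprod
      rw [Int.natAbs_mul, show ((p : ℤ) + 1).natAbs = p + 1 by omega] at this
      rw [this]
      simp [Int.natAbs_pow]⟩
    obtain ⟨i, -, hi⟩ := (Nat.dvd_prime_pow Nat.prime_two).1 hSdvd
    rcases i with - | i
    · have hS1 : S.natAbs = 1 := by rw [hi]; rfl
      have hS : S = 1 ∨ S = -1 := by omega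
      rcases hS with hS | hS
      · rw [hS, one_mul] at hprod
        have h' : p + 1 = 2 ^ r := by exact_mod_cast hprod
        have : p ^ 1 < p ^ j := Nat.pow_lt_pow_right hp.one_lt (by omega)
        rw [pow_one] at this
        omega
      · rw [hS] at hprod
        have : (0 : ℤ) < 2 ^ r := by positivity
        omega
    · have h0 : ((S.natAbs : ℕ) : ZMod 2) = 0 := by
        rw [hi, Nat.cast_pow, show ((2 : ℕ) : ZMod 2) = 0 from rfl, zero_pow (by omega)]
      rw [ZMod.natCast_eq_zero_iff, ← Int.natCast_dvd_natCast, Int.dvd_natAbs] at h0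
      have h1 := (ZMod.intCast_zmod_eq_zero_iff_dvd S 2).2 h0
      rw [hSodd] at h1
      exact one_ne_zero h1

lemma orderOf_two_iff {G : Type*} [Group G] {x : G} : orderOf x = 2 ↔ x * x = 1 ∧ x ≠ 1 := by
  haveI : Fact (Nat.Prime 2) := ⟨Nat.prime_two⟩
  rw [orderOf_eq_prime_iff, pow_two]

lemma card_inv_eq_index {G : Type*} [Group G] [Finite G]
    (hconj : ∀ x y : G, orderOf x = 2 → orderOf y = 2 → ∃ g : G, g * x * g⁻¹ = y) {t : G}
    (ht : orderOf t = 2) :
    Nat.card {x : G // orderOf x = 2} = (Subgroup.centralizer ({t} : Set G)).index := by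
  rw [← CfsgLib.Char.card_isConj_eq_index]
  refine Nat.card_congr (Equiv.subtypeEquivRight fun x => ⟨fun hx => ?_, fun hx => ?_⟩)
  · exact isConj_iff.2 (hconj x t hx ht)
  · obtain ⟨g, hg⟩ := isConj_iff.1 hx.symm
    rw [← hg, orderOf_two_iff]
    obtain ⟨h1, h2⟩ := orderOf_two_iff.1 ht
    refine ⟨?_, fun h => h2 ?_⟩
    · rw [show g * t * g⁻¹ * (g * t * g⁻¹) = g * (t * t) * g⁻¹ by group, h1, mul_one,
        mul_inv_cancel]
    · rw [mul_inv_eq_one] at h
      exact mul_left_cancel (h.trans (mul_one g).symm)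

/-- The case of one involution above the odd core. -/
theorem isSolvable_of_unique {G : Type*} [Group G] [Finite G] {p k : ℕ} (hp : p.Prime)
    (hcard : Nat.card {x : G // orderOf x = 2} = p ^ k)
    (hconj : ∀ x y : G, orderOf x = 2 → orderOf y = 2 → ∃ g : G, g * x * g⁻¹ = y)
    (hpar : Odd k ∨ p ^ k = 9) (K : Subgroup G) [K.Normal] (hK : Odd (Nat.card K)) {t : G}
    (ht : orderOf t = 2) (huniq : ∀ s : G, orderOf s = 2 → t⁻¹ * s ∈ K) : Group.IsSolvable G := by
  classical
  haveI : Fact (Nat.Prime 2) := ⟨Nat.prime_two⟩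
  haveI := Cfsg.Agent.S0205.result hK
  obtain ⟨htt, ht1⟩ := orderOf_two_iff.1 ht
  have htinv : t⁻¹ = t := inv_eq_of_mul_eq_one_right htt
  set C := Subgroup.centralizer ({t} : Set G)
  have htC : t ∈ C := Subgroup.mem_centralizer_singleton_iff.2 rfl
  have hC1 : ∀ s ∈ C, orderOf s = 2 → s = t := by
    intro s hs hs2
    obtain ⟨hss, -⟩ := orderOf_two_iff.1 hs2
    have hcomm : s * t = t * s := Subgroup.mem_centralizer_singleton_iff.1 hs
    have hd : (t⁻¹ * s) * (t⁻¹ * s) = 1 := by
      rw [htinv, show t * s * (t * s) = t * (s * t) * s by group, hcomm,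
        show t * (t * s) * s = t * t * (s * s) by group, htt, hss, one_mul]
    by_contra hne
    have h2 : orderOf (⟨t⁻¹ * s, huniq s hs2⟩ : K) = 2 := orderOf_two_iff.2
      ⟨Subtype.ext hd, fun h => hne (inv_mul_eq_one.1 (congrArg Subtype.val h)).symm⟩
    have h3 := orderOf_dvd_natCard (⟨t⁻¹ * s, huniq s hs2⟩ : K)
    rw [h2] at h3
    exact Nat.not_even_iff_odd.2 hK (even_iff_two_dvd.2 h3)
  -- the core times the centraliser
  have hsurj : ∀ g : G, ∃ κ ∈ K, κ * g ∈ C := by
    intro g
    have hs : orderOf (g * t * g⁻¹) = 2 := by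
      rw [show g * t * g⁻¹ = MulAut.conj g t from rfl, MulEquiv.orderOf_eq, ht]
    set s := g * t * g⁻¹ with hsdef
    obtain ⟨hss, -⟩ := orderOf_two_iff.1 hs
    have hdK : s * t ∈ K := by
      have h1 := K.inv_mem ((inferInstance : K.Normal).conj_mem _ (huniq s hs) t)
      have e : (t * (t⁻¹ * s) * t⁻¹)⁻¹ = t * s⁻¹ := by group
      rw [e, inv_eq_of_mul_eq_one_right hss] at h1
      have h2 := K.inv_mem h1
      rwa [mul_inv_rev, inv_eq_of_mul_eq_one_right hss, htinv] at h2
    set d := s * t with hd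
    obtain ⟨i, hi⟩ : Odd (orderOf d) := hK.of_dvd_nat (by
      have := orderOf_dvd_natCard (⟨d, hdK⟩ : K)
      rwa [Subgroup.orderOf_mk] at this)
    have htd : t * d * t⁻¹ = d⁻¹ := by
      rw [hd, htinv, mul_inv_rev, htinv, inv_eq_of_mul_eq_one_right hss, mul_assoc t, mul_assoc s,
        htt, mul_one]
    have hpw : t * d ^ (i + 1) * t⁻¹ = (d ^ (i + 1))⁻¹ := by rw [← conj_pow, htd, inv_pow]
    refine ⟨(d ^ (i + 1))⁻¹, K.inv_mem (K.pow_mem hdK _), Subgroup.mem_centralizer_singleton_iff.2 ?_⟩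
    have he : d ^ (i + 1) * t * (d ^ (i + 1))⁻¹ = s := by
      have h1 : d ^ (i + 1) * d ^ (i + 1) = d := by
        rw [← pow_add, show i + 1 + (i + 1) = 2 * i + 1 + 1 by omega, ← hi, pow_succ,
          pow_orderOf_eq_one, one_mul]
      calc d ^ (i + 1) * t * (d ^ (i + 1))⁻¹
          = d ^ (i + 1) * (t * (d ^ (i + 1)) * t⁻¹)⁻¹ * t := by group
        _ = d ^ (i + 1) * d ^ (i + 1) * t := by rw [hpw, inv_inv]
        _ = s := by rw [h1, hd, mul_assoc, htt, mul_one]
    have he' : g * t * g⁻¹ = d ^ (i + 1) * t * (d ^ (i + 1))⁻¹ := he.symm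
    calc (d ^ (i + 1))⁻¹ * g * t = (d ^ (i + 1))⁻¹ * (g * t * g⁻¹) * g := by group
      _ = t * ((d ^ (i + 1))⁻¹ * g) := by rw [he']; group
  suffices hCs : Group.IsSolvable C by
    haveI := hCs
    haveI : Group.IsSolvable (G ⧸ K) := Group.isSolvable_of_surjective
      (f := (QuotientGroup.mk' K).comp C.subtype) (fun x => by
        obtain ⟨g, rfl⟩ := QuotientGroup.mk_surjective x
        obtain ⟨κ, hκ, hκg⟩ := hsurj g
        refine ⟨⟨κ * g, hκg⟩, ?_⟩
        show ((κ * g : G) : G ⧸ K) = g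
        rw [QuotientGroup.mk_mul, (QuotientGroup.eq_one_iff κ).2 hκ, one_mul])
    exact (Group.isSolvable_iff_subgroup_quotient K).2 ⟨inferInstance, inferInstance⟩
  by_cases htd : t ∈ ⁅C, C⁆
  · -- the number of involutions is a square
    obtain ⟨a, ha⟩ := exists_sq_index C htd htt (Nat.card K) K rfl hK
      (Subgroup.normalizer_eq_top_iff.2 (inferInstance : K.Normal) ▸ le_top)
    have hπ : Function.Surjective ((QuotientGroup.mk' K).comp C.subtype) := fun x => by
      obtain ⟨g, rfl⟩ := QuotientGroup.mk_surjective x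
      obtain ⟨κ, hκ, hκg⟩ := hsurj g
      refine ⟨⟨κ * g, hκg⟩, ?_⟩
      show ((κ * g : G) : G ⧸ K) = g
      rw [QuotientGroup.mk_mul, (QuotientGroup.eq_one_iff κ).2 hκ, one_mul]
    have hCc : Nat.card C = Nat.card (G ⧸ K) * Nat.card ↥(K ⊓ C) := by
      have h1 := Subgroup.index_mul_card ((QuotientGroup.mk' K).comp C.subtype).ker
      rw [Subgroup.index_ker, MonoidHom.range_eq_top.2 hπ, Subgroup.card_top] at h1
      rw [← h1]
      congr 1
      exact Nat.card_congr
        ⟨fun x => ⟨x.1.1, (QuotientGroup.eq_one_iff x.1.1).1 x.2, x.1.2⟩,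
          fun x => ⟨⟨x.1, x.2.2⟩, (QuotientGroup.eq_one_iff x.1).2 x.2.1⟩, fun _ => rfl, fun _ => rfl⟩
    have hGc := Subgroup.card_eq_card_quotient_mul_card_subgroup K
    have hidx := C.index_mul_card
    rw [← card_inv_eq_index hconj ht, hcard, hCc, hGc, ha] at hidx
    have hsq : p ^ k = a * a := by
      have h0 : 0 < Nat.card (G ⧸ K) * Nat.card ↥(K ⊓ C) := Nat.mul_pos Nat.card_pos Nat.card_pos
      refine Nat.eq_of_mul_eq_mul_right h0 ?_
      rw [hidx]; ring
    have h9 : p ^ k = 9 := hpar.resolve_left fun hk => by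
      obtain ⟨i, -, hi⟩ := (Nat.dvd_prime_pow hp).1 (Dvd.intro a hsq.symm)
      rw [hi, ← pow_add] at hsq
      have := Nat.pow_right_injective hp.two_le hsq
      obtain ⟨j, hj⟩ := hk
      omega
    rw [h9] at hcard
    -- the action on the other eight involutions
    let S := {s : G // orderOf s = 2 ∧ s ≠ t}
    have hS : Nat.card S = 8 := by
      have h1 : Nat.card S + 1 = Nat.card {x : G // orderOf x = 2} := by
        rw [← Finite.card_option]
        refine Nat.card_congr ((Equiv.optionSubtypeNe (⟨t, ht⟩ : {x : G // orderOf x = 2})).symm.trans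
          (Equiv.optionCongr ?_)).symm |>.symm |> fun h => h.symm
        exact ⟨fun x => ⟨x.1.1, x.1.2, fun e => x.2 (Subtype.ext e)⟩,
          fun x => ⟨⟨x.1, x.2.1⟩, fun e => x.2.2 (congrArg Subtype.val e)⟩, fun _ => rfl, fun _ => rfl⟩
      omega
    have hmem : ∀ c ∈ C, ∀ s : S, orderOf (c * s.1 * c⁻¹) = 2 ∧ c * s.1 * c⁻¹ ≠ t := by
      intro c hc s
      refine ⟨by rw [show c * s.1 * c⁻¹ = MulAut.conj c s.1 from rfl, MulEquiv.orderOf_eq, s.2.1],
        fun h => s.2.2 ?_⟩
      have hcomm : c * t = t * c := Subgroup.mem_centralizer_singleton_iff.1 hc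
      rw [mul_inv_eq_iff_eq_mul, ← hcomm] at h
      exact mul_left_cancel h
    let φ : C →* Equiv.Perm S :=
      { toFun := fun c =>
          { toFun := fun s => ⟨c.1 * s.1 * c.1⁻¹, hmem c.1 c.2 s⟩
            invFun := fun s => ⟨c.1⁻¹ * s.1 * c.1⁻¹⁻¹, hmem _ (C.inv_mem c.2) s⟩
            left_inv := fun s => Subtype.ext (by group)
            right_inv := fun s => Subtype.ext (by group) }
        map_one' := Equiv.ext fun s => Subtype.ext (by simp)
        map_mul' := fun c d => Equiv.ext fun s => Subtype.ext (by simp [mul_assoc]) }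
    refine isSolvable_of_pairing φ ?_ hS (fun s => ⟨t * s.1 * t⁻¹, hmem t htC s⟩)
      (fun s => Subtype.ext (by
        show t * (t * s.1 * t⁻¹) * t⁻¹ = s.1
        rw [htinv, show t * (t * s.1 * t) * t = t * t * s.1 * (t * t) by group, htt, one_mul, mul_one]))
      (fun s h => s.2.2 (hC1 s.1 (Subgroup.mem_centralizer_singleton_iff.2 (by
        have h1 := congrArg Subtype.val h
        rw [mul_inv_eq_iff_eq_mul] at h1
        exact h1.symm)) s.2.1))
      (fun c s => Subtype.ext (by
        show c.1 * (t * s.1 * t⁻¹) * c.1⁻¹ = t * (c.1 * s.1 * c.1⁻¹) * t⁻¹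
        have hcomm : c.1 * t = t * c.1 := Subgroup.mem_centralizer_singleton_iff.1 c.2
        rw [show c.1 * (t * s.1 * t⁻¹) * c.1⁻¹ = (c.1 * t) * s.1 * (c.1 * t)⁻¹ by group, hcomm]
        group))
    refine Cfsg.Agent.S0205.result ?_
    rw [← Nat.not_even_iff_odd, even_iff_two_dvd]
    intro h2
    obtain ⟨x, hx⟩ := exists_prime_orderOf_dvd_card' 2 h2
    rw [← Subgroup.orderOf_coe, ← Subgroup.orderOf_coe] at hx
    have hxt : ((x.1 : C) : G) = t := hC1 _ x.1.2 hx
    haveI : Nonempty S := by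
      have : Nat.card S ≠ 0 := by omega
      exact (Nat.card_ne_zero.1 this).1
    obtain ⟨s⟩ := (inferInstance : Nonempty S)
    have h1 := congrArg Subtype.val (Equiv.congr_fun (MonoidHom.mem_ker.1 x.2) s)
    change (x.1 : G) * s.1 * (x.1 : G)⁻¹ = s.1 at h1
    rw [hxt, mul_inv_eq_iff_eq_mul] at h1
    exact s.2.2 (hC1 s.1 (Subgroup.mem_centralizer_singleton_iff.2 h1.symm) s.2.1)
  · -- the derived group of the centraliser is odd
    have hder : Odd (Nat.card (_root_.commutator C)) := by
      rw [← Nat.not_even_iff_odd, even_iff_two_dvd]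
      intro h2
      obtain ⟨x, hx⟩ := exists_prime_orderOf_dvd_card' 2 h2
      rw [← Subgroup.orderOf_coe, ← Subgroup.orderOf_coe] at hx
      refine htd ?_
      rw [← hC1 _ x.1.2 hx, ← Subgroup.map_subtype_commutator]
      exact Subgroup.mem_map_of_mem _ x.2
    haveI := Cfsg.Agent.S0205.result hder
    exact Group.isSolvable_of_ker_le_range (_root_.commutator C).subtype (Abelianization.of (G := C))
      (by rw [Subgroup.range_subtype, Abelianization.ker_of])

/-- A group with an elementary abelian normal subgroup of prime rank whose involutions are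
transitively permuted is solvable. -/
theorem isSolvable_of_single {X : Type*} [Group X] [Finite X] {E : Subgroup X} (hI : Inv E)
    {r p : ℕ} (hS : Single E r p) : Group.IsSolvable X := by
  classical
  haveI := hI.normal
  letI := hI.commGroup
  letI := hI.module
  have hcenSolv : Group.IsSolvable (Subgroup.centralizer (E : Set X)) := isSolvable_centralizer hI hS
  have hker : hI.lin.ker = Subgroup.centralizer (E : Set X) := by
    ext x
    rw [MonoidHom.mem_ker, ← hI.conj_eq_one_iff]
    constructor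
    · intro h
      exact linOf_injective E (h.trans (map_one _).symm)
    · intro h
      show linOf E (hI.conj x) = 1
      rw [h, map_one]
  suffices Group.IsSolvable hI.lin.range by
    haveI := this
    haveI := hcenSolv
    exact Group.isSolvable_of_ker_le_range (Subgroup.centralizer (E : Set X)).subtype
      hI.lin.rangeRestrict (by rw [Subgroup.range_subtype, MonoidHom.ker_rangeRestrict, hker])
  have hV : Nat.card (Additive E) = 2 ^ r := hS.card
  have hrk : Module.finrank K2 (Additive E) = r := by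
    have h := Module.natCard_eq_pow_finrank (K := K2) (V := Additive E)
    rw [hV, Nat.card_zmod] at h
    exact (Nat.pow_right_injective le_rfl h).symm
  have hp : p = 2 ^ r - 1 := by have := hS.eq; omega
  have hprime : (2 ^ r - 1).Prime := hp ▸ hS.prime
  have hr1 : r ≠ 1 := fun h => by subst h; exact Nat.not_prime_one hprime
  have hrp : r.Prime := (Nat.prime_of_pow_sub_one_prime hr1 hprime).2
  set H := hI.lin.range
  have htrans : ∀ v w : Additive E, v ≠ 0 → w ≠ 0 → ∃ h ∈ H, h v = w := by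
    intro v w hv hw
    obtain ⟨x, hx⟩ := hS.trans v.toMul.1 v.toMul.2 w.toMul.1 w.toMul.2
      (fun h => hv (congrArg Additive.ofMul (Subtype.ext h : v.toMul = 1)))
      (fun h => hw (congrArg Additive.ofMul (Subtype.ext h : w.toMul = 1)))
    exact ⟨hI.lin x, ⟨x, rfl⟩, congrArg Additive.ofMul (Subtype.ext hx : hI.conj x v.toMul = w.toMul)⟩
  rcases (Cfsg.Agent.S4179.result r hrk hprime H).1 htrans with
    ⟨hc, -⟩ | ⟨hH, C, hCH, hCn, hc, hC⟩ | htop
  · haveI := hc
    exact Group.isSolvable_of_comm fun a b => IsCyclic.commGroup.mul_comm a b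
  · haveI := hCn
    haveI := hc
    haveI : Group.IsSolvable (C.subgroupOf H) := by
      haveI : IsCyclic (C.subgroupOf H) := isCyclic_of_surjective
        (Subgroup.subgroupOfEquivOfLe hCH).symm.toMonoidHom (MulEquiv.surjective _)
      exact Group.isSolvable_of_comm fun a b => IsCyclic.commGroup.mul_comm a b
    haveI : Group.IsSolvable (H ⧸ C.subgroupOf H) := by
      have h1 := Subgroup.card_eq_card_quotient_mul_card_subgroup (C.subgroupOf H)
      rw [hH, Nat.card_congr (Subgroup.subgroupOfEquivOfLe hCH).toEquiv, hC] at h1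
      have h2 : Nat.card (H ⧸ C.subgroupOf H) = r :=
        (Nat.eq_of_mul_eq_mul_right hprime.pos h1).symm
      haveI : Fact r.Prime := ⟨hrp⟩
      haveI := isCyclic_of_prime_card h2
      exact Group.isSolvable_of_comm fun a b => IsCyclic.commGroup.mul_comm a b
    exact (Group.isSolvable_iff_subgroup_quotient (C.subgroupOf H)).2 ⟨inferInstance, inferInstance⟩
  · by_cases h3 : 3 ≤ r
    · exfalso
      refine no_gl r h3 (hrp.odd_of_ne_two (by omega)) hI hS.card fun f => ?_
      have hf : linOf E f ∈ H := htop ▸ Subgroup.mem_top _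
      obtain ⟨x, hx⟩ := hf
      exact ⟨x, linOf_injective E hx⟩
    · have hr2 : r = 2 := by have := hrp.two_le; omega
      subst hr2
      haveI := CfsgLib.NumberTheory.SwapClosure.isSolvable_perm_fin_four
      have e : Additive E ≃ Fin 4 := Finite.equivFinOfCardEq hV
      let f : H →* Equiv.Perm (Fin 4) :=
        e.permCongrHom.toMonoidHom.comp
          { toFun := fun h => h.1.toEquiv
            map_one' := rfl
            map_mul' := fun _ _ => rfl }
      refine Group.isSolvable_of_isSolvable_injective (f := f) fun a b h => ?_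
      have h1 := e.permCongrHom.injective h
      exact Subtype.ext (LinearEquiv.toEquiv_injective h1)

/-- Pyramidal groups of the stated type are solvable. -/
theorem isSolvable_of_pyramidal {G : Type*} [Group G] [Finite G] {p k : ℕ} (hp : p.Prime)
    (hp2 : p ≠ 2) (hcard : Nat.card {x : G // orderOf x = 2} = p ^ k)
    (hconj : ∀ x y : G, orderOf x = 2 → orderOf y = 2 → ∃ g : G, g * x * g⁻¹ = y)
    (hpar : Odd k ∨ p ^ k = 9) : Group.IsSolvable G := by
  classical
  haveI : Fact (Nat.Prime 2) := ⟨Nat.prime_two⟩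
  -- the odd core
  haveI : Nonempty {K : Subgroup G // K.Normal ∧ Odd (Nat.card K)} :=
    ⟨⟨⊥, inferInstance, by rw [Subgroup.card_bot]; exact odd_one⟩⟩
  obtain ⟨⟨K, hKn, hK⟩, hmax⟩ := Finite.exists_max
    fun K : {K : Subgroup G // K.Normal ∧ Odd (Nat.card K)} => Nat.card K.1
  haveI := hKn
  set π := QuotientGroup.mk' K
  have hodd : ∀ L : Subgroup (G ⧸ K), L.Normal → Odd (Nat.card L) → L = ⊥ := by
    intro L hL hLo
    have hc : Nat.card (L.comap π) = Nat.card L * Nat.card K := by
      have h1 := Subgroup.index_mul_card (L.comap π)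
      rw [Subgroup.index_comap_of_surjective _ (QuotientGroup.mk'_surjective K),
        Subgroup.card_eq_card_quotient_mul_card_subgroup K, ← L.index_mul_card, mul_assoc] at h1
      exact Nat.eq_of_mul_eq_mul_left (Nat.pos_of_ne_zero L.index_ne_zero_of_finite) h1
    have h2 := hmax ⟨L.comap π, hL.comap π, by rw [hc]; exact hLo.mul hK⟩
    simp only [hc] at h2
    refine Subgroup.card_eq_one.1 ?_
    have hL0 : 0 < Nat.card L := Nat.card_pos
    have hK0 : 0 < Nat.card K := Nat.card_pos
    nlinarith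
  obtain ⟨⟨t, ht⟩⟩ : Nonempty {x : G // orderOf x = 2} := by
    have hne : Nat.card {x : G // orderOf x = 2} ≠ 0 := by rw [hcard]; exact (pow_pos hp.pos k).ne'
    exact (Nat.card_ne_zero.1 hne).1
  obtain ⟨htt, ht1⟩ := orderOf_two_iff.1 ht
  have hπt : orderOf (π t) = 2 := by
    refine orderOf_two_iff.2 ⟨by rw [← map_mul, htt, map_one], fun h => ?_⟩
    have h3 := orderOf_dvd_natCard (⟨t, (QuotientGroup.eq_one_iff t).1 h⟩ : K)
    rw [Subgroup.orderOf_mk, ht] at h3
    exact Nat.not_even_iff_odd.2 hK (even_iff_two_dvd.2 h3)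
  have hlift : ∀ x : G ⧸ K, orderOf x = 2 → ∃ g : G, orderOf g = 2 ∧ π g = x := by
    intro x hx
    obtain ⟨hxx, hx1⟩ := orderOf_two_iff.1 hx
    obtain ⟨g, rfl⟩ := QuotientGroup.mk'_surjective K x
    have hgg : g * g ∈ K := (QuotientGroup.eq_one_iff (g * g)).1 hxx
    have hodd' : π (g ^ Nat.card K) = π g := by
      obtain ⟨i, hi⟩ := hK
      rw [map_pow, hi, pow_succ, pow_mul, pow_two, hxx, one_pow, one_mul]
    refine ⟨g ^ Nat.card K, orderOf_two_iff.2 ⟨?_, fun h => hx1 (by rw [← hodd', h, map_one])⟩, hodd'⟩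
    rw [← pow_add, ← two_mul, pow_mul, pow_two]
    exact congrArg Subtype.val (pow_card_eq_one' : (⟨g * g, hgg⟩ : K) ^ Nat.card K = 1)
  have hconjX : ∀ x y : G ⧸ K, orderOf x = 2 → orderOf y = 2 → ∃ z, z * x * z⁻¹ = y := by
    intro x y hx hy
    obtain ⟨a, ha, rfl⟩ := hlift x hx
    obtain ⟨b, hb, rfl⟩ := hlift y hy
    obtain ⟨g, hg⟩ := hconj a b ha hb
    exact ⟨π g, by rw [← map_inv, ← map_mul, ← map_mul, hg]⟩
  -- an abelian normal subgroup containing all involutions
  set N := (Subgroup.normalClosure ({t} : Set G)).map π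
  haveI hNn : N.Normal :=
    (Subgroup.normalClosure_normal).map π (QuotientGroup.mk'_surjective K)
  haveI : Group.IsSolvable N := by
    haveI := Cfsg.Agent.S4037.result t hp k (by
      rw [← hcard, ← Nat.card_coe_set_eq]
      refine Nat.card_congr (Equiv.subtypeEquivRight fun y => ?_)
      rw [ConjClasses.mem_carrier_iff_mk_eq, ConjClasses.mk_eq_mk_iff_isConj]
      constructor
      · intro h
        obtain ⟨g, hg⟩ := isConj_iff.1 h.symm
        rw [← hg, show g * t * g⁻¹ = MulAut.conj g t from rfl, MulEquiv.orderOf_eq, ht]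
      · intro h
        exact isConj_iff.2 (hconj y t h ht))
    exact Group.isSolvable_of_surjective (f := π.subgroupMap (Subgroup.normalClosure ({t} : Set G)))
      (MonoidHom.subgroupMap_surjective _ _)
  obtain ⟨nn, hnn⟩ := (inferInstance : Group.IsSolvable N).solvable
  have hex : ∃ i, derivedSeries N i = ⊥ := ⟨nn, hnn⟩
  have hN1 : Nat.find hex ≠ 0 := fun h0 => by
    have h := Nat.find_spec hex
    rw [h0, derivedSeries_zero] at h
    have : (⟨π t, Subgroup.mem_map_of_mem π (Subgroup.subset_normalClosure rfl)⟩ : N) ∈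
        (⊤ : Subgroup N) := Subgroup.mem_top _
    rw [h, Subgroup.mem_bot] at this
    exact (orderOf_two_iff.1 hπt).2 (congrArg Subtype.val this)
  obtain ⟨i, hi⟩ := Nat.exists_eq_succ_of_ne_zero hN1
  have hD : derivedSeries N i ≠ ⊥ := Nat.find_min hex (show i < Nat.find hex by omega)
  have hDc : ⁅derivedSeries N i, derivedSeries N i⁆ = ⊥ := by
    have := Nat.find_spec hex
    rwa [hi, derivedSeries_succ] at this
  set A := (derivedSeries N i).map N.subtype
  haveI hAn : A.Normal := inferInstance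
  have hAc : ∀ a ∈ A, ∀ b ∈ A, a * b = b * a := by
    rintro _ ⟨a, ha, rfl⟩ _ ⟨b, hb, rfl⟩
    have h := (Subgroup.commutator_eq_bot_iff_le_centralizer.1 hDc) hb a ha
    exact congrArg Subtype.val h
  obtain ⟨z, hzA, hz⟩ : ∃ z ∈ A, orderOf z = 2 := by
    have hne : ¬ Odd (Nat.card A) := fun h => by
      have := hodd A hAn h
      exact hD ((Subgroup.map_eq_bot_iff_of_injective _ N.subtype_injective).1 this)
    rw [Nat.not_odd_iff_even, even_iff_two_dvd] at hne
    obtain ⟨⟨z, hz⟩, hz2⟩ := exists_prime_orderOf_dvd_card' 2 hne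
    exact ⟨z, hz, by rwa [Subgroup.orderOf_mk] at hz2⟩
  have hAall : ∀ x : G ⧸ K, orderOf x = 2 → x ∈ A := fun x hx => by
    obtain ⟨g, hg⟩ := hconjX z x hz hx
    rw [← hg]
    exact hAn.conj_mem _ hzA g
  have hallI : ∀ x : G ⧸ K, x * x = 1 → x ∈ A := fun x hx => by
    by_cases h1 : x = 1
    · exact h1 ▸ A.one_mem
    · exact hAall x (orderOf_two_iff.2 ⟨hx, h1⟩)
  let E : Subgroup (G ⧸ K) :=
    { carrier := {x | x * x = 1}
      one_mem' := one_mul 1
      mul_mem' := fun {a b} ha hb => by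
        show a * b * (a * b) = 1
        rw [show a * b * (a * b) = a * (b * a) * b by group, hAc b (hallI b hb) a (hallI a ha),
          show a * (a * b) * b = a * a * (b * b) by group, ha, hb, one_mul]
      inv_mem' := fun {a} ha => by
        show a⁻¹ * a⁻¹ = 1
        rw [← mul_inv_rev, show a * a = 1 from ha, inv_one] }
  have hI : Inv E :=
    { normal := ⟨fun e he g => by
        show g * e * g⁻¹ * (g * e * g⁻¹) = 1
        rw [show g * e * g⁻¹ * (g * e * g⁻¹) = g * (e * e) * g⁻¹ by group,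
          show e * e = 1 from he, mul_one, mul_inv_cancel]⟩
      exp := fun e he => he
      invol := fun x hx => hx }
  obtain ⟨r, hr⟩ := IsPGroup.iff_card.1 (two_group hI)
  have hcardE : Nat.card E = Nat.card {x : G ⧸ K // orderOf x = 2} + 1 := by
    rw [← Finite.card_option]
    refine Nat.card_congr ((Equiv.optionSubtypeNe (1 : E)).symm.trans (Equiv.optionCongr ?_))
    exact ⟨fun x => ⟨x.1.1, orderOf_two_iff.2 ⟨x.1.2, fun e => x.2 (Subtype.ext e)⟩⟩,
      fun x => ⟨⟨x.1, (orderOf_two_iff.1 x.2).1⟩, fun e =>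
        (orderOf_two_iff.1 x.2).2 (congrArg Subtype.val e)⟩, fun _ => rfl, fun _ => rfl⟩
  -- the number of involutions of the quotient
  set m := Nat.card {x : G ⧸ K // orderOf x = 2}
  have hm : m ∣ p ^ k := by
    rw [← hcard, card_inv_eq_index hconj ht, show m = (Subgroup.centralizer ({π t} : Set (G ⧸ K))).index
      from card_inv_eq_index hconjX hπt,
      ← Subgroup.index_comap_of_surjective _ (QuotientGroup.mk'_surjective K)]
    refine Subgroup.index_dvd_of_le fun g hg => ?_
    refine Subgroup.mem_comap.2 ?_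
    rw [Subgroup.mem_centralizer_singleton_iff] at hg ⊢
    rw [← map_mul, hg, map_mul]
  obtain ⟨j, -, hj⟩ := (Nat.dvd_prime_pow hp).1 hm
  rw [hcardE, hj] at hr
  rcases pow_eq_one_or_prime hp hp2 hr with rfl | rfl
  · refine isSolvable_of_unique hp hcard hconj hpar K hK ht fun s hs => ?_
    rw [← QuotientGroup.eq]
    rw [pow_zero] at hj
    haveI : Subsingleton {x : G ⧸ K // orderOf x = 2} :=
      (Nat.card_eq_one_iff_unique.1 hj).1
    have hπs : orderOf (π s) = 2 := by
      refine orderOf_two_iff.2 ⟨by rw [← map_mul, (orderOf_two_iff.1 hs).1, map_one], fun h => ?_⟩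
      have h3 := orderOf_dvd_natCard (⟨s, (QuotientGroup.eq_one_iff s).1 h⟩ : K)
      rw [Subgroup.orderOf_mk, hs] at h3
      exact Nat.not_even_iff_odd.2 hK (even_iff_two_dvd.2 h3)
    exact congrArg Subtype.val
      (Subsingleton.elim (⟨π t, hπt⟩ : {x : G ⧸ K // orderOf x = 2}) ⟨π s, hπs⟩)
  · rw [pow_one] at hr hj
    have hS : Single E r p :=
      { card := by rw [hcardE, hj, hr]
        prime := hp
        eq := hr
        trans := fun a ha b hb ha1 hb1 =>
          hconjX a b (orderOf_two_iff.2 ⟨ha, ha1⟩) (orderOf_two_iff.2 ⟨hb, hb1⟩) }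
    haveI := isSolvable_of_single hI hS
    haveI := Cfsg.Agent.S0205.result hK
    exact (Group.isSolvable_iff_subgroup_quotient K).2 ⟨inferInstance, inferInstance⟩

end CfsgLib.Pyramidal
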