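import Cfsg.Agent.Lib.Pyramidal.Cases

/-!
# The involutions cannot carry the whole linear group of dimension at least three
-/

namespace CfsgLib.Pyramidal

open CfsgLib.LinTwo

/-- An automorphism of a group through coordinates. -/
def autOf {G A : Type*} [Group G] [AddCommGroup A] (ι : G ≃ A) (hι : ∀ a b, ι (a * b) = ι a + ι b)
    (F : A ≃+ A) : MulAut G where
  toFun g := ι.symm (F (ι g))
  invFun g := ι.symm (F.symm (ι g))
  left_inv g := by simp
  right_inv g := by simp
  map_mul' a b := ι.injective (by simp [hι])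

lemma autOf_apply {G A : Type*} [Group G] [AddCommGroup A] (ι : G ≃ A)
    (hι : ∀ a b, ι (a * b) = ι a + ι b) (F : A ≃+ A) (g : G) :
    ι (autOf ι hι F g) = F (ι g) := ι.apply_symm_apply _

lemma two_group {X : Type*} [Group X] {E : Subgroup X} (hI : Inv E) : IsPGroup 2 E := fun e =>
  ⟨1, Subtype.ext (by rw [pow_one, SubmonoidClass.coe_pow, pow_two]; exact hI.exp e.1 e.2)⟩

/-- Dimension three. -/
theorem no_gl_three : ∀ (n : ℕ) {X : Type*} [Group X] [Finite X], Nat.card X = n →
    ∀ {E : Subgroup X} (hI : Inv E), Nat.card E = 2 ^ 3 → Function.Surjective hI.conj → False := by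
  intro n
  induction n using Nat.strong_induction_on with
  | _ n ih =>
    intro X _ _ hn E hI hcard hfull
    haveI : Fact (Nat.Prime 2) := ⟨Nat.prime_two⟩
    letI := hI.commGroup
    letI := hI.module
    have hrk : Module.finrank K2 (Additive E) = Module.finrank K2 V3 := by
      rw [Module.finrank_fin_fun]
      have h := Module.natCard_eq_pow_finrank (K := K2) (V := Additive E)
      rw [show Nat.card (Additive E) = 2 ^ 3 from hcard, Nat.card_zmod] at h
      exact (Nat.pow_right_injective le_rfl h).symm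
    obtain ⟨l⟩ := FiniteDimensional.nonempty_linearEquiv_of_finrank_eq hrk
    let ι : E ≃ V3 := Additive.ofMul.trans l.toEquiv
    have hι : ∀ a b, ι (a * b) = ι a + ι b := fun a b =>
      map_add l (Additive.ofMul a) (Additive.ofMul b)
    have hsurj : ∀ f : V3 ≃+ V3, ∃ x : X, ∀ e : E, ι (hI.conj x e) = f (ι e) := fun f => by
      obtain ⟨x, hx⟩ := hfull (autOf ι hι f)
      exact ⟨x, fun e => by rw [hx, autOf_apply]⟩
    let T : Three E := ⟨hI, ι, hι, hsurj⟩
    obtain ⟨P⟩ : Nonempty (Sylow 2 (Subgroup.centralizer (E : Set X))) := inferInstance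
    by_cases hnorm : (top2 P).Normal
    · by_cases hab : ∀ a ∈ (P : Subgroup (Subgroup.centralizer (E : Set X))),
          ∀ b ∈ (P : Subgroup (Subgroup.centralizer (E : Set X))), a * b = b * a
      · exact false_of_comm T P hnorm hab
      · exact false_of_suzuki T P hnorm hab
    haveI := hI.normal
    set N := Subgroup.normalizer (top2 P : Set X) with hN
    have hNlt : Nat.card N < n := by
      rw [← hn]
      have hne : N ≠ ⊤ := fun h => hnorm (Subgroup.normalizer_eq_top_iff.1 h)
      exact lt_of_le_of_ne N.card_le_card_group fun h => hne (N.card_eq_iff_eq_top.1 h)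
    have hEN : E ≤ N := (E_le_top2 hI P).trans Subgroup.le_normalizer
    let eqv := Subgroup.subgroupOfEquivOfLe hEN
    refine ih _ hNlt (X := N) rfl (hI.restrict N) ((Nat.card_congr eqv.toEquiv).trans hcard) fun f => ?_
    obtain ⟨x, hx⟩ := hfull (eqv.symm.trans (f.trans eqv))
    have hF := Sylow.normalizer_sup_eq_top P
    have hxt : x ∈ N ⊔ Subgroup.centralizer (E : Set X) := hF.symm ▸ Subgroup.mem_top x
    rw [← SetLike.mem_coe, Subgroup.mul_normal] at hxt
    obtain ⟨m, hm, c, hc, rfl⟩ := hxt
    refine ⟨⟨m, hm⟩, MulEquiv.ext fun e => ?_⟩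
    have h1 := congrArg (fun a : MulAut E => ((a ⟨e.1.1, e.2⟩ : E) : X)) hx
    refine Subtype.ext (Subtype.ext ?_)
    show m * e.1.1 * m⁻¹ = _
    have hce : c * e.1.1 * c⁻¹ = e.1.1 := by
      have h2 : e.1.1 * c = c * e.1.1 := hc e.1.1 e.2
      rw [← h2, mul_inv_cancel_right]
    calc m * e.1.1 * m⁻¹ = m * (c * e.1.1 * c⁻¹) * m⁻¹ := by rw [hce]
      _ = m * c * e.1.1 * (m * c)⁻¹ := by group
      _ = _ := h1

/-- The order-three automorphism of the plane. -/
def rot : (K2 × K2) ≃+ (K2 × K2) where
  toFun v := (v.2, v.1 + v.2)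
  invFun v := (v.1 + v.2, v.1)
  left_inv := by decide
  right_inv := by decide
  map_add' := by decide

lemma rot_fix : ∀ v : K2 × K2, rot v = v → v = 0 := by decide
lemma rot_cube : ∀ v : K2 × K2, rot (rot (rot v)) = v := by decide

/-- The involutions do not carry the whole linear group in odd dimension at least three. -/
theorem no_gl : ∀ (r : ℕ), 3 ≤ r → Odd r → ∀ {X : Type*} [Group X] [Finite X] {E : Subgroup X}
    (hI : Inv E), Nat.card E = 2 ^ r → Function.Surjective hI.conj → False := by
  intro r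
  induction r using Nat.strong_induction_on with
  | _ r ih =>
    intro hr hodd X _ _ E hI hcard hfull
    by_cases h3 : r = 3
    · subst h3
      exact no_gl_three _ rfl hI hcard hfull
    have hr5 : 5 ≤ r := by
      obtain ⟨k, hk⟩ := hodd
      omega
    haveI : Fact (Nat.Prime 2) := ⟨Nat.prime_two⟩
    haveI : Fact (Nat.Prime 3) := ⟨Nat.prime_three⟩
    letI := hI.commGroup
    letI := hI.module
    have hrk : Module.finrank K2 (Additive E) =
        Module.finrank K2 ((K2 × K2) × (Fin (r - 2) → K2)) := by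
      rw [Module.finrank_prod, Module.finrank_prod, Module.finrank_self, Module.finrank_fin_fun]
      have h := Module.natCard_eq_pow_finrank (K := K2) (V := Additive E)
      rw [show Nat.card (Additive E) = 2 ^ r from hcard, Nat.card_zmod] at h
      have := Nat.pow_right_injective le_rfl h
      omega
    obtain ⟨l⟩ := FiniteDimensional.nonempty_linearEquiv_of_finrank_eq hrk
    let ι : E ≃ (K2 × K2) × (Fin (r - 2) → K2) := Additive.ofMul.trans l.toEquiv
    have hι : ∀ a b, ι (a * b) = ι a + ι b := fun a b =>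
      map_add l (Additive.ofMul a) (Additive.ofMul b)
    have hι1 : ι 1 = 0 := map_zero l
    let h : MulAut E := autOf ι hι (rot.prodCongr (AddEquiv.refl _))
    have hh : ∀ e, ι (h e) = (rot (ι e).1, (ι e).2) := fun e => autOf_apply _ _ _ e
    have hpow : h ^ 3 ^ 1 = 1 := by
      refine MulEquiv.ext fun e => ι.injective ?_
      show ι (h (h (h e))) = ι e
      rw [hh, hh, hh]
      exact Prod.ext (rot_cube _) rfl
    obtain ⟨S, hS3, hSmap, hSnorm⟩ := exists_frattini hI.conj hfull (p := 3) hpow
    set X' := Subgroup.normalizer (S : Set X) with hX'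
    have hmem : ∀ e : E, e.1 ∈ X' ↔ (ι e).1 = 0 := by
      intro e
      constructor
      · intro he
        obtain ⟨ĥ, hĥS, hĥ⟩ : ∃ ĥ ∈ S, hI.conj ĥ = h := Subgroup.mem_map.1
          (hSmap ▸ Subgroup.mem_zpowers h : h ∈ S.map hI.conj)
        have h1 : ĥ * e.1 * ĥ⁻¹ * e.1⁻¹ ∈ E :=
          mul_mem (hI.normal.conj_mem _ e.2 _) (inv_mem e.2)
        have h2 : ĥ * e.1 * ĥ⁻¹ * e.1⁻¹ ∈ S := by
          have := mul_mem hĥS ((Subgroup.mem_normalizer_iff.1 he _).1 (inv_mem hĥS))
          simpa [mul_assoc] using this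
        have h4 : h e = e := by
          rw [← hĥ]
          exact Subtype.ext (mul_inv_eq_one.1 (Subgroup.disjoint_def.1
            (IsPGroup.disjoint_of_ne 2 3 (by norm_num) _ _ (two_group hI) hS3) h1 h2))
        have h5 := congrArg (fun a => (ι a).1) h4
        simp only [hh] at h5
        exact rot_fix _ h5
      · intro he
        have hfix : ∀ s ∈ S, e.1 * s * e.1⁻¹ = s := by
          intro s hs
          have hs' : hI.conj s ∈ Subgroup.zpowers h := hSmap ▸ Subgroup.mem_map_of_mem _ hs
          have hle : Subgroup.zpowers h ≤ MulAction.stabilizer (MulAut E) e := by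
            rw [Subgroup.zpowers_le, MulAction.mem_stabilizer_iff]
            refine ι.injective ?_
            show ι (h e) = ι e
            rw [hh, he, map_zero, ← he]
          have h1 : s * e.1 * s⁻¹ = e.1 := congrArg Subtype.val (hle hs')
          calc e.1 * s * e.1⁻¹ = e.1 * (s * e.1⁻¹) := by group
            _ = (s * e.1 * s⁻¹) * (s * e.1⁻¹) := by rw [h1]
            _ = s := by group
        refine Subgroup.mem_normalizer_iff.2 fun s => ⟨fun hs => by rwa [hfix s hs], fun hs => ?_⟩
        have := hfix _ hs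
        have h2 : e.1 * s * e.1⁻¹ = s := by
          have h3 := congrArg (fun y => e.1⁻¹ * y * e.1) this
          simpa [mul_assoc] using h3
        rwa [h2] at hs
    let κ : E.subgroupOf X' ≃ (Fin (r - 2) → K2) :=
      { toFun := fun e => (ι ⟨e.1.1, e.2⟩).2
        invFun := fun w => ⟨⟨(ι.symm (0, w)).1, (hmem _).2 (by rw [Equiv.apply_symm_apply])⟩,
          (ι.symm (0, w)).2⟩
        left_inv := fun e => by
          refine Subtype.ext (Subtype.ext ?_)
          show (ι.symm (0, (ι ⟨e.1.1, e.2⟩).2)).1 = e.1.1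
          rw [show ((0 : K2 × K2), (ι ⟨e.1.1, e.2⟩).2) = ι ⟨e.1.1, e.2⟩ from
            Prod.ext ((hmem ⟨e.1.1, e.2⟩).1 e.1.2).symm rfl, Equiv.symm_apply_apply]
        right_inv := fun w => by
          show (ι (ι.symm (0, w))).2 = w
          rw [Equiv.apply_symm_apply] }
    have hκ : ∀ a b, κ (a * b) = κ a + κ b := fun a b =>
      congrArg Prod.snd (hι ⟨a.1.1, a.2⟩ ⟨b.1.1, b.2⟩)
    refine ih (r - 2) (by omega) (by omega) (by obtain ⟨k, hk⟩ := hodd; exact ⟨k - 1, by omega⟩)
      (hI.restrict X') ((Nat.card_congr κ).trans (by simp [Nat.card_eq_fintype_card])) fun f => ?_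
    let F : (Fin (r - 2) → K2) ≃+ (Fin (r - 2) → K2) :=
      { κ.symm.trans (f.toEquiv.trans κ) with
        map_add' := fun u v => by
          obtain ⟨a, rfl⟩ := κ.surjective u
          obtain ⟨b, rfl⟩ := κ.surjective v
          simp [← hκ] }
    let g : MulAut E := autOf ι hι ((AddEquiv.refl (K2 × K2)).prodCongr F)
    have hg : ∀ e, ι (g e) = ((ι e).1, F (ι e).2) := fun e => autOf_apply _ _ _ e
    have hcom : g * h = h * g := MulEquiv.ext fun e => ι.injective (by
      show ι (g (h e)) = ι (h (g e))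
      rw [hh, hg, hg, hh])
    have hgN : g ∈ Subgroup.normalizer (Subgroup.zpowers h : Set (MulAut E)) := by
      refine Subgroup.mem_normalizer_iff.2 fun z => ?_
      have hconj : ∀ z ∈ Subgroup.zpowers h, g * z * g⁻¹ = z := by
        intro z hz
        obtain ⟨k, rfl⟩ := Subgroup.mem_zpowers_iff.1 hz
        rw [((show Commute g h from hcom).zpow_right k).eq, mul_inv_cancel_right]
      refine ⟨fun hz => by rwa [hconj z hz], fun hz => ?_⟩
      have h2 := hconj _ hz
      have h3 : g * z * g⁻¹ = z := by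
        have h4 := congrArg (fun y => g⁻¹ * y * g) h2
        simpa [mul_assoc] using h4
      rwa [h3] at hz
    obtain ⟨x, hx, hxg⟩ := hSnorm g hgN
    refine ⟨⟨x, hx⟩, MulEquiv.ext fun e => κ.injective ?_⟩
    have h1 := congrArg (fun a : MulAut E => ι (a ⟨e.1.1, e.2⟩)) hxg
    simp only [hg] at h1
    show (ι (hI.conj x ⟨e.1.1, e.2⟩)).2 = κ (f e)
    rw [h1]
    show F (κ e) = κ (f e)
    simp [F]

end CfsgLib.Pyramidal
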