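import Cfsg.Agent.Lib.Pyramidal.Basic

/-!
# Lifting elements of the linear group of the involutions
-/

namespace CfsgLib.Pyramidal

/-- An element `x` has a power of `p`-power order with the same image as `x`, when the image has
`p`-power order. -/
lemma exists_pow_lift {X G : Type*} [Group X] [Finite X] [Group G] (f : X →* G) {p : ℕ}
    (hp : p.Prime) (x : X) {a : ℕ} (ha : f x ^ p ^ a = 1) :
    ∃ n : ℕ, (∃ i, (x ^ n) ^ p ^ i = 1) ∧ f (x ^ n) = f x := by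
  obtain ⟨i, k, hk, hik⟩ := Nat.exists_eq_pow_mul_and_not_dvd (orderOf_pos x).ne' p hp.ne_one
  refine ⟨k ^ (p ^ a).totient, ⟨i, ?_⟩, ?_⟩
  · rw [← pow_mul]
    apply orderOf_dvd_iff_pow_eq_one.1
    rw [hik, mul_comm (p ^ i)]
    exact mul_dvd_mul_right (dvd_pow_self k (Nat.totient_pos.2 (pow_pos hp.pos a)).ne') _
  · have hco : k.Coprime (p ^ a) :=
      Nat.Coprime.pow_right a ((hp.coprime_iff_not_dvd.2 hk).symm)
    rw [map_pow]
    conv_rhs => rw [← pow_one (f x)]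
    exact pow_eq_pow_iff_modEq.2 ((Nat.ModEq.pow_totient hco).of_dvd (orderOf_dvd_of_pow_eq_one ha))

/-- Frattini: above a cyclic `p`-subgroup `⟨h⟩` of the image there is a `p`-subgroup whose
normaliser maps onto the normaliser of `⟨h⟩`. -/
lemma exists_frattini {X G : Type*} [Group X] [Finite X] [Group G] (f : X →* G)
    (hf : Function.Surjective f) {p : ℕ} [Fact p.Prime] {h : G} {a : ℕ} (ha : h ^ p ^ a = 1) :
    ∃ S : Subgroup X, IsPGroup p S ∧ S.map f = Subgroup.zpowers h ∧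
      ∀ g : G, g ∈ Subgroup.normalizer (Subgroup.zpowers h : Set G) →
        ∃ x ∈ Subgroup.normalizer (S : Set X), f x = g := by
  set Z := Subgroup.zpowers h
  set H := Z.comap f
  let f' : H →* Z := f.subgroupComap Z
  have hsurj : Function.Surjective f' := fun z => by
    obtain ⟨x, hx⟩ := hf z.1
    exact ⟨⟨x, show f x ∈ Z by rw [hx]; exact z.2⟩, Subtype.ext hx⟩
  obtain ⟨P⟩ : Nonempty (Sylow p H) := inferInstance
  haveI : Finite Z := Finite.of_surjective f' hsurj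
  have hZ : IsPGroup p Z := fun z => by
    refine ⟨a, Subtype.ext ?_⟩
    obtain ⟨k, hk⟩ := Subgroup.mem_zpowers_iff.1 z.2
    rw [SubmonoidClass.coe_pow, ← hk, ← zpow_natCast, ← zpow_mul, mul_comm, zpow_mul, zpow_natCast,
      ha, one_zpow]
    rfl
  have htop : ((P.mapSurjective hsurj : Sylow p Z) : Subgroup Z) = ⊤ := by
    exact ((P.mapSurjective hsurj).is_maximal' (hZ.of_equiv Subgroup.topEquiv.symm) le_top).symm
  have hon : ∀ z ∈ Z, ∃ s ∈ (P : Subgroup H), f s.1 = z := fun z hz => by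
    have : (⟨z, hz⟩ : Z) ∈ ((P.mapSurjective hsurj : Sylow p Z) : Subgroup Z) := htop ▸ trivial
    obtain ⟨s, hs, hsz⟩ := Subgroup.mem_map.1 this
    exact ⟨s, hs, congrArg Subtype.val hsz⟩
  refine ⟨(P : Subgroup H).map H.subtype, P.isPGroup'.map _, ?_, fun g hg => ?_⟩
  · refine le_antisymm ?_ fun z hz => ?_
    · rintro _ ⟨_, ⟨s, -, rfl⟩, rfl⟩
      exact s.2
    · obtain ⟨s, hs, hsz⟩ := hon z hz
      exact ⟨s.1, ⟨s, hs, rfl⟩, hsz⟩
  · obtain ⟨x, rfl⟩ := hf g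
    have hx : x ∈ Subgroup.normalizer (H : Set X) := Subgroup.mem_normalizer_iff.2 fun y => by
      show f y ∈ Z ↔ f (x * y * x⁻¹) ∈ Z
      rw [map_mul, map_mul, map_inv]
      exact Subgroup.mem_normalizer_iff.1 hg (f y)
    let α : MulAut H := H.normalizerMonoidHom ⟨x, hx⟩
    have hP' : IsPGroup p ((P : Subgroup H).map α.toMonoidHom) := P.isPGroup'.map _
    obtain ⟨P', hP'le⟩ := hP'.exists_le_sylow
    obtain ⟨c, hc⟩ := MulAction.exists_smul_eq H P' P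
    obtain ⟨s, hs, hsc⟩ := hon (f c.1) c.2
    have key : ∀ y ∈ (P : Subgroup H), s⁻¹ * c * α y * (s⁻¹ * c)⁻¹ ∈ (P : Subgroup H) := by
      intro y hy
      have h1 : c * α y * c⁻¹ ∈ (P : Subgroup H) := by
        rw [← hc, Sylow.coe_subgroup_smul, Subgroup.mem_pointwise_smul_iff_inv_smul_mem]
        simpa [MulAut.conj_inv_apply, mul_assoc] using hP'le ⟨y, hy, rfl⟩
      have h2 := mul_mem (mul_mem (inv_mem hs) h1) hs
      simpa [mul_assoc] using h2
    refine ⟨(s.1)⁻¹ * c.1 * x, ?_, by rw [map_mul, map_mul, map_inv, hsc, inv_mul_cancel, one_mul]⟩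
    set S := (P : Subgroup H).map H.subtype
    haveI : Finite S := inferInstance
    refine Subgroup.mem_normalizer_iff_conj_image_eq.2 ?_
    refine Set.eq_of_subset_of_ncard_le ?_ (le_of_eq ?_) (Set.toFinite _)
    · rintro _ ⟨_, ⟨y, hy, rfl⟩, rfl⟩
      refine ⟨_, key y hy, ?_⟩
      show (s.1)⁻¹ * c.1 * (x * y.1 * x⁻¹) * ((s.1)⁻¹ * c.1)⁻¹ = _
      simp only [MulAut.conj_apply, Subgroup.coe_subtype]
      group
    · rw [Set.ncard_image_of_injective _ (MulEquiv.injective _)]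

/-- Vectors over the field with two elements in dimension three. -/
abbrev V3 := Fin 3 → ZMod 2

/-- The setting: the group induces every automorphism of `E` which has order 8. -/
structure Three {X : Type*} [Group X] (E : Subgroup X) where
  inv : Inv E
  ι : E ≃ V3
  ι_mul : ∀ a b, ι (a * b) = ι a + ι b
  surj : ∀ f : V3 ≃+ V3, ∃ x : X, ∀ e : E, ι (inv.conj x e) = f (ι e)

namespace Three

variable {X : Type*} [Group X] {E : Subgroup X} (T : Three E)

/-- The action on the coordinates. -/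
def ρ : X →* Equiv.Perm V3 where
  toFun x := T.ι.symm.trans ((T.inv.conj x).toEquiv.trans T.ι)
  map_one' := Equiv.ext fun v => by simp
  map_mul' x y := Equiv.ext fun v => by simp

lemma ρ_apply (x : X) (e : E) : T.ρ x (T.ι e) = T.ι (T.inv.conj x e) := by simp [ρ]

lemma ι_one : T.ι 1 = 0 := by
  have h := T.ι_mul 1 1
  rw [mul_one] at h
  exact left_eq_add.1 h

lemma ρ_add (x : X) (u v : V3) : T.ρ x (u + v) = T.ρ x u + T.ρ x v := by
  obtain ⟨a, rfl⟩ := T.ι.surjective u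
  obtain ⟨b, rfl⟩ := T.ι.surjective v
  rw [← T.ι_mul, T.ρ_apply, T.ρ_apply, T.ρ_apply, map_mul, T.ι_mul]

lemma ρ_zero (x : X) : T.ρ x 0 = 0 := by
  rw [← T.ι_one, T.ρ_apply, map_one]

lemma ρ_eq_one (x : X) : T.ρ x = 1 ↔ x ∈ Subgroup.centralizer (E : Set X) := by
  rw [← T.inv.conj_eq_one_iff]
  constructor
  · intro h
    refine MulEquiv.ext fun e => T.ι.injective ?_
    rw [← T.ρ_apply, h]
    rfl
  · intro h
    refine Equiv.ext fun v => ?_
    obtain ⟨e, rfl⟩ := T.ι.surjective v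
    rw [T.ρ_apply, h]
    rfl

lemma exists_lift (f : V3 → V3) (hadd : ∀ u v, f (u + v) = f u + f v)
    (hinj : ∀ u v, f u = f v → u = v) : ∃ x : X, ∀ v, T.ρ x v = f v := by
  obtain ⟨x, hx⟩ := T.surj
    (AddEquiv.ofBijective (AddMonoidHom.mk' f hadd) (Finite.injective_iff_bijective.1 hinj))
  refine ⟨x, fun v => ?_⟩
  obtain ⟨e, rfl⟩ := T.ι.surjective v
  rw [T.ρ_apply, hx]
  rfl

lemma ρ_surj (g : Equiv.Perm V3) (hadd : ∀ u v, g (u + v) = g u + g v) : ∃ x : X, T.ρ x = g := by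
  obtain ⟨x, hx⟩ := T.exists_lift g hadd fun u v h => g.injective h
  exact ⟨x, Equiv.ext hx⟩

/-- A lift of an element of `p`-power order can be taken of `p`-power order. -/
lemma exists_prime_lift [Finite X] {p : ℕ} (hp : p.Prime) (f : V3 → V3)
    (hadd : ∀ u v, f (u + v) = f u + f v) (hinj : ∀ u v, f u = f v → u = v) {a : ℕ}
    (ha : ∀ v, f^[p ^ a] v = v) : ∃ x : X, (∀ v, T.ρ x v = f v) ∧ ∃ i, x ^ p ^ i = 1 := by
  obtain ⟨x, hx⟩ := T.exists_lift f hadd hinj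
  have h1 : T.ρ x ^ p ^ a = 1 := Equiv.ext fun v => by
    rw [Equiv.Perm.coe_pow, funext hx]
    exact ha v
  obtain ⟨n, hn, hn'⟩ := exists_pow_lift T.ρ hp x h1
  exact ⟨x ^ n, fun v => by rw [hn', hx], hn⟩

/-- The transvection fixing the kernel of `φ` and translating by `d`. -/
def transv (φ d : V3) (v : V3) : V3 := v + (φ 0 * v 0 + φ 1 * v 1 + φ 2 * v 2) • d

lemma exists_transv (φ d : V3) (h : φ 0 * d 0 + φ 1 * d 1 + φ 2 * d 2 = 0) :
    ∃ x : X, ∀ v, T.ρ x v = transv φ d v := by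
  have hadd : ∀ u v, transv φ d (u + v) = transv φ d u + transv φ d v := by
    intro u v
    simp only [transv, Pi.add_apply, mul_add, add_smul]
    abel
  have hff : ∀ v, transv φ d (transv φ d v) = v := by
    intro v
    simp only [transv, Pi.add_apply, Pi.smul_apply, smul_eq_mul]
    rw [show φ 0 * (v 0 + (φ 0 * v 0 + φ 1 * v 1 + φ 2 * v 2) * d 0) +
        φ 1 * (v 1 + (φ 0 * v 0 + φ 1 * v 1 + φ 2 * v 2) * d 1) +
        φ 2 * (v 2 + (φ 0 * v 0 + φ 1 * v 1 + φ 2 * v 2) * d 2) =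
      (φ 0 * v 0 + φ 1 * v 1 + φ 2 * v 2) +
        (φ 0 * v 0 + φ 1 * v 1 + φ 2 * v 2) * (φ 0 * d 0 + φ 1 * d 1 + φ 2 * d 2) by ring,
      h, mul_zero, add_zero, add_assoc, ZModModule.add_self, add_zero]
  exact T.exists_lift _ hadd fun u v e => by rw [← hff u, e, hff]

include T in
lemma card_E : Nat.card E = 2 ^ 3 := by
  rw [Nat.card_congr T.ι, Nat.card_eq_fintype_card]
  rfl

include T in
lemma trans {a b : X} (ha : a ∈ E) (hb : b ∈ E) (ha1 : a ≠ 1) (hb1 : b ≠ 1) :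
    ∃ x : X, x * a * x⁻¹ = b := by
  have key : ∀ a b : V3, a ≠ 0 → b ≠ 0 → a ≠ b → ∃ φ : V3,
      φ 0 * a 0 + φ 1 * a 1 + φ 2 * a 2 = 1 ∧ φ 0 * b 0 + φ 1 * b 1 + φ 2 * b 2 = 1 := by
    decide +kernel
  by_cases hab : a = b
  · exact ⟨1, by rw [hab]; group⟩
  have hne : ∀ {e : X} (he : e ∈ E), e ≠ 1 → T.ι ⟨e, he⟩ ≠ 0 := fun he h1 h => h1
    (congrArg Subtype.val (T.ι.injective (h.trans T.ι_one.symm)))
  obtain ⟨φ, h1, h2⟩ := key _ _ (hne ha ha1) (hne hb hb1) fun h => hab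
    (congrArg Subtype.val (T.ι.injective h))
  obtain ⟨x, hx⟩ := T.exists_transv φ (T.ι ⟨a, ha⟩ + T.ι ⟨b, hb⟩) (by
    simp only [Pi.add_apply, mul_add]
    calc _ = (φ 0 * T.ι ⟨a, ha⟩ 0 + φ 1 * T.ι ⟨a, ha⟩ 1 + φ 2 * T.ι ⟨a, ha⟩ 2) +
          (φ 0 * T.ι ⟨b, hb⟩ 0 + φ 1 * T.ι ⟨b, hb⟩ 1 + φ 2 * T.ι ⟨b, hb⟩ 2) := by ring
      _ = 0 := by rw [h1, h2]; rfl)
  refine ⟨x, ?_⟩
  have h3 := hx (T.ι ⟨a, ha⟩)
  rw [transv, h1, one_smul, ← add_assoc, ZModModule.add_self, zero_add, T.ρ_apply] at h3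
  exact congrArg Subtype.val (T.ι.injective h3)

end Three

end CfsgLib.Pyramidal
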